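import Cfsg.Agent.DS.NT.StepA
import Cfsg.Agent.H197.Ab.TorLift
import Cfsg.Agent.H129.TorusChar
import Cfsg.Agent.H752.EP.Torus
import Cfsg.Agent.S1092
import Cfsg.Agent.S1093

/-!
# DS: the `s`-ranks of the exceptional groups, `s` not the characteristic (helper55)

* `rank_alg`, `rank_chev`, `rank_gen` : the `s`-rank is at most `l + e` if `s ^ (e + 1)` does not divide `|W|`;
* `rk_G2`, ..., `rk_E8`, `rk_GL` : the instances;
* `boxExcRank : BoxExcRank`.
-/

set_option autoImplicit false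
set_option linter.unusedSectionVars false

namespace Cfsg.Agent.DS.Rank

open Cfsg Cfsg.Lie Cfsg.Agent.DS.NT Cfsg.Agent.H936
open Cfsg.Agent.ChevalleyStructure Cfsg.Agent.ChevalleyStructure.Elts Cfsg.Agent.ChevalleyStructure.CoxeterGeom
  Cfsg.Agent.ChevalleyStructure.CoxeterGeomTypes Cfsg.Agent.ChevalleyStructure.NPerm
open Cfsg.Agent.Tits.Roots Cfsg.Agent.Tits.Core Cfsg.Agent.Nodes.Reps Cfsg.Agent.Nodes.BNOf Cfsg.Agent.Nodes.Bruhat
  Cfsg.Agent.Nodes.RGDChev Cfsg.Agent.H129.TorusChar Cfsg.Agent.BpExc Cfsg.Agent.BpExc.TorAll Cfsg.Agent.GpExc.Field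
  Cfsg.Agent.KFacts.RgdField Cfsg.Agent.KFacts.RgdChevCoord

universe u

theorem roots_le {k : Type*} [Field k] {s : ℕ} (hs : 0 < s) :
    Finite {c : k // c ^ s = 1} ∧ Nat.card {c : k // c ^ s = 1} ≤ s := by
  classical
  have h1 : ∀ c : k, c ∈ Polynomial.nthRootsFinset s (1 : k) ↔ c ^ s = 1 := fun c =>
    Polynomial.mem_nthRootsFinset hs 1
  have e : {c : k // c ^ s = 1} ≃ ↥(Polynomial.nthRootsFinset s (1 : k)) :=
    Equiv.subtypeEquivRight fun c => (h1 c).symm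
  refine ⟨Finite.of_equiv _ e.symm, ?_⟩
  rw [Nat.card_congr e, Nat.card_eq_fintype_card, Fintype.card_coe]
  exact (Multiset.toFinset_card_le _).trans (Polynomial.card_nthRoots s 1)

theorem rankLe_mono {X : Type*} [Group X] {s m n : ℕ} (hs : 0 < s) (h : RankLe X s m) (hmn : m ≤ n) : RankLe X s n :=
  fun A h1 h2 => (h A h1 h2).trans (Nat.pow_le_pow_right hs hmn)

theorem card_pow_of_exp {X : Type*} [Group X] [Finite X] {s : ℕ} (hs : s.Prime) (h : ∀ x : X, x ^ s = 1) :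
    ∃ n, Nat.card X = s ^ n := by
  have : Fact s.Prime := ⟨hs⟩
  exact IsPGroup.iff_card.1 fun x => ⟨1, by rw [pow_one]; exact h x⟩

section chev

variable {D : ChevalleyDatum} {l : ℕ} {M : CoxeterMatrix (Fin l)} (hp : IsType D l M)

include hp in
/-- toral subgroups of exponent `s` -/
theorem card_toral_le {k : Type u} [Field k] {s : ℕ} (hs : 0 < s) (B : Subgroup ↥(D.group k)) (y : ↥(D.group k))
    (hB : ∀ x ∈ B, y * x * y⁻¹ ∈ TT D k) (hpow : ∀ x ∈ B, x ^ s = 1) : Nat.card B ≤ s ^ l := by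
  obtain ⟨hfin, hle⟩ := roots_le (k := k) hs
  have h1 : ∀ (x : B) (i : Fin l), cX hp (y * (x : ↥(D.group k)) * y⁻¹) (sr i) ^ s = 1 := by
    intro x i
    rw [← cX_pow hp (hB x x.2), conj_pow, hpow x x.2, mul_one, mul_inv_cancel, cX_one]
  have h2 : Nat.card B ≤ Nat.card (Fin l → {c : k // c ^ s = 1}) := by
    refine Nat.card_le_card_of_injective (fun x i => ⟨_, h1 x i⟩) fun x x' h => ?_
    have h3 := cX_inj hp (hB x x.2) (hB x' x'.2) fun i => congrArg Subtype.val (congrFun h i)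
    exact Subtype.ext (by simpa using h3)
  rw [Nat.card_fun, Nat.card_eq_fintype_card (α := Fin l), Fintype.card_fin] at h2
  exact h2.trans (Nat.pow_le_pow_left hle l)

include hp in
theorem rank_alg {k : Type u} [Field k] [IsAlgClosed k] {p : ℕ} [Fact p.Prime] [CharP k p] (hk : HAlg p k) {s e : ℕ}
    (hs : s.Prime) (hsp : s ≠ p) (hW : ¬ s ^ (e + 1) ∣ Nat.card M.Group) : RankLe ↥(D.group k) s (l + e) := by
  intro A hc hpow
  by_cases hfin : Finite A
  · obtain ⟨n, hn⟩ := card_pow_of_exp (X := A) hs fun x => Subtype.ext (hpow x x.2)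
    have hnp : ¬ p ∣ Nat.card A := by
      rw [hn]
      intro h
      exact hsp ((Nat.prime_dvd_prime_iff_eq Fact.out hs).1 ((Fact.out : p.Prime).dvd_of_dvd_pow h)).symm
    obtain ⟨B₀, y, m, hle, hT, hcard, hm⟩ := H197.Ab.TorLift.exists_toral_k hp p hk A hc hnp
    have h1 := card_toral_le hp hs.pos B₀ y hT fun x hx => hpow x (hle hx)
    have h2 : m ∣ s ^ n := by rw [← hn, hcard]; exact Dvd.intro_left _ rfl
    obtain ⟨j, -, rfl⟩ := (Nat.dvd_prime_pow hs).1 h2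
    have h3 : j ≤ e := by
      by_contra h
      exact hW ((pow_dvd_pow s (by omega)).trans hm)
    rw [hcard, pow_add]
    exact Nat.mul_le_mul h1 (Nat.pow_le_pow_right hs.pos h3)
  · have : Infinite A := not_finite_iff_infinite.1 hfin
    rw [Nat.card_eq_zero_of_infinite]
    exact Nat.zero_le _

include hp in
theorem rank_chev {K : Type u} [Field K] [Finite K] {p : ℕ} [CharP K p] {s e : ℕ}
    (hs : s.Prime) (hsp : s ≠ p) (hW : ¬ s ^ (e + 1) ∣ Nat.card M.Group) : RankLe ↥(D.group K) s (l + e) := by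
  have : Fact p.Prime := ⟨CharP.char_is_prime K p⟩
  let _ : Algebra (ZMod p) K := ZMod.algebra K p
  have : Algebra.IsAlgebraic (ZMod p) K := Algebra.IsAlgebraic.of_finite _ _
  have : Algebra.IsAlgebraic (ZMod p) (AlgebraicClosure K) := Algebra.IsAlgebraic.trans _ K _
  exact RankLe.of_inj (emb hp.inList (algebraMap K (AlgebraicClosure K))) (emb_injective _ _)
    (rank_alg hp (hAlg_of_isAlgebraic p _) hs hsp hW)

theorem gen_le (hD : InList D) {F : Type*} [Field F] (S : Set (List (ℕ × F))) : D.genSubgroup F S ≤ D.group F := by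
  unfold ChevalleyDatum.genSubgroup
  rw [Subgroup.closure_le]
  rintro g ⟨w, -, hg⟩
  rw [(eq_wordG_iff hD g w).2 hg]
  exact wordG_mem_group hD w

theorem rank_gen (hD : InList D) {K : Type u} [Field K] {s n : ℕ} (h : RankLe ↥(D.group K) s n)
    (S : Set (List (ℕ × K))) : RankLe ↥(D.genSubgroup K S) s n :=
  RankLe.of_inj (Subgroup.inclusion (gen_le hD S)) (Subgroup.inclusion_injective _) h

end chev

theorem not_pow_dvd {N e s : ℕ} (hs : s.Prime) (L : List ℕ) (hL : ∀ a ∈ L, a.Prime) (j : ℕ) (hN : N ∣ L.prod ^ j)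
    (h : ∀ a ∈ L, a = s → ¬ a ^ (e + 1) ∣ N) : ¬ s ^ (e + 1) ∣ N := by
  intro h1
  have h2 : s ∣ L.prod := hs.dvd_of_dvd_pow (((dvd_pow_self s (Nat.succ_ne_zero e)).trans h1).trans hN)
  obtain ⟨a, ha, hd⟩ := (Nat.prime_iff.1 hs).dvd_prod_iff.1 h2
  have h3 := ((Nat.prime_dvd_prime_iff_eq hs (hL a ha)).1 hd).symm
  exact h a ha h3 (by rwa [h3])

theorem not_pow_dvd' {N e s : ℕ} (hs : s.Prime) (L : List ℕ) (hL : ∀ a ∈ L, a.Prime) (j : ℕ) (hN : N ∣ L.prod ^ j)
    (h : ∀ a ∈ L, ¬ a ^ (e + 1) ∣ N) : ¬ s ^ (e + 1) ∣ N :=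
  not_pow_dvd hs L hL j hN fun a ha _ => h a ha

theorem pr_list : ∀ a ∈ [2, 3, 5, 7], Nat.Prime a := by
  intro a ha
  simp only [List.mem_cons, List.not_mem_nil, or_false] at ha
  rcases ha with rfl | rfl | rfl | rfl <;> norm_num

theorem tG2 : IsType chevG2 2 CoxeterMatrix.G₂ := by simp [IsType, typeList]
theorem tD4 : IsType chevD4 4 coxeterD4 := by simp [IsType, typeList]
theorem tF4 : IsType chevF4 4 CoxeterMatrix.F₄ := by simp [IsType, typeList]
theorem tE6 : IsType chevE6 6 CoxeterMatrix.E₆ := by simp [IsType, typeList]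
theorem tE7 : IsType chevE7 7 CoxeterMatrix.E₇ := by simp [IsType, typeList]
theorem tE8 : IsType chevE8 8 CoxeterMatrix.E₈ := by simp [IsType, typeList]

theorem wG2 : Nat.card CoxeterMatrix.G₂.Group = 12 := S1092.result (⟨2, CoxeterMatrix.G₂⟩, 12) (by simp)
theorem wD4 : Nat.card coxeterD4.Group = 192 := S1092.result (⟨4, coxeterD4⟩, 192) (by simp)
theorem wF4 : Nat.card CoxeterMatrix.F₄.Group = 1152 := S1092.result (⟨4, CoxeterMatrix.F₄⟩, 1152) (by simp)
theorem wE6 : Nat.card CoxeterMatrix.E₆.Group = 51840 := S1093.result (⟨6, CoxeterMatrix.E₆⟩, 51840) (by simp)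
theorem wE7 : Nat.card CoxeterMatrix.E₇.Group = 2903040 := S1093.result (⟨7, CoxeterMatrix.E₇⟩, 2903040) (by simp)
theorem wE8 : Nat.card CoxeterMatrix.E₈.Group = 696729600 := S1093.result (⟨8, CoxeterMatrix.E₈⟩, 696729600) (by simp)

section inst

variable {K : Type u} [Field K] [Finite K] {p : ℕ} [CharP K p] {s : ℕ} (hs : s.Prime) (hsp : s ≠ p)

include hs hsp

theorem rk_G2 : RankLe ↥(chevG2.group K) s 4 :=
  rank_chev tG2 (e := 2) hs hsp (by rw [wG2]; exact not_pow_dvd' hs _ pr_list 14 (by decide) (by decide))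

theorem rk_D4 : RankLe ↥(chevD4.group K) s 10 :=
  rank_chev tD4 (e := 6) hs hsp (by rw [wD4]; exact not_pow_dvd' hs _ pr_list 14 (by decide) (by decide))

theorem rk_F4 : RankLe ↥(chevF4.group K) s 11 :=
  rank_chev tF4 (e := 7) hs hsp (by rw [wF4]; exact not_pow_dvd' hs _ pr_list 14 (by decide) (by decide))

theorem rk_E6 : RankLe ↥(chevE6.group K) s 13 :=
  rank_chev tE6 (e := 7) hs hsp (by rw [wE6]; exact not_pow_dvd' hs _ pr_list 14 (by decide) (by decide))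

theorem rk_E7 : RankLe ↥(chevE7.group K) s 17 :=
  rank_chev tE7 (e := 10) hs hsp (by rw [wE7]; exact not_pow_dvd' hs _ pr_list 14 (by decide) (by decide))

theorem rk_E8 : RankLe ↥(chevE8.group K) s 22 :=
  rank_chev tE8 (e := 14) hs hsp (by rw [wE8]; exact not_pow_dvd' hs _ pr_list 14 (by decide) (by decide))

theorem rk_E7_odd (h2 : s ≠ 2) : RankLe ↥(chevE7.group K) s 11 := by
  refine rank_chev tE7 (e := 4) hs hsp ?_
  rw [wE7]
  refine not_pow_dvd hs _ pr_list 14 (by decide) fun a ha has => ?_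
  have h3 : ∀ a ∈ [2, 3, 5, 7], a ≠ 2 → ¬ a ^ (4 + 1) ∣ 2903040 := by decide
  exact h3 a ha (by rwa [has])

theorem rk_E8_odd (h2 : s ≠ 2) : RankLe ↥(chevE8.group K) s 13 := by
  refine rank_chev tE8 (e := 5) hs hsp ?_
  rw [wE8]
  refine not_pow_dvd hs _ pr_list 14 (by decide) fun a ha has => ?_
  have h3 : ∀ a ∈ [2, 3, 5, 7], a ≠ 2 → ¬ a ^ (5 + 1) ∣ 696729600 := by decide
  exact h3 a ha (by rwa [has])

theorem rk_2E6 (q : ℕ) : RankLe ↥(twistedE6 K q) s 13 := rank_gen tE6.inList (rk_E6 hs hsp) _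

theorem rk_3D4 (q : ℕ) : RankLe ↥(twistedD4 K q) s 10 := rank_gen tD4.inList (rk_D4 hs hsp) _

theorem rk_2F4 (q : ℕ) : RankLe ↥(twistedF4 K q) s 11 := rank_gen tF4.inList (rk_F4 hs hsp) _

theorem rk_2G2 (q : ℕ) : RankLe ↥(twistedG2 K q) s 4 := rank_gen tG2.inList (rk_G2 hs hsp) _

theorem rk_GL (n : ℕ) : RankLe (GL (Fin (n + 1)) K) s (n + 1) := by
  intro A hc hpow
  have hsK : (s : K) ≠ 0 := by
    intro h
    rw [CharP.cast_eq_zero_iff K p] at h
    exact hsp ((Nat.prime_dvd_prime_iff_eq (CharP.char_is_prime K p) hs).1 h).symm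
  let Z : Subgroup A := (Subgroup.center (GL (Fin (n + 1)) K)).subgroupOf A
  have hZ : ∀ x : A, x ∈ Z ↔ ∃ c : K, ((x : GL (Fin (n + 1)) K) : Matrix (Fin (n + 1)) (Fin (n + 1)) K) =
      Matrix.scalar (Fin (n + 1)) c := by
    intro x
    rw [Subgroup.mem_subgroupOf, Matrix.GeneralLinearGroup.mem_center_iff_val_mem_range_scalar]
    exact ⟨fun ⟨c, hc⟩ => ⟨c, hc.symm⟩, fun ⟨c, hc⟩ => ⟨c, hc.symm⟩⟩
  obtain ⟨-, h1⟩ := H752.EP.torus_index hs hsK A.subtype (fun x y => hc x x.2 y y.2)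
    (fun x => ⟨1, by
      rw [← Units.val_pow_eq_pow_val, show A.subtype x ^ s = 1 from hpow x x.2, map_one, Units.val_one]⟩)
    Z fun x hx => (hZ x).2 hx
  obtain ⟨hfin, hle⟩ := roots_le (k := K) hs.pos
  have h2 : ∀ x : Z, (((x : A) : GL (Fin (n + 1)) K) : Matrix (Fin (n + 1)) (Fin (n + 1)) K) 0 0 ^ s = 1 := by
    intro x
    obtain ⟨c, hc⟩ := (hZ x).1 x.2
    have h3 : (((x : A) : GL (Fin (n + 1)) K) : Matrix (Fin (n + 1)) (Fin (n + 1)) K) ^ s = 1 := by
      rw [← Units.val_pow_eq_pow_val, hpow _ (x : A).2, Units.val_one]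
    rw [hc, ← map_pow] at h3
    have h4 := congrFun (congrFun h3 0) 0
    rw [hc]
    simpa using h4
  have h3 : Nat.card Z ≤ s := by
    refine le_trans (Nat.card_le_card_of_injective (β := {c : K // c ^ s = 1}) (fun x => ⟨_, h2 x⟩) ?_) hle
    intro x x' h
    obtain ⟨c, hc⟩ := (hZ x).1 x.2
    obtain ⟨c', hc'⟩ := (hZ x').1 x'.2
    have h4 := congrArg Subtype.val h
    simp only [hc, hc', Matrix.scalar_apply, Matrix.diagonal_apply_eq] at h4
    exact Subtype.ext (Subtype.ext (Units.ext (by rw [hc, hc', h4])))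
  rw [← Z.index_mul_card, pow_succ]
  exact Nat.mul_le_mul h1 h3

theorem rk_Sz (e : ℕ) : RankLe ↥(Lie.Sz K e) s 4 :=
  RankLe.of_inj (Lie.Sz K e).subtype (Subgroup.subtype_injective _) (rk_GL hs hsp 3)

end inst

theorem le_of_rk {T X : Type*} [Group T] [Group X] (g : T →* X) (hg : Function.Injective g) {p n : ℕ}
    (h : ∀ s : ℕ, s.Prime → s ≠ p → RankLe X s n) {U : Type*} [Group U] [Finite U] [IsSimpleGroup U]
    (hU : ¬ IsMulCommutative U) {k : ℕ} (f : (Fin k → U) →* T) (hf : Function.Injective f) : k ≤ n := by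
  obtain ⟨s, hs, hsp, hd⟩ := exists_prime_ne hU p
  have h1 : PS 0 U := by
    rcases (inferInstance : (commutator U).Normal).eq_bot_or_eq_top with h2 | h2
    · exact absurd ((commutator_eq_bot_iff U).1 h2) hU
    · exact h2
  exact le_of_rankLe h1 hs hd (MonoidHom.id _) Function.surjective_id
    (fun z hz x => by rw [show z = 1 from hz, mul_one, one_mul])
    (RankLe.of_inj (g.comp f) (hg.comp hf) (h s hs hsp))

/-- **The number of isomorphic components in the exceptional groups.** -/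
theorem boxExcRank : BoxExcRank := by
  intro _ T _ _ hT U _ _ _ hU k f hf
  rcases hT with ⟨K, _, _, -, ⟨e⟩⟩ | ⟨K, _, _, ⟨e⟩⟩ | ⟨K, _, _, ⟨e⟩⟩ | ⟨K, _, _, ⟨e⟩⟩ | ⟨K, _, _, ⟨e⟩⟩ |
    ⟨K, _, _, q, -, -, ⟨e⟩⟩ | ⟨K, _, _, q, -, -, ⟨e⟩⟩ | ⟨K, _, _, q, -, -, ⟨e⟩⟩ | ⟨K, _, _, q, -, -, ⟨e⟩⟩ |
    ⟨K, _, _, q, -, -, ⟨e⟩⟩ | ⟨⟨e⟩⟩
  · obtain ⟨p, _⟩ := CharP.exists K
    exact (le_of_rk e.toMonoidHom e.injective (p := p) (fun s hs hsp => rk_G2 hs hsp) hU f hf).trans (by norm_num)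
  · obtain ⟨p, _⟩ := CharP.exists K
    exact (le_of_rk e.toMonoidHom e.injective (p := p) (fun s hs hsp => rk_F4 hs hsp) hU f hf).trans (by norm_num)
  · obtain ⟨p, _⟩ := CharP.exists K
    exact (le_of_rk e.toMonoidHom e.injective (p := p) (fun s hs hsp => rk_E6 hs hsp) hU f hf).trans (by norm_num)
  · obtain ⟨p, _⟩ := CharP.exists K
    exact (le_of_rk e.toMonoidHom e.injective (p := p) (fun s hs hsp => rk_E7 hs hsp) hU f hf).trans (by norm_num)
  · obtain ⟨p, _⟩ := CharP.exists K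
    exact (le_of_rk e.toMonoidHom e.injective (p := p) (fun s hs hsp => rk_E8 hs hsp) hU f hf).trans (by norm_num)
  · obtain ⟨p, _⟩ := CharP.exists K
    exact (le_of_rk e.toMonoidHom e.injective (p := p) (fun s hs hsp => rk_2E6 hs hsp _) hU f hf).trans (by norm_num)
  · obtain ⟨p, _⟩ := CharP.exists K
    exact (le_of_rk e.toMonoidHom e.injective (p := p) (fun s hs hsp => rk_3D4 hs hsp _) hU f hf).trans (by norm_num)
  · obtain ⟨p, _⟩ := CharP.exists K
    exact (le_of_rk e.toMonoidHom e.injective (p := p) (fun s hs hsp => rk_Sz hs hsp _) hU f hf).trans (by norm_num)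
  · obtain ⟨p, _⟩ := CharP.exists K
    exact (le_of_rk e.toMonoidHom e.injective (p := p) (fun s hs hsp => rk_2G2 hs hsp _) hU f hf).trans (by norm_num)
  · obtain ⟨p, _⟩ := CharP.exists K
    exact (le_of_rk e.toMonoidHom e.injective (p := p) (fun s hs hsp => rk_2F4 hs hsp _) hU f hf).trans (by norm_num)
  · have : Fact (Nat.Prime 2) := ⟨Nat.prime_two⟩
    exact (le_of_rk ((commutator ↥(twistedF4 (ZMod 2) 1)).subtype.comp e.toMonoidHom)
      ((Subgroup.subtype_injective _).comp e.injective) (p := 2) (fun s hs hsp => rk_2F4 hs hsp _) hU f hf).trans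
      (by norm_num)

end Cfsg.Agent.DS.Rank
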