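import Cfsg.Agent.DS.Ex.TorDefs
import Cfsg.Agent.DS.Gen.Perm
import Cfsg.Agent.Nodes.SimplyLaced
import Cfsg.Agent.H123.ExcComb

/-!
# S5881, toral case: the boxes `BoxCE`, `BoxCS` (helper78)

`Ind S` : the indecomposable positive roots of `S`.  They generate `Sp S` additively, are linearly independent, and a
group `V` with `LA cs h S V` permutes them.
-/

set_option autoImplicit false
set_option linter.unusedSectionVars false
set_option linter.style.haveILetI false

namespace Cfsg.Agent.DS.Ex.TorCE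

open CoxeterSystem Cfsg Cfsg.Lie Cfsg.Lie.ChevalleyDatum
open Cfsg.Agent.ChevalleyStructure Cfsg.Agent.ChevalleyStructure.CoxeterGeom
  Cfsg.Agent.ChevalleyStructure.CoxeterGeomTypes
open Cfsg.Agent.Tits.Roots Cfsg.Agent.Tits.Core Cfsg.Agent.Nodes.Coroot Cfsg.Agent.Nodes.RGDChev
open Cfsg.Agent.BpExc.Zc Cfsg.Agent.BpExc.RelBN Cfsg.Agent.H936 Cfsg.Agent.DS.Cl
open Cfsg.Agent.Nodes.BNOf Cfsg.Agent.Nodes.SimplyLaced Cfsg.Agent.Nodes.Slope

section Gen

variable {I W : Type*} [Fintype I] [DecidableEq I] [Group W] [Finite W] {M : CoxeterMatrix I}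
  {cs : CoxeterSystem M W} {A : I → I → ℤ} {h : IsCartan M A}

/-- the indecomposable positive roots of `S` -/
def Ind (S : Set (I → ℤ)) : Set (I → ℤ) := {a | a ∈ Sp S ∧ ∀ b ∈ Sp S, ∀ c ∈ Sp S, a ≠ b + c}

/-- the indecomposable roots generate the positive roots -/
theorem ind_induction {S : Set (I → ℤ)} (hS : ∀ a ∈ S, IsRoot cs h a) {P : (I → ℤ) → Prop} (h0 : ∀ d ∈ Ind S, P d)
    (h1 : ∀ b c, P b → P c → P (b + c)) : ∀ a ∈ Sp S, P a := by
  have key : ∀ n : ℕ, ∀ a ∈ Sp S, ht a ≤ n → P a := by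
    intro n
    induction n with
    | zero =>
      intro a ha hn
      have := RGD.ht_pos (hS a ha.1) ha.2
      omega
    | succ n ih =>
      intro a ha hn
      by_cases hd : a ∈ Ind S
      · exact h0 a hd
      · have h2 : ∃ b ∈ Sp S, ∃ c ∈ Sp S, a = b + c := by
          by_contra hcon
          push Not at hcon
          exact hd ⟨ha, hcon⟩
        obtain ⟨b, hb, c, hc, rfl⟩ := h2
        have h3 := RGD.ht_pos (hS b hb.1) hb.2
        have h4 := RGD.ht_pos (hS c hc.1) hc.2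
        rw [RGD.ht_add] at hn
        exact h1 b c (ih b hb (by omega)) (ih c hc (by omega))
  intro a ha
  exact key (ht a).toNat a ha (Int.self_le_toNat _)

theorem ne_neg_of_pos {x y : I → ℤ} (hx : IsRoot cs h x) (hy : IsRoot cs h y) (h1 : 0 ≤ x) (h2 : 0 ≤ y) : x ≠ -y := by
  rintro rfl
  exact hy.not_pos_neg h2 (neg_nonneg.1 h1)

variable (h4 : ∀ i j, M i j ≠ 4) (h6 : ∀ i j, M i j ≠ 6)

include h4 h6

/-- orthogonal roots have no positive integral combination that is a root -/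
theorem not_ZB {x y : I → ℤ} (hx : IsRoot cs h x) (hy : IsRoot cs h y) (h0 : cpr cs h y x = 0) (z : I → ℤ) :
    ¬ ZB cs h x y z := by
  rintro ⟨hz, m, n, hm, hn, e⟩
  have h1 : cpr cs h z x = 2 * m := by
    rw [e, cpr_add cs h _ _ hx, cpr_smul cs h _ _ hx, cpr_smul cs h _ _ hx, cpr_self cs h hx, h0]
    ring
  have h0' : cpr cs h x y = 0 := (cpr_zero_comm cs h hx hy).2 h0
  have h2 : cpr cs h z y = 2 * n := by
    rw [e, cpr_add cs h _ _ hy, cpr_smul cs h _ _ hy, cpr_smul cs h _ _ hy, cpr_self cs h hy, h0']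
    ring
  by_cases h3 : z = x
  · rw [h3, h0'] at h2
    omega
  by_cases h5 : z = -x
  · rw [h5, cpr_neg cs h x hx, cpr_self cs h hx] at h1
    omega
  have h7 := abs_cpr_le_one cs h h4 h6 hz hx h3 h5
  rw [h1, abs_le] at h7
  omega

theorem cpr_le {x y : I → ℤ} (hx : IsRoot cs h x) (hy : IsRoot cs h y) (hne : x ≠ y) : cpr cs h x y ≤ 1 := by
  by_cases h5 : x = -y
  · rw [h5, cpr_neg cs h y hy, cpr_self cs h hy]
    omega
  exact (abs_le.1 (abs_cpr_le_one cs h h4 h6 hx hy hne h5)).2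

variable {S : Set (I → ℤ)} (hS : ZClosed cs h S) (hn : ∀ a ∈ S, -a ∈ S)

include hS hn

theorem cpr_ind {d e : I → ℤ} (hd : d ∈ Ind S) (he : e ∈ Ind S) (hne : d ≠ e) : cpr cs h d e ≤ 0 := by
  by_contra hcon
  have rd := hS.root d hd.1.1
  have re := hS.root e he.1.1
  have h1 : cpr cs h d e = 1 := by
    have := cpr_le h4 h6 rd re hne
    omega
  have h2 := isRoot_refl cs h rd re
  rw [h1, one_smul] at h2
  have h3 : d - e ∈ S := hS.btw d hd.1.1 (-e) (hn e he.1.1) _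
    ⟨h2, 1, 1, one_pos, one_pos, by rw [one_smul, one_smul, sub_eq_add_neg]⟩
  rcases h2.pos_or_neg with h5 | h5
  · exact hd.2 (d - e) ⟨h3, h5⟩ e he.1 (by abel)
  · exact he.2 (-(d - e)) ⟨hn _ h3, neg_nonneg.2 h5⟩ d hd.1 (by abel)

theorem card_ind_le : Nat.card (Ind S) ≤ Fintype.card I := by
  have := Fintype.ofFinite W
  let B : LinearMap.BilinForm ℤ (I → ℤ) := LinearMap.mk₂ ℤ (form cs h) (form_add_left cs h)
    (fun c x y => form_smul_left cs h c x y) (form_add_right cs h) (fun c x y => form_smul_right cs h c x y)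
  have hB : B.toQuadraticMap.PosDef := fun x hx => form_pos cs h hx
  have h1 : LinearIndependent ℤ (fun d : Ind S => (d : I → ℤ)) := by
    refine LinearMap.BilinForm.linearIndependent_of_pairwise_le_zero B hB (htHom (I := I)).toIntLinearMap _
      (fun d => RGD.ht_pos (hS.root _ d.2.1.1) d.2.1.2) ?_
    intro d e hne
    have h2 := cpr_ind h4 h6 hS hn d.2 e.2 fun h0 => hne (Subtype.ext h0)
    have h3 := cpr_pos_iff cs h (d : I → ℤ) (hS.root _ e.2.1.1)
    change form cs h d e ≤ 0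
    by_contra hcon
    have := h3.2 (not_le.1 hcon)
    omega
  haveI : Finite (Ind S) := (hS.finite.subset fun a ha => ha.1.1).to_subtype
  letI := Fintype.ofFinite (Ind S)
  have h2 := h1.fintype_card_le_finrank
  rwa [Module.finrank_fintype_fun_eq_card, ← Nat.card_eq_fintype_card] at h2

omit h4 h6 hS hn in
theorem LA.mem_ind {V : Subgroup (Equiv.Perm (I → ℤ))} (hV : LA cs h S V) {v : Equiv.Perm (I → ℤ)} (hv : v ∈ V)
    {d : I → ℤ} (hd : d ∈ Ind S) : v d ∈ Ind S := by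
  have key : ∀ u ∈ V, ∀ a ∈ Sp S, u a ∈ Sp S := by
    intro u hu a ha
    obtain ⟨g, h1, -, h2, h3⟩ := hV u hu
    rw [h1]
    exact ⟨(h2 a).2 ha.1, h3 a ha.1 ha.2⟩
  refine ⟨key v hv d hd.1, fun b hb c hc e => ?_⟩
  obtain ⟨g, h1, -⟩ := hV v⁻¹ (inv_mem hv)
  refine hd.2 _ (key _ (inv_mem hv) b hb) _ (key _ (inv_mem hv) c hc) ?_
  rw [h1, h1, ← map_add, ← e, ← h1]
  exact (v.symm_apply_apply d).symm

/-- the action on the indecomposable roots -/
def act {V : Subgroup (Equiv.Perm (I → ℤ))} (hV : LA cs h S V) : V →* Equiv.Perm (Ind S) where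
  toFun v :=
    { toFun := fun d => ⟨v.1 d, LA.mem_ind hV v.2 d.2⟩
      invFun := fun d => ⟨v.1⁻¹ d, LA.mem_ind hV (inv_mem v.2) d.2⟩
      left_inv := fun _ => Subtype.ext (v.1.symm_apply_apply _)
      right_inv := fun _ => Subtype.ext (v.1.apply_symm_apply _) }
  map_one' := rfl
  map_mul' _ _ := rfl

omit h4 h6 hS hn in
theorem act_apply {V : Subgroup (Equiv.Perm (I → ℤ))} (hV : LA cs h S V) (v : V) (d : Ind S) :
    (act hV v d : I → ℤ) = v.1 d := rfl

omit h4 h6 in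
/-- an element of `W` fixing the indecomposable roots is trivial -/
theorem eq_one_of_fix (ho : ∀ b, IsRoot cs h b → ∃ a ∈ S, cpr cs h b a ≠ 0) {w : W}
    (hw : ∀ d ∈ Ind S, rep cs h w d = d) : w = 1 := by
  have h1 : ∀ a ∈ Sp S, rep cs h w a = a :=
    ind_induction hS.root hw fun b c hb hc => by rw [map_add, hb, hc]
  have h2 : ∀ a ∈ S, rep cs h w a = a := by
    intro a ha
    rcases (hS.root a ha).pos_or_neg with h0 | h0
    · exact h1 a ⟨ha, h0⟩
    · have h3 := h1 (-a) ⟨hn a ha, neg_nonneg.2 h0⟩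
      rwa [map_neg, neg_inj] at h3
  by_contra hne
  obtain ⟨b, hb, hsum⟩ := BpExc.Fix.exists_root_sum_eq_zero (cs := cs) (h := h) hne (orderOf_pos w)
    (pow_orderOf_eq_one w)
  obtain ⟨a, ha, hba⟩ := ho b hb
  have ra := hS.root a ha
  have h3 : ∀ i : ℕ, rep cs h (w ^ i) a = a := by
    intro i
    induction i with
    | zero => rw [pow_zero, map_one, Module.End.one_apply]
    | succ i ih => rw [pow_succ, map_mul, Module.End.mul_apply, h2 a ha, ih]
  have h5 := congrArg (ell cs h ra) hsum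
  rw [map_sum, map_zero] at h5
  have h7 : ∀ i ∈ Finset.range (orderOf w), ell cs h ra (rep cs h (w ^ i) b) = cpr cs h b a := by
    intro i _
    rw [ell_apply, ← cpr_rep cs h (w ^ i) b ra, h3]
  rw [Finset.sum_congr rfl h7, Finset.sum_const, Finset.card_range, nsmul_eq_mul] at h5
  rcases mul_eq_zero.1 h5 with h8 | h8
  · exact (orderOf_pos w).ne' (by exact_mod_cast h8)
  · exact hba h8

omit h4 h6 in
theorem ps_of_act (ho : ∀ b, IsRoot cs h b → ∃ a ∈ S, cpr cs h b a ≠ 0) {V : Subgroup (Equiv.Perm (I → ℤ))}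
    (hV : LA cs h S V) (hW : InW cs h (dS V 1)) {k : ℕ} (hk : PS (k + 1) (act hV).range) : PS k (dS V 1) := by
  let ψ : dS V 1 →* Equiv.Perm (Ind S) := (act hV).comp (Subgroup.inclusion (dS_le V 1))
  have hψ : Function.Injective ψ := by
    rw [injective_iff_map_eq_one]
    intro v hv
    obtain ⟨w, hw⟩ := hW v v.2
    have h1 : w = 1 := by
      refine eq_one_of_fix hS hn ho fun d hd => ?_
      rw [← hw]
      exact congrArg Subtype.val (DFunLike.congr_fun hv (⟨d, hd⟩ : Ind S))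
    apply Subtype.ext
    ext1 a
    rw [hw, h1, map_one]
    rfl
  have h2 : ψ.range = dS (act hV).range 1 := by
    rw [MonoidHom.range_comp, Subgroup.inclusion_range, MonoidHom.range_eq_map (act hV), ← dS_map]
    congr 1
    apply Subgroup.map_injective V.subtype_injective
    rw [Subgroup.map_subgroupOf_eq_of_le (dS_le V 1), dS_map, ← MonoidHom.range_eq_map, Subgroup.range_subtype]
  refine PS.of_equiv (MonoidHom.ofInjective hψ).symm ?_
  rw [h2, ps_iff, dS_add, dS_add, add_comm 1 k, ← ps_iff.1 hk]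
  congr 1
  omega

theorem main (hI : Fintype.card I ≤ 8) (hht : ∀ a, IsRoot cs h a → ht a < 32)
    (ho : ∀ b, IsRoot cs h b → ∃ a ∈ S, cpr cs h b a ≠ 0) {V : Subgroup (Equiv.Perm (I → ℤ))}
    (hV : LA cs h S V) (hW : InW cs h (dS V 1)) :
    ∃ d : ℕ, 4 ≤ d ∧ d ≤ 5 ∧ (∃ f : (I → ℤ) →+ ℤ, ∀ a ∈ Sp S, 0 < f a ∧ f a < 2 ^ d) ∧ PS (7 - d) (dS V 1) := by
  classical
  haveI : Finite (Ind S) := (hS.finite.subset fun a ha => ha.1.1).to_subtype
  have hc := (card_ind_le h4 h6 hS hn).trans hI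
  by_cases horb : ∀ d : Ind S, (MulAction.orbit (act hV).range d).ncard ≤ 7
  · refine ⟨5, by norm_num, le_rfl, ⟨htHom, fun a ha => ⟨RGD.ht_pos (hS.root a ha.1) ha.2, hht a (hS.root a ha.1)⟩⟩,
      ps_of_act hS hn ho hV hW ?_⟩
    exact Gen.ps_of_sd (Gen.ps_of_orbits (n := 7) (by norm_num) (by decide) horb)
  push Not at horb
  obtain ⟨d0, hd0⟩ := horb
  have huniv : MulAction.orbit (act hV).range d0 = Set.univ := by
    refine Set.eq_of_subset_of_ncard_le (Set.subset_univ _) ?_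
    rw [Set.ncard_univ]
    omega
  refine ⟨4, le_rfl, by norm_num, ?_, ps_of_act hS hn ho hV hW ?_⟩
  swap
  · exact Gen.ps_of_sd (Gen.SD.of_inj _ (Subgroup.subtype_injective _) (Gen.sd_perm_eight hc))
  letI := Fintype.ofFinite (Ind S)
  letI := Fintype.ofFinite W
  have hr : ∀ d : Ind S, IsRoot cs h (d : I → ℤ) := fun d => hS.root _ d.2.1.1
  let f : (I → ℤ) →+ ℤ := ∑ d : Ind S, ell cs h (hr d)
  have hf : ∀ x, f x = ∑ d : Ind S, cpr cs h x d := fun x => by
    show (∑ d : Ind S, ell cs h (hr d)) x = _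
    rw [AddMonoidHom.finsetSum_apply]
    rfl
  have hconst : ∀ d : Ind S, f d = f d0 := by
    intro d
    have h1 : d ∈ MulAction.orbit (act hV).range d0 := by rw [huniv]; trivial
    obtain ⟨⟨_, v, rfl⟩, rfl⟩ := h1
    obtain ⟨g, h1, h2, -⟩ := hV v v.2
    rw [hf, hf, ← Equiv.sum_comp (act hV v)]
    refine Finset.sum_congr rfl fun e _ => ?_
    change cpr cs h (v.1 d0) (v.1 e) = _
    rw [h1, h1, H123.ExcComb.cpr_g h2 (hr d0) (hr e)]
  have hpos : 0 < f d0 := by
    by_contra hcon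
    have h1 : ∀ d : Ind S, form cs h (∑ e : Ind S, (e : I → ℤ)) d ≤ 0 := by
      intro d
      by_contra h2
      have h3 := (cpr_pos_iff cs h _ (hr d)).2 (not_le.1 h2)
      rw [← ell_apply cs h (hr d), map_sum] at h3
      have h5 : ∑ e : Ind S, ell cs h (hr d) e = f d := by
        rw [hf]
        exact Finset.sum_congr rfl fun e _ => cpr_symm cs h h4 h6 (hr e) (hr d)
      rw [h5, hconst] at h3
      exact hcon h3
    have h2 : ∀ (x : I → ℤ) (s : Finset (Ind S)), form cs h x (∑ e ∈ s, (e : I → ℤ)) = ∑ e ∈ s, form cs h x e := by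
      intro x s
      induction s using Finset.induction_on with
      | empty => rw [Finset.sum_empty, Finset.sum_empty, form_zero_right]
      | insert a s ha ih => rw [Finset.sum_insert ha, Finset.sum_insert ha, form_add_right, ih]
    have h3 : ∑ e : Ind S, (e : I → ℤ) ≠ 0 := by
      intro h0
      have h5 := congrArg (htHom (I := I)) h0
      rw [map_sum, map_zero] at h5
      have h7 : 0 < ∑ e : Ind S, htHom (e : I → ℤ) :=
        Finset.sum_pos (fun e _ => RGD.ht_pos (hr e) e.2.1.2) ⟨d0, Finset.mem_univ _⟩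
      omega
    have h5 := form_pos cs h h3
    rw [h2] at h5
    exact absurd (Finset.sum_nonpos fun e _ => h1 e) (not_le.2 h5)
  refine ⟨f, fun a ha => ⟨?_, ?_⟩⟩
  · refine ind_induction hS.root (P := fun x => 0 < f x) (fun d hd => ?_) (fun b c hb hc => ?_) a ha
    · rw [hconst ⟨d, hd⟩]
      exact hpos
    · rw [map_add]
      exact add_pos hb hc
  · have h1 : ∀ d : Ind S, cpr cs h a d ≤ 1 + if (d : I → ℤ) = a then 1 else 0 := by
      intro d
      split_ifs with h2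
      · rw [h2, cpr_self cs h (hS.root a ha.1)]
        norm_num
      · exact (cpr_le h4 h6 (hS.root a ha.1) (hr d) (Ne.symm h2)).trans (by norm_num)
    have h2 : ∑ d : Ind S, (if (d : I → ℤ) = a then (1 : ℤ) else 0) ≤ 1 := by
      rw [Finset.sum_boole]
      have h3 : (Finset.univ.filter fun d : Ind S => (d : I → ℤ) = a).card ≤ 1 := by
        rw [Finset.card_le_one]
        intro x hx y hy
        exact Subtype.ext ((Finset.mem_filter.1 hx).2.trans (Finset.mem_filter.1 hy).2.symm)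
      exact_mod_cast h3
    have h3 := Finset.sum_le_sum fun d (_ : d ∈ Finset.univ) => h1 d
    rw [Finset.sum_add_distrib, Finset.sum_const, Finset.card_univ, ← Nat.card_eq_fintype_card, nsmul_eq_mul,
      mul_one, ← hf] at h3
    have h5 : ((Nat.card (Ind S) : ℕ) : ℤ) ≤ 8 := by exact_mod_cast hc
    omega

theorem star : ZClosed cs h (Star cs h S) ∧ (∀ a ∈ Star cs h S, -a ∈ Star cs h S) ∧
    (∀ b, IsRoot cs h b → ∃ a ∈ Star cs h S, cpr cs h b a ≠ 0) ∧
    (∀ g : (I → ℤ) ≃+ (I → ℤ), (∀ a, IsRoot cs h (g a) ↔ IsRoot cs h a) → (∀ a, g a ∈ S ↔ a ∈ S) →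
      ∀ a, g a ∈ Star cs h S ↔ a ∈ Star cs h S) ∧
    ∀ a ∈ S, ∀ b ∈ Star cs h S, b ∉ S → ∀ z, ¬ ZB cs h b a z := by
  refine ⟨⟨?_, ?_⟩, ?_, ?_, ?_, ?_⟩
  · rintro x (hx | hx)
    · exact hS.root x hx
    · exact hx.1
  · rintro x (hx | hx) y (hy | hy) z hz
    · exact Or.inl (hS.btw x hx y hy z hz)
    · exact absurd hz (not_ZB h4 h6 (hS.root x hx) hy.1 (hy.2 x hx) z)
    · exact absurd hz.symm (not_ZB h4 h6 (hS.root y hy) hx.1 (hx.2 y hy) z)
    · refine Or.inr ⟨hz.1, fun a ha => ?_⟩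
      obtain ⟨-, m, n, -, -, e⟩ := hz
      have ra := hS.root a ha
      rw [e, cpr_add cs h _ _ ra, cpr_smul cs h _ _ ra, cpr_smul cs h _ _ ra, hx.2 a ha, hy.2 a ha]
      ring
  · rintro a (ha | ha)
    · exact Or.inl (hn a ha)
    · exact Or.inr ⟨ha.1.neg, fun b hb => by rw [cpr_neg cs h a (hS.root b hb), ha.2 b hb, neg_zero]⟩
  · intro b hb
    by_cases h1 : ∀ a ∈ S, cpr cs h b a = 0
    · exact ⟨b, Or.inr ⟨hb, h1⟩, by rw [cpr_self cs h hb]; norm_num⟩
    · push Not at h1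
      obtain ⟨a, ha, h2⟩ := h1
      exact ⟨a, Or.inl ha, h2⟩
  · intro g hg hgS a
    constructor
    · rintro (ha | ha)
      · exact Or.inl ((hgS a).1 ha)
      · refine Or.inr ⟨(hg a).1 ha.1, fun b hb => ?_⟩
        rw [← H123.ExcComb.cpr_g hg ((hg a).1 ha.1) (hS.root b hb)]
        exact ha.2 _ ((hgS b).2 hb)
    · rintro (ha | ha)
      · exact Or.inl ((hgS a).2 ha)
      · refine Or.inr ⟨(hg a).2 ha.1, fun b hb => ?_⟩
        obtain ⟨c, rfl⟩ := g.surjective b
        rw [H123.ExcComb.cpr_g hg ha.1 (hS.root c ((hgS c).1 hb))]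
        exact ha.2 c ((hgS c).1 hb)
  · rintro a ha b (hb | hb) hbS z hz
    · exact hbS hb
    · exact not_ZB h4 h6 (hS.root a ha) hb.1 (hb.2 a ha) z hz.symm

end Gen

/-! ### The types -/

theorem ht_E6 : ∀ r < chevE6.nroots, ht (vec chevE6 6 r) < 32 := by decide +kernel

theorem ht_E7 : ∀ r < chevE7.nroots, ht (vec chevE7 7 r) < 32 := by decide +kernel

theorem ht_E8 : ∀ r < chevE8.nroots, ht (vec chevE8 8 r) < 32 := by decide +kernel

theorem typE_cases {D : ChevalleyDatum} {l : ℕ} {M : CoxeterMatrix (Fin l)} (hp : IsType D l M) (hD : TypE D) :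
    (D = chevE6 ∧ (⟨l, M⟩ : Σ n : ℕ, CoxeterMatrix (Fin n)) = ⟨6, CoxeterMatrix.E₆⟩) ∨
    (D = chevE7 ∧ (⟨l, M⟩ : Σ n : ℕ, CoxeterMatrix (Fin n)) = ⟨7, CoxeterMatrix.E₇⟩) ∨
    (D = chevE8 ∧ (⟨l, M⟩ : Σ n : ℕ, CoxeterMatrix (Fin n)) = ⟨8, CoxeterMatrix.E₈⟩) := by
  have h0 : 6 ≤ D.rank := by
    rcases hD with rfl | rfl | rfl <;> decide
  simp only [IsType, typeList, List.mem_cons, List.not_mem_nil, or_false, Prod.mk.injEq] at hp
  rcases hp with ⟨h, e⟩ | ⟨h, e⟩ | ⟨h, e⟩ | ⟨h, e⟩ | h | h | h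
  · rw [h] at h0; exact absurd h0 (by decide)
  · rw [h] at h0; exact absurd h0 (by decide)
  · rw [h] at h0; exact absurd h0 (by decide)
  · rw [h] at h0; exact absurd h0 (by decide)
  · exact Or.inl h
  · exact Or.inr (Or.inl h)
  · exact Or.inr (Or.inr h)

theorem typE_facts {D : ChevalleyDatum} {l : ℕ} {M : CoxeterMatrix (Fin l)} (hp : IsType D l M) (hD : TypE D) :
    (∀ i j, M i j ≠ 4) ∧ (∀ i j, M i j ≠ 6) ∧ l ≤ 8 ∧ ∀ r < D.nroots, ht (vec D l r) < 32 := by
  rcases typE_cases hp hD with ⟨rfl, e⟩ | ⟨rfl, e⟩ | ⟨rfl, e⟩ <;> cases e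
  · refine ⟨fun i j => ?_, fun i j => ?_, by norm_num, ht_E6⟩ <;> fin_cases i <;> fin_cases j <;> decide
  · refine ⟨fun i j => ?_, fun i j => ?_, by norm_num, ht_E7⟩ <;> fin_cases i <;> fin_cases j <;> decide
  · refine ⟨fun i j => ?_, fun i j => ?_, by norm_num, ht_E8⟩ <;> fin_cases i <;> fin_cases j <;> decide

theorem boxCE : BoxCE := by
  intro D l M hp hD S hS hn ho V hV hW
  obtain ⟨h4, h6, hl, hht⟩ := typE_facts hp hD
  haveI := finite_W hp M.toCoxeterSystem
  refine main h4 h6 hS hn (by rwa [Fintype.card_fin]) (fun a ha => ?_) ho hV hW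
  obtain ⟨r, hr, rfl⟩ := (isRoot_iff hp _ a).1 ha
  exact hht r hr

theorem boxCS : BoxCS := by
  intro D l M hp hD S hS hn
  obtain ⟨h4, h6, -⟩ := typE_facts hp hD
  haveI := finite_W hp M.toCoxeterSystem
  exact star h4 h6 hS hn

end Cfsg.Agent.DS.Ex.TorCE
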