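import Cfsg.Agent.DS.Ex.TorDefs
import Cfsg.Agent.DS.Ord.SDO
import Cfsg.Agent.S1092
import Cfsg.Agent.S1093

/-!
# S5881, toral case: the boxes `BoxCF` and `BoxCW` (helper52)

`W(F₄)⁽³⁾ ≤ {1, -1}` by three normal subgroups given by words; orders of the Weyl groups.
-/

set_option autoImplicit false
set_option linter.unusedSectionVars false

namespace Cfsg.Agent.DS.Ex.TorCF

open CoxeterSystem Cfsg Cfsg.Lie Cfsg.Lie.ChevalleyDatum
open Cfsg.Agent.ChevalleyStructure Cfsg.Agent.ChevalleyStructure.CoxeterGeom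
  Cfsg.Agent.ChevalleyStructure.CoxeterGeomTypes
open Cfsg.Agent.Tits.Roots Cfsg.Agent.Nodes.RGDChev
open Cfsg.Agent.BpExc.RelBN Cfsg.Agent.H936 Cfsg.Agent.DS.Cl
open scoped commutatorElement

section Gen

/-- commutators of generators -/
theorem comm_closure_le {G : Type*} [Group G] {T : Set G} {N : Subgroup G} [N.Normal]
    (h : ∀ s ∈ T, ∀ t ∈ T, s * t * s⁻¹ * t⁻¹ ∈ N) : ⁅Subgroup.closure T, Subgroup.closure T⁆ ≤ N := by
  have key : ∀ x y : G, x * y * x⁻¹ * y⁻¹ ∈ N ↔ Commute (QuotientGroup.mk' N x) (QuotientGroup.mk' N y) := by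
    intro x y
    rw [← commutatorElement_eq_one_iff_commute, ← map_commutatorElement, commutatorElement_def]
    exact (QuotientGroup.eq_one_iff _).symm
  rw [Subgroup.commutator_le]
  intro x hx y hy
  rw [commutatorElement_def, key]
  induction hx using Subgroup.closure_induction with
  | mem s hs =>
    induction hy using Subgroup.closure_induction with
    | mem t ht => exact (key s t).1 (h s hs t ht)
    | one => rw [map_one]; exact Commute.one_right _
    | mul a b _ _ ha hb => rw [map_mul]; exact ha.mul_right hb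
    | inv a _ ha => rw [map_inv]; exact ha.inv_right
  | one => rw [map_one]; exact Commute.one_left _
  | mul a b _ _ ha hb => rw [map_mul]; exact ha.mul_left hb
  | inv a _ ha => rw [map_inv]; exact ha.inv_left

variable {I W : Type*} [Fintype I] [DecidableEq I] [Group W] {M : CoxeterMatrix I}
  (cs : CoxeterSystem M W) {A : I → I → ℤ} (h : IsCartan M A)

/-- the Weyl group as a permutation group of the lattice -/
def psi : W →* Equiv.Perm (I → ℤ) :=
  MonoidHom.mk' (fun w => (BpExc.Fr.repAut cs h w).toEquiv) fun v w => Equiv.ext fun x => rep_mul_apply cs h v w x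

theorem psi_apply (w : W) (x : I → ℤ) : psi cs h w x = rep cs h w x := rfl

theorem psi_injective : Function.Injective (psi cs h) := fun _ _ e =>
  rep_injective cs h (LinearMap.ext fun x => Equiv.congr_fun e x)

theorem le_range {V : Subgroup (Equiv.Perm (I → ℤ))} (hV : InW cs h V) : V ≤ (psi cs h).range := by
  intro v hv
  obtain ⟨w, hw⟩ := hV v hv
  exact ⟨w, Equiv.ext fun x => (hw x).symm⟩

theorem card_dvd {V : Subgroup (Equiv.Perm (I → ℤ))} (hV : InW cs h V) : Nat.card V ∣ Nat.card W := by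
  rw [Nat.card_congr (MonoidHom.ofInjective (psi_injective cs h)).toEquiv]
  exact Subgroup.card_dvd_of_le (le_range cs h hV)

/-- `{1, -1}` -/
def PM : Subgroup W where
  carrier := {w | (∀ x, rep cs h w x = x) ∨ ∀ x, rep cs h w x = -x}
  one_mem' := Or.inl fun x => by rw [map_one, Module.End.one_apply]
  mul_mem' := by
    rintro v w (hv | hv) (hw | hw)
    · exact Or.inl fun x => by rw [rep_mul_apply, hw, hv]
    · exact Or.inr fun x => by rw [rep_mul_apply, hv, hw]
    · exact Or.inr fun x => by rw [rep_mul_apply, hv, hw]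
    · exact Or.inl fun x => by rw [rep_mul_apply, hv, hw, neg_neg]
  inv_mem' := by
    rintro w (hw | hw)
    · exact Or.inl fun x => by rw [← hw (rep cs h w⁻¹ x), rep_apply_inv]
    · exact Or.inr fun x => by
        have h1 := hw (rep cs h w⁻¹ x)
        rw [rep_apply_inv] at h1
        exact (neg_eq_iff_eq_neg.2 h1).symm

theorem pm_normal : (PM cs h).Normal := by
  constructor
  rintro w (hw | hw) v
  · exact Or.inl fun x => by rw [rep_mul_apply, rep_mul_apply, hw, rep_apply_inv]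
  · exact Or.inr fun x => by rw [rep_mul_apply, rep_mul_apply, hw, map_neg, rep_apply_inv]

/-- the subgroup generated by a list of words -/
def Cl (T : List (List I)) : Subgroup W := Subgroup.closure {w | ∃ t ∈ T, w = cs.wordProd t}

/-- substitution of words -/
def expand (T : List (List I)) (c : List ℕ) : List I := c.flatMap fun k => T.getD k []

theorem expand_mem (T : List (List I)) (c : List ℕ) : cs.wordProd (expand T c) ∈ Cl cs T := by
  induction c with
  | nil => exact one_mem _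
  | cons k c ih =>
    rw [expand, List.flatMap_cons, wordProd_append]
    refine mul_mem ?_ ih
    by_cases hk : k < T.length
    · rw [List.getD_eq_getElem _ _ hk]
      exact Subgroup.subset_closure ⟨_, List.getElem_mem hk, rfl⟩
    · rw [List.getD_eq_default _ _ (by omega)]
      exact one_mem _

theorem cl_normal {T : List (List I)} (hT : ∀ i, ∀ t ∈ T, cs.wordProd (i :: (t ++ [i])) ∈ Cl cs T) :
    (Cl cs T).Normal := by
  have h1 : ∀ i, ∀ n ∈ Cl cs T, cs.simple i * n * (cs.simple i)⁻¹ ∈ Cl cs T := by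
    intro i n hn
    induction hn using Subgroup.closure_induction with
    | mem x hx =>
      obtain ⟨t, ht, rfl⟩ := hx
      have := hT i t ht
      rw [wordProd_cons, wordProd_append, wordProd_singleton, ← mul_assoc] at this
      rwa [inv_simple]
    | one => simp
    | mul a b _ _ ha hb =>
      have e : cs.simple i * (a * b) * (cs.simple i)⁻¹ =
        cs.simple i * a * (cs.simple i)⁻¹ * (cs.simple i * b * (cs.simple i)⁻¹) := by group
      rw [e]; exact mul_mem ha hb
    | inv a _ ha =>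
      have e : cs.simple i * a⁻¹ * (cs.simple i)⁻¹ = (cs.simple i * a * (cs.simple i)⁻¹)⁻¹ := by group
      rw [e]; exact inv_mem ha
  constructor
  intro n hn g
  induction g using cs.simple_induction generalizing n with
  | simple i => exact h1 i n hn
  | one => simpa using hn
  | mul a b ha hb =>
    have e : a * b * n * (a * b)⁻¹ = a * (b * n * b⁻¹) * a⁻¹ := by group
    rw [e]; exact ha _ (hb _ hn)

theorem cl_comm {T : List (List I)} {N : Subgroup W} (hN : N.Normal)
    (hT : ∀ s ∈ T, ∀ t ∈ T, cs.wordProd (s ++ t ++ s.reverse ++ t.reverse) ∈ N) : ⁅Cl cs T, Cl cs T⁆ ≤ N := by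
  refine comm_closure_le ?_
  rintro _ ⟨s, hs, rfl⟩ _ ⟨t, ht, rfl⟩
  have := hT s hs t ht
  rwa [wordProd_append, wordProd_append, wordProd_append, wordProd_reverse, wordProd_reverse] at this

end Gen

section F4

/-- coordinates -/
abbrev Z4 := ℤ × ℤ × ℤ × ℤ

/-- the simple reflections of `F₄` -/
def st4 (i : Fin 4) : Z4 → Z4
  | (a, b, c, d) => match i with
    | 0 => (b - a, b, c, d)
    | 1 => (a, a + 2 * c - b, c, d)
    | 2 => (a, b, b + d - c, d)
    | 3 => (a, b, c, c - d)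

/-- as a vector -/
def toV (x : Z4) : Fin 4 → ℤ := ![x.1, x.2.1, x.2.2.1, x.2.2.2]

theorem cartan_F4 : cartanOf chevF4 4 = ![![2, -1, 0, 0], ![-1, 2, -2, 0], ![0, -1, 2, -1], ![0, 0, -1, 2]] := by
  decide +kernel

theorem refl_toV (i : Fin 4) (x : Z4) : CoxeterGeom.refl (cartanOf chevF4 4) i (toV x) = toV (st4 i x) := by
  obtain ⟨a, b, c, d⟩ := x
  rw [cartan_F4]
  funext j
  fin_cases i <;> fin_cases j <;> simp [CoxeterGeom.refl, pairing, toV, st4, Fin.sum_univ_four] <;> ring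

/-- evaluation of a word -/
def ev (ω : List (Fin 4)) (x : Z4) : Z4 := ω.foldr st4 x

variable {W : Type*} [Group W] (cs : CoxeterSystem CoxeterMatrix.F₄ W) (h : IsCartan CoxeterMatrix.F₄ (cartanOf chevF4 4))

theorem rep_word (ω : List (Fin 4)) (x : Z4) : rep cs h (cs.wordProd ω) (toV x) = toV (ev ω x) := by
  induction ω with
  | nil => rw [wordProd_nil, map_one, Module.End.one_apply]; rfl
  | cons i ω ih => rw [wordProd_cons, rep_mul_apply, ih, rep_simple, refl_toV]; rfl

/-- the images of the basis -/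
def key (ω : List (Fin 4)) : Z4 × Z4 × Z4 × Z4 :=
  (ev ω (1, 0, 0, 0), ev ω (0, 1, 0, 0), ev ω (0, 0, 1, 0), ev ω (0, 0, 0, 1))

theorem decomp (x : Fin 4 → ℤ) :
    x = x 0 • toV (1, 0, 0, 0) + x 1 • toV (0, 1, 0, 0) + x 2 • toV (0, 0, 1, 0) + x 3 • toV (0, 0, 0, 1) := by
  funext j
  fin_cases j <;> simp [toV]

theorem rep_key (ω : List (Fin 4)) (x : Fin 4 → ℤ) : rep cs h (cs.wordProd ω) x =
    x 0 • toV (key ω).1 + x 1 • toV (key ω).2.1 + x 2 • toV (key ω).2.2.1 + x 3 • toV (key ω).2.2.2 := by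
  conv_lhs => rw [decomp x]
  simp only [map_add, map_smul, rep_word]
  rfl

include h in
theorem mem_of_key {T : List (List (Fin 4))} {C : List (List ℕ)} {ω : List (Fin 4)}
    (e : ∃ c ∈ C, key ω = key (expand T c)) : cs.wordProd ω ∈ Cl cs T := by
  obtain ⟨c, -, e⟩ := e
  have h1 : cs.wordProd ω = cs.wordProd (expand T c) :=
    rep_injective cs h (LinearMap.ext fun x => by rw [rep_key, rep_key, e])
  rw [h1]
  exact expand_mem cs T c

theorem mem_pm {ω : List (Fin 4)}
    (e : key ω = ((1, 0, 0, 0), (0, 1, 0, 0), (0, 0, 1, 0), (0, 0, 0, 1)) ∨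
      key ω = ((-1, 0, 0, 0), (0, -1, 0, 0), (0, 0, -1, 0), (0, 0, 0, -1))) : cs.wordProd ω ∈ PM cs h := by
  rcases e with e | e
  · exact Or.inl fun x => by rw [rep_key, e]; exact (decomp x).symm
  · refine Or.inr fun x => ?_
    rw [rep_key, e]
    funext j
    fin_cases j <;> simp [toV]

/-- generators of `W` -/
def T0 : List (List (Fin 4)) := [[0], [1], [2], [3]]
/-- generators of `W'` -/
def T1 : List (List (Fin 4)) := [[0, 1], [2, 3]]
/-- generators of `W''` -/
def T2 : List (List (Fin 4)) := [[1, 2, 1, 2], [0, 1, 2, 1, 0, 2], [1, 3, 2, 1, 2, 3], [0, 1, 3, 2, 1, 0, 2, 3]]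
/-- words in `T1` -/
def C1 : List (List ℕ) := [[0, 0], [1], [0, 0, 1, 0], [1, 0, 1, 1], [1, 1], [0], [], [0, 0, 1, 0, 1, 1]]
/-- words in `T2` -/
def C2 : List (List ℕ) := [[1], [0], [3], [2], [0, 1], [2, 3], [0, 2], [1, 3], []]

set_option synthInstance.maxSize 4096 in
/-- `W(F₄)⁽³⁾ ≤ {1, -1}` -/
theorem dS_three : dS (⊤ : Subgroup W) 3 ≤ PM cs h := by
  have h0 : (⊤ : Subgroup W) ≤ Cl cs T0 := by
    rw [← cs.subgroup_closure_range_simple]
    apply Subgroup.closure_mono
    rintro _ ⟨i, rfl⟩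
    exact ⟨[i], by fin_cases i <;> decide, (cs.wordProd_singleton i).symm⟩
  have n1 : ∀ i, ∀ t ∈ T1, ∃ c ∈ C1, key (i :: (t ++ [i])) = key (expand T1 c) := by decide +kernel
  have n2 : ∀ i, ∀ t ∈ T2, ∃ c ∈ C2, key (i :: (t ++ [i])) = key (expand T2 c) := by decide +kernel
  have c1 : ∀ s ∈ T0, ∀ t ∈ T0, ∃ c ∈ C1, key (s ++ t ++ s.reverse ++ t.reverse) = key (expand T1 c) := by
    decide +kernel
  have c2 : ∀ s ∈ T1, ∀ t ∈ T1, ∃ c ∈ C2, key (s ++ t ++ s.reverse ++ t.reverse) = key (expand T2 c) := by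
    decide +kernel
  have c3 : ∀ s ∈ T2, ∀ t ∈ T2,
      key (s ++ t ++ s.reverse ++ t.reverse) = ((1, 0, 0, 0), (0, 1, 0, 0), (0, 0, 1, 0), (0, 0, 0, 1)) ∨
      key (s ++ t ++ s.reverse ++ t.reverse) = ((-1, 0, 0, 0), (0, -1, 0, 0), (0, 0, -1, 0), (0, 0, 0, -1)) := by
    decide +kernel
  have h1 : dS (⊤ : Subgroup W) 1 ≤ Cl cs T1 := (Subgroup.commutator_mono h0 h0).trans
    (cl_comm cs (cl_normal cs fun i t ht => mem_of_key cs h (n1 i t ht)) fun s hs t ht => mem_of_key cs h (c1 s hs t ht))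
  have h2 : dS (⊤ : Subgroup W) 2 ≤ Cl cs T2 := (Subgroup.commutator_mono h1 h1).trans
    (cl_comm cs (cl_normal cs fun i t ht => mem_of_key cs h (n2 i t ht)) fun s hs t ht => mem_of_key cs h (c2 s hs t ht))
  exact (Subgroup.commutator_mono h2 h2).trans
    (cl_comm cs (pm_normal cs h) fun s hs t ht => mem_pm cs h (c3 s hs t ht))

end F4

theorem type_F4 {l : ℕ} {M : CoxeterMatrix (Fin l)} (hp : IsType chevF4 l M) :
    (⟨l, M⟩ : Σ n : ℕ, CoxeterMatrix (Fin n)) = ⟨4, CoxeterMatrix.F₄⟩ := by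
  simp only [IsType, typeList, List.mem_cons, List.not_mem_nil, or_false, Prod.mk.injEq] at hp
  rcases hp with ⟨e, -⟩ | ⟨e, -⟩ | ⟨e, -⟩ | ⟨-, e⟩ | ⟨e, -⟩ | ⟨e, -⟩ | ⟨e, -⟩
  · exact absurd (congrArg ChevalleyDatum.nroots e) (by decide +kernel)
  · exact absurd (congrArg ChevalleyDatum.nroots e) (by decide +kernel)
  · exact absurd (congrArg ChevalleyDatum.nroots e) (by decide +kernel)
  · exact e
  · exact absurd (congrArg ChevalleyDatum.nroots e) (by decide +kernel)
  · exact absurd (congrArg ChevalleyDatum.nroots e) (by decide +kernel)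
  · exact absurd (congrArg ChevalleyDatum.nroots e) (by decide +kernel)

/-- **[CF]** -/
theorem boxCF : BoxCF := by
  intro l M hp
  obtain ⟨rfl, e⟩ := Sigma.mk.inj_iff.1 (type_F4 hp)
  obtain rfl := eq_of_heq e
  refine ⟨fun a ha => ?_, fun S hS hne V hLA hV => ?_⟩
  · obtain ⟨r, hr, rfl⟩ := (isRoot_iff hp _ a).1 ha
    have key : ∀ r < chevF4.nroots, ht (vec chevF4 4 r) < 16 := by decide +kernel
    exact key r hr
  · obtain ⟨a, haS, ha0⟩ := hne
    apply ps_of_bot
    rw [eq_bot_iff]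
    intro v hv
    have h1 : dS V 3 ≤ (dS (⊤ : Subgroup CoxeterMatrix.F₄.Group) 3).map
        (psi CoxeterMatrix.F₄.toCoxeterSystem hp.isCartan) := by
      rw [dS_map, ← MonoidHom.range_eq_map]
      exact dS_mono (le_range _ _ hV) 3
    obtain ⟨w, hw, rfl⟩ := h1 hv
    rcases dS_three _ hp.isCartan hw with h2 | h2
    · exact Subgroup.mem_bot.2 (Equiv.ext h2)
    · exfalso
      obtain ⟨g, hg, -, -, hpos⟩ := hLA _ (dS_le V 3 hv)
      have h3 := hpos a haS ha0
      rw [← hg, psi_apply, h2] at h3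
      exact (hS a haS).not_pos_neg ha0 (neg_nonneg.1 h3)

theorem card_W {D : ChevalleyDatum} {l : ℕ} {M : CoxeterMatrix (Fin l)} (hp : IsType D l M) :
    Nat.card M.Group ∣ 696729600 ∧ (l ≠ 8 → Nat.card M.Group ∣ 2903040) := by
  simp only [IsType, typeList, List.mem_cons, List.not_mem_nil, or_false, Prod.mk.injEq] at hp
  rcases hp with ⟨-, e⟩ | ⟨-, e⟩ | ⟨-, e⟩ | ⟨-, e⟩ | ⟨-, e⟩ | ⟨-, e⟩ | ⟨-, e⟩ <;>
    obtain ⟨rfl, e⟩ := Sigma.mk.inj_iff.1 e <;> obtain rfl := eq_of_heq e
  · rw [S1092.result (⟨2, CoxeterMatrix.G₂⟩, 12) (by simp)]; norm_num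
  · rw [S1092.result (⟨2, CoxeterMatrix.B 2⟩, 8) (by simp)]; norm_num
  · rw [S1092.result (⟨4, coxeterD4⟩, 192) (by simp)]; norm_num
  · rw [S1092.result (⟨4, CoxeterMatrix.F₄⟩, 1152) (by simp)]; norm_num
  · rw [S1093.result (⟨6, CoxeterMatrix.E₆⟩, 51840) (by simp)]; norm_num
  · rw [S1093.result (⟨7, CoxeterMatrix.E₇⟩, 2903040) (by simp)]; norm_num
  · rw [S1093.result (⟨8, CoxeterMatrix.E₈⟩, 696729600) (by simp)]; norm_num

theorem sdOrd_WE7 : SDOrd 2903040 7 := Ord.sdOrd_of (by decide +kernel)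

/-- **[CW]** -/
theorem boxCW : BoxCW := by
  intro D l M hp _ V hV
  obtain ⟨h1, h2⟩ := card_W hp
  have h3 := card_dvd _ _ hV
  have _ : Finite V := Nat.finite_of_card_ne_zero fun h0 => by
    have h4 := h3.trans h1
    rw [h0] at h4
    norm_num at h4
  exact ⟨Ord.ps_of_sdOrd Ord.sdOrd_WE8 V (h3.trans h1), fun hl => Ord.ps_of_sdOrd sdOrd_WE7 V (h3.trans (h2 hl))⟩

end Cfsg.Agent.DS.Ex.TorCF
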