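import Cfsg.Agent.DS.Ex.TorFix
import Cfsg.Agent.DS.Ex.TorCE
import Cfsg.Agent.DS.Ex.TorCF

/-!
# S5881, toral case: the main theorem (helper60)

* `exists_fin` : an invariant toral subgroup gives, after conjugation, an invariant finite subgroup `A ≠ 1` of `T`;
* `lang_step` : after conjugation by an element of `M(S)`, `σ` is a frame automorphism preserving the positive roots of `S`;
* `mem_of_norm_Ps` : the elements of `S` normalizing `M(Ψ)`, `Ψ = Ps A ≠ ∅`, lie in `H`;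
* `NF`, `exists_nf` : the normal form;
* `boxTor : BoxTor`.
-/

set_option autoImplicit false
set_option linter.unusedSectionVars false

namespace Cfsg.Agent.DS.Ex.Tor

open CoxeterSystem Cfsg Cfsg.Lie Cfsg.Lie.ChevalleyDatum
open Cfsg.Agent.ChevalleyStructure Cfsg.Agent.ChevalleyStructure.Elts Cfsg.Agent.ChevalleyStructure.CoxeterGeom
  Cfsg.Agent.ChevalleyStructure.CoxeterGeomTypes
open Cfsg.Agent.Tits.Roots Cfsg.Agent.Tits.Core Cfsg.Agent.Nodes Cfsg.Agent.Nodes.Reps Cfsg.Agent.Nodes.BNOf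
  Cfsg.Agent.Nodes.RGDChev Cfsg.Agent.Nodes.Bruhat Cfsg.Agent.Nodes.NormalForm
open Cfsg.Agent.KFacts.RgdField Cfsg.Agent.KFacts.RgdChevCoord
open Cfsg.Agent.BpExc Cfsg.Agent.BpExc.TorCent Cfsg.Agent.BpExc.TorChev Cfsg.Agent.BpExc.Tow
  Cfsg.Agent.BpExc.TowChev Cfsg.Agent.BpExc.Fr Cfsg.Agent.BpExc.LangFr Cfsg.Agent.BpExc.Zc Cfsg.Agent.BpExc.RelBN
  Cfsg.Agent.BpExc.SubBN Cfsg.Agent.GpExc.Field
open Cfsg.Agent.H469.Exc Cfsg.Agent.H129.TorusChar Cfsg.Agent.DS.Nt Cfsg.Agent.DS.Cl Cfsg.Agent.H936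
open scoped commutatorElement

theorem dS_subgroupOf {G : Type*} [Group G] {N P : Subgroup G} (h : N ≤ P) (k : ℕ) :
    (dS N k).subgroupOf P = dS (N.subgroupOf P) k := by
  apply Subgroup.map_injective P.subtype_injective
  rw [dS_map, Subgroup.subgroupOf_map_subtype, Subgroup.subgroupOf_map_subtype, inf_eq_left.2 h,
    inf_eq_left.2 ((dS_le N k).trans h)]

variable {D : ChevalleyDatum} {l : ℕ} {M : CoxeterMatrix (Fin l)} {hp : IsType D l M} {p : ℕ} [Fact p.Prime]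
  {G : Type} [Group G] {S H : Subgroup G}

theorem fin_ord (hp : IsType D l M) (y : YY D p) : IsOfFinOrder y := by
  obtain ⟨E, hE⟩ := TowChev.exists_level hp (locFin p) y
  obtain ⟨y', rfl⟩ := hE E le_rfl
  have : Finite ↥(D.group ↥E.1) := TowChev.finite_group
  exact (emb hp.inList E.1.subtype).isOfFinOrder (isOfFinOrder_of_finite y')

theorem fin_tors (hp : IsType D l M) {n : ℕ} (hn : 0 < n) : {t : YY D p | t ∈ TT D (KK p) ∧ t ^ n = 1}.Finite := by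
  classical
  have h1 : {z : KK p | z ^ n = 1}.Finite := by
    refine (Polynomial.nthRoots n (1 : KK p)).toFinset.finite_toSet.subset fun z hz => ?_
    rw [Finset.mem_coe, Multiset.mem_toFinset, Polynomial.mem_nthRoots hn]
    exact hz
  have h3 : (Set.univ.pi fun _ : Fin l => {z : KK p | z ^ n = 1}).Finite := Set.Finite.pi fun _ => h1
  refine Set.Finite.of_finite_image (f := fun t => fun i => cX hp t (sr i)) (h3.subset ?_) ?_
  · rintro _ ⟨t, ⟨ht, htn⟩, rfl⟩ i -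
    show cX hp t (sr i) ^ n = 1
    rw [← cX_pow hp ht, htn, cX_one]
  · rintro s ⟨hs, -⟩ t ⟨ht, -⟩ e
    exact cX_inj hp hs ht fun i => congrFun e i

/-- **A finite invariant subgroup of the torus.** -/
theorem exists_fin (L : Lift hp p S) {A₀ : Subgroup (YY D p)} (h0 : A₀ ≠ ⊥) (hT : Toral p A₀) (hI : L.Inv H A₀) :
    ∃ (z : YY D p) (A : Subgroup (YY D p)), Finite A ∧ A ≠ ⊥ ∧ A ≤ TT D (KK p) ∧ (L.conj z).Inv H A := by
  obtain ⟨z, hz⟩ := hT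
  have h1 := L.inv_conj z hI
  set A₁ := A₀.map (MulAut.conj z).toMonoidHom with hA₁
  have h2 : A₁ ≤ TT D (KK p) := by
    rintro _ ⟨a, ha, rfl⟩
    exact hz a ha
  obtain ⟨a, ha, ha1⟩ := (Subgroup.bot_or_exists_ne_one A₀).resolve_left h0
  obtain ⟨n, hn, han⟩ := isOfFinOrder_iff_pow_eq_one.1 (fin_ord hp (z * a * z⁻¹))
  let A : Subgroup (YY D p) :=
    { carrier := {t | t ∈ A₁ ∧ t ^ n = 1}
      one_mem' := ⟨one_mem _, one_pow _⟩
      mul_mem' := fun {s t} hs ht => ⟨mul_mem hs.1 ht.1, by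
        rw [Commute.mul_pow (TT_comm hp s (h2 hs.1) t (h2 ht.1)), hs.2, ht.2, one_mul]⟩
      inv_mem' := fun {s} hs => ⟨inv_mem hs.1, by rw [inv_pow, hs.2, inv_one]⟩ }
  refine ⟨z, A, ((fin_tors hp hn).subset fun t ht => ⟨h2 ht.1, ht.2⟩).to_subtype, fun h3 => ?_, fun t ht => h2 ht.1,
    fun φ hφ t ht => ⟨h1 φ hφ t ht.1, by rw [← map_pow, ht.2, map_one]⟩⟩
  have h4 : z * a * z⁻¹ ∈ A := ⟨⟨a, ha, rfl⟩, han⟩
  rw [h3, Subgroup.mem_bot, mul_inv_eq_one, mul_eq_left] at h4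
  exact ha1 h4

variable {R : Set (Fin l → ℤ)}

/-- **Lang's theorem**: `σ` becomes a frame automorphism. -/
theorem lang_step (L : Lift hp p S) (hR : CS hp R) {g : (Fin l → ℤ) ≃+ (Fin l → ℤ)} (h : Act hp p R L.σ g) :
    ∃ y ∈ MS D p R, FR hp p (L.conj y).σ g ∧ Pres R g := by
  obtain ⟨m, hm, β, e, F, P⟩ := h
  have h1 : β = MulAut.conj m⁻¹ * L.σ := by rw [e, map_inv, inv_mul_cancel_left]
  have h2 : IsFrob p L.e β := by
    rw [h1]
    exact L.frob.conj_mul _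
  obtain ⟨y, hy, e'⟩ := lang_fr hp M.toCoxeterSystem L.he h2 F hR.root (fun a ha => (P.1 a).2 ha) hm
  refine ⟨y, hy, ?_, P⟩
  have h3 : (L.conj y).σ = β := by
    rw [Lift.conj_σ, conj_form, e, conj_mul_apply, ← mul_assoc, ← map_mul]
    have h4 : y * (m * β y * m⁻¹)⁻¹ * m = 1 := by
      calc y * (m * β y * m⁻¹)⁻¹ * m = y * m * (β y)⁻¹ := by group
        _ = y * (y⁻¹ * β y) * (β y)⁻¹ := by rw [← e']
        _ = 1 := by group
    rw [h4, map_one, one_mul]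
  rw [h3]
  exact F

/-- **Maximality**: the elements of `S` normalizing `M(Ψ)`. -/
theorem mem_of_norm_Ps [Finite G] (L : Lift hp p S) (hs : Setup S H) {A : Subgroup (YY D p)} [Finite A] (h0 : A ≠ ⊥)
    (hA : A ≤ TT D (KK p)) (hI : L.Inv H A) (hne : (Ps hp p A).Nonempty) {x : S}
    (hx : ∀ m ∈ MS D p (Ps hp p A), L.ι x * m * (L.ι x)⁻¹ ∈ MS D p (Ps hp p A)) : (x : G) ∈ H := by
  rw [L.inv_iff] at hI
  refine L.mem_of_norm hs (fun φ hφ => ?_) ?_ (fun h => h0 ?_) hx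
  · obtain ⟨y, hy⟩ := L.wfr φ (L.GH_le H hφ)
    exact map_MS hA (hI φ hφ) hy
  · obtain ⟨y, g, F⟩ := L.fr
    obtain ⟨g', h1⟩ := exists_act hA (hI _ (L.σ_mem_GH hs.normal hs.cent H)) F (cs_Ps hA) le_rfl fun _ _ h => h
    obtain ⟨z, hz, F', P⟩ := lang_step L (cs_Ps hA) h1
    have := (L.conj z).fin
    obtain ⟨u, hu, hu1, hσ, j, hj⟩ := (fix_main (cs_Ps hA) (L.conj z).he (L.conj z).frob F' P).2.2 hne
    have h2 : z * L.σ (z⁻¹ * u * z) * z⁻¹ = u := hσ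
    refine ⟨z⁻¹ * u * z, mul_mem (mul_mem (inv_mem hz) hu) hz, fun h3 => hu1 ?_, ?_, j, ?_⟩
    · calc u = z * (z⁻¹ * u * z) * z⁻¹ := by group
        _ = 1 := by rw [h3]; group
    · calc L.σ (z⁻¹ * u * z) = z⁻¹ * (z * L.σ (z⁻¹ * u * z) * z⁻¹) * z := by group
        _ = _ := by rw [h2]
    · rw [show z⁻¹ * u * z = z⁻¹ * u * z⁻¹⁻¹ by rw [inv_inv], conj_pow, hj]
      group
  · rw [eq_bot_iff]
    intro a ha
    exact L.cent a fun x => (Mz_comm (hp := hp) hA (h ⟨x, rfl⟩) ha).symm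

/-- **The normal form** of a lift with respect to a closed symmetric set of roots `R`. -/
structure NF (L : Lift hp p S) (H : Subgroup G) (R : Set (Fin l → ℤ)) : Prop where
  cs : CS hp R
  fr : ∃ g, FR hp p L.σ g ∧ Pres R g
  act : ∀ φ ∈ L.GH H, ∀ (y : YY D p) (g : (Fin l → ℤ) ≃+ (Fin l → ℤ)), FR hp p (MulAut.conj y * φ) g →
    ∃ g', Act hp p R φ g'

theorem exists_nf (L : Lift hp p S) (hS : S.Normal) (hC : Subgroup.centralizer (S : Set G) = ⊥) {A : Subgroup (YY D p)}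
    [Finite A] (hA : A ≤ TT D (KK p)) (hI : L.Inv H A) (hR : CS hp R) (h1 : Ps hp p A ⊆ R)
    (h2 : ∀ g : (Fin l → ℤ) ≃+ (Fin l → ℤ), (∀ a, RT hp (g a) ↔ RT hp a) → (∀ a, g a ∈ Ps hp p A ↔ a ∈ Ps hp p A) →
      ∀ a, g a ∈ R ↔ a ∈ R) : ∃ z ∈ MS D p R, NF (L.conj z) H R := by
  rw [L.inv_iff] at hI
  obtain ⟨y, g, F⟩ := L.fr
  obtain ⟨g', h3⟩ := exists_act hA (hI _ (L.σ_mem_GH hS hC H)) F hR h1 h2
  obtain ⟨z, hz, F', P⟩ := lang_step L hR h3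
  refine ⟨z, hz, hR, ⟨g', F', P⟩, fun φ hφ y g F => ?_⟩
  rw [L.mem_GH_conj] at hφ
  rw [Lift.eq_cf z φ, ← mul_assoc, ← map_mul] at F
  obtain ⟨g'', h4⟩ := exists_act hA (hI _ hφ) F hR h1 h2
  have h5 := Act.mul hR (Act.mul hR (Act.of_mem hz) h4) (Act.inv hR (Act.of_mem (hp := hp) hz))
  rw [Lift.cf_apply, show MulAut.conj z * ((MulAut.conj z)⁻¹ * φ * MulAut.conj z) * (MulAut.conj z)⁻¹ = φ by group] at h5
  exact ⟨_, h5⟩

theorem der_inner (L : Lift hp p S) {φ : MulAut (YY D p)} (hφ : φ ∈ dS (L.GH H) 1) : ∃ y, MulAut.conj y = φ := by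
  have h1 : dS (L.GH H) 1 ≤ (MulAut.conj : YY D p →* MulAut (YY D p)).range := by
    rw [dS_one, Subgroup.commutator_le]
    intro φ hφ ψ hψ
    obtain ⟨y, hy⟩ := L.der φ (L.GH_le H hφ) ψ (L.GH_le H hψ)
    exact ⟨y, hy.symm⟩
  exact h1 hφ

namespace NF

variable {L : Lift hp p S} (h : NF L H R)

include h

theorem der_le : dS (L.GH H) 1 ≤ EG p h.cs := by
  intro φ hφ
  obtain ⟨y, rfl⟩ := der_inner L hφ
  refine h.act _ (dS_le _ 1 hφ) y⁻¹ (AddEquiv.refl _) ?_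
  rw [← map_mul, inv_mul_cancel, map_one]
  exact Fr.one

theorem le_EG (hD : D ≠ chevF4) : L.GH H ≤ EG p h.cs := by
  intro φ hφ
  obtain ⟨y, g, F, -⟩ := L.sfr (fun e => absurd e hD) φ (L.GH_le H hφ)
  exact h.act φ hφ y g F

variable {ρ : EG p h.cs →* Equiv.Perm (Fin l → ℤ)}
  (hρ : ∀ (φ : EG p h.cs) (g : (Fin l → ℤ) ≃+ (Fin l → ℤ)), Act hp p R φ g → ρ φ = g.toEquiv)

include hρ

theorem la (N : Subgroup (MulAut (YY D p))) :
    LA M.toCoxeterSystem hp.isCartan R ((N.subgroupOf (EG p h.cs)).map ρ) := by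
  rintro _ ⟨φ, -, rfl⟩
  obtain ⟨g, hg⟩ := φ.2
  rw [hρ φ g hg]
  obtain ⟨m, -, β, -, F, P⟩ := hg
  exact ⟨g, fun _ => rfl, F.root, P⟩

theorem inW : InW M.toCoxeterSystem hp.isCartan (((dS (L.GH H) 1).subgroupOf (EG p h.cs)).map ρ) := by
  rintro _ ⟨φ, hφ, rfl⟩
  obtain ⟨g, hg⟩ := φ.2
  rw [hρ φ g hg]
  obtain ⟨y, e⟩ := der_inner L (Subgroup.mem_subgroupOf.1 hφ)
  rw [← e] at hg
  obtain ⟨w, rfl, -⟩ := hg.inner
  exact ⟨w, fun _ => rfl⟩

theorem inW8 (hD : D ≠ chevF4) (hl : l = 8) :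
    InW M.toCoxeterSystem hp.isCartan (((L.GH H).subgroupOf (EG p h.cs)).map ρ) := by
  rintro _ ⟨φ, hφ, rfl⟩
  obtain ⟨g, hg⟩ := φ.2
  rw [hρ φ g hg]
  obtain ⟨y, g', F', e'⟩ := L.sfr (fun e => absurd e hD) φ (L.GH_le H (Subgroup.mem_subgroupOf.1 hφ))
  obtain rfl := e' hl
  obtain ⟨m, -, β, e, F, -⟩ := hg
  have h1 := Fr.mul F F'.inv
  have h2 : β * (MulAut.conj y * (φ : MulAut (YY D p)))⁻¹ = MulAut.conj (m⁻¹ * y⁻¹) := by
    rw [e, map_mul, map_inv, map_inv]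
    group
  rw [h2] at h1
  obtain ⟨w, -, hw⟩ := Tor.inner (hp := hp) h1
  exact ⟨w, fun a => DFunLike.congr_fun hw a⟩

theorem ker_le : dS (L.GH H) 1 ⊓ ρ.ker.map (EG p h.cs).subtype ≤
    (DD D p R ⊓ fixedSubgroup L.σ).map (MulAut.conj : YY D p →* MulAut (YY D p)) := by
  rintro _ ⟨h1, φ, hφ, rfl⟩
  obtain ⟨g, hg⟩ := φ.2
  have h2 : ρ φ = 1 := hφ
  rw [hρ φ g hg] at h2
  obtain ⟨y, e⟩ := der_inner L h1
  have e' : MulAut.conj y = (φ : MulAut (YY D p)) := e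
  rw [← e'] at hg
  obtain ⟨w, rfl, h3⟩ := hg.inner
  refine ⟨y, ⟨h3 (rep_injective M.toCoxeterSystem hp.isCartan ?_), L.fix_of_conj_mem ?_⟩, e⟩
  · rw [map_one]
    exact LinearMap.ext fun a => Equiv.congr_fun h2 a
  · rw [e]
    exact L.GH_le H (dS_le _ 1 h1)

theorem ps_ker (hS : S.Normal) (hC : Subgroup.centralizer (S : Set G) = ⊥) (hH : ∀ x : S, L.ι x ∈ DD D p R → (x : G) ∈ H)
    {d : ℕ} (hd : 4 ≤ d) {f : (Fin l → ℤ) →+ ℤ} (hf : ∀ a ∈ Sp R, 0 < f a ∧ f a < 2 ^ d) :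
    PS (d + 1) ↥(dS (L.GH H) 1 ⊓ ρ.ker.map (EG p h.cs).subtype) := by
  obtain ⟨g, F, P⟩ := h.fr
  have := L.fin
  obtain ⟨h1, h2, -⟩ := fix_main h.cs L.he L.frob F P
  refine ps_down (ps_map _ (h1 d f hd hf)) ((dS_anti _ (show 1 + 1 ≤ d + 1 by omega)).trans (le_inf ?_ ?_)) (h.ker_le hρ)
  · rw [← dS_add]
    refine dS_mono ?_ 1
    rw [← dS_map]
    rintro _ ⟨u, hu, rfl⟩
    have h3 : u ∈ L.KP (DD D p R) := h2 _ (fun y hy => L.conj_KP hy.2 fun m hm => mul_mem (mul_mem hy.1 hm) (inv_mem hy.1))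
      (fun u hu hσ hj => Subgroup.subset_closure ⟨Subgroup.mem_sup_left hu, hσ, hj⟩) hu
    obtain ⟨x, rfl⟩ := L.KP_le_range _ h3
    exact L.conj_mem_GH hS hC (hH x (L.KP_le _ h3))
  · refine (dS_le _ _).trans ?_
    rintro _ ⟨y, hy, rfl⟩
    have h3 := Act.of_mem_DD h.cs hy.1
    exact ⟨⟨MulAut.conj y, _, h3⟩, hρ ⟨MulAut.conj y, _, h3⟩ _ h3, rfl⟩

omit hρ in
theorem ps_of {a b : ℕ} (h1 : PS a ↥(dS (L.GH H) 1 ⊓ ρ.ker.map (EG p h.cs).subtype))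
    (h2 : PS b (((dS (L.GH H) 1).subgroupOf (EG p h.cs)).map ρ)) : PS (1 + (a + b)) H :=
  L.ps_of_GH (ps_up le_rfl (dS_le _ 1) (ps_ext_le h.der_le ρ h1 h2))

end NF

theorem norm_MS (hR : CS hp R) {d : YY D p} (hd : d ∈ DD D p R) : ∀ m ∈ MS D p R, d * m * d⁻¹ ∈ MS D p R := by
  obtain ⟨m', hm', t, ht, rfl⟩ := (mem_DD hR.root).1 hd
  intro m hm
  rw [show m' * t * m * (m' * t)⁻¹ = m' * (t * m * t⁻¹) * m'⁻¹ by group]
  exact mul_mem (mul_mem hm' (T_conj_MS hR.root ht hm)) (inv_mem hm')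

theorem norm_MS_of {R' : Set (Fin l → ℤ)} (hR : CS hp R) (hR' : CS hp R')
    (h : ∀ a ∈ R, ∀ b ∈ R', b ∉ R → ∀ z, ¬ ZB M.toCoxeterSystem hp.isCartan b a z) {d : YY D p} (hd : d ∈ DD D p R') :
    ∀ m ∈ MS D p R, d * m * d⁻¹ ∈ MS D p R := by
  have h1 : MS D p R' ≤ Subgroup.normalizer (MS D p R : Set (YY D p)) := by
    refine RGD.Sup_le fun b hb => ?_
    by_cases hbR : b ∈ R
    · exact (RGD.le_Sup hbR).trans Subgroup.le_normalizer
    · refine le_trans (fun x hx => ?_) (Subgroup.centralizer_le_normalizer _)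
      have h2 : MS D p R ≤ Subgroup.centralizer {x} := by
        refine RGD.Sup_le fun a ha y hy => ?_
        have h3 := commZ hp p b a (hR'.root b hb) (hR.root a ha) (fun e => hbR (e ▸ ha))
          (fun e => hbR (e ▸ hR.neg a ha)) x hx y hy
        have h4 : RGD.Sup (XX D l (KK p)) {z | ZB M.toCoxeterSystem hp.isCartan b a z} ≤ ⊥ :=
          RGD.Sup_le fun z hz => absurd hz (h a ha b hb hbR z)
        rw [Subgroup.mem_centralizer_singleton_iff]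
        exact (commutatorElement_eq_one_iff_mul_comm.1 (Subgroup.mem_bot.1 (h4 h3))).symm
      rw [Subgroup.mem_centralizer_iff]
      intro m hm
      exact Subgroup.mem_centralizer_singleton_iff.1 (h2 hm)
  obtain ⟨m', hm', t, ht, rfl⟩ := (mem_DD hR'.root).1 hd
  intro m hm
  rw [show m' * t * m * (m' * t)⁻¹ = m' * (t * m * t⁻¹) * m'⁻¹ by group]
  exact (Subgroup.mem_normalizer_iff.1 (h1 hm') _).1 (T_conj_MS hR.root ht hm)

theorem mem_DD_conj {L : Lift hp p S} {z : YY D p} (hz : z ∈ MS D p R) {x : S} (hx : (L.conj z).ι x ∈ DD D p R) :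
    L.ι x ∈ DD D p R := by
  rw [Lift.conj_ι] at hx
  rw [show L.ι x = z⁻¹ * (z * L.ι x * z⁻¹) * z by group]
  exact mul_mem (mul_mem (inv_mem (Subgroup.mem_sup_left hz)) hx) (Subgroup.mem_sup_left hz)

theorem cf_of (hCF : BoxCF) (hp : IsType D l M) (hF : D = chevF4) : (∀ a, RT hp a → ht a < 2 ^ 4) ∧
    ∀ R : Set (Fin l → ℤ), (∀ a ∈ R, RT hp a) → (Sp R).Nonempty → ∀ V : Subgroup (Equiv.Perm (Fin l → ℤ)),
      LA M.toCoxeterSystem hp.isCartan R V → InW M.toCoxeterSystem hp.isCartan V → PS 3 V := by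
  subst hF
  exact hCF l M hp

/-- **The toral case.** -/
theorem boxTor_of (hCE : BoxCE) (hCS : BoxCS) (hCF : BoxCF) (hCW : BoxCW) : BoxTor := by
  intro _ D l M hp hD p _ G _ _ S H hs L₀ A₀ h0 hT hI₀
  obtain ⟨z₀, A, hfin, hA0, hA, hI⟩ := exists_fin L₀ h0 hT hI₀
  set L := L₀.conj z₀ with hL
  have hΨ := cs_Ps (hp := hp) hA
  by_cases hne : (Ps hp p A).Nonempty
  · by_cases hF : D = chevF4
    · obtain ⟨z, hz, h⟩ := exists_nf L hs.normal hs.cent hA hI hΨ le_rfl fun _ _ h => h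
      obtain ⟨ρ, hρ⟩ := exists_rho p h.cs
      obtain ⟨h1, h2⟩ := cf_of hCF hp hF
      have h3 : (Sp (Ps hp p A)).Nonempty := by
        obtain ⟨a, ha⟩ := hne
        rcases (hΨ.root a ha).pos_or_neg with h4 | h4
        · exact ⟨a, ha, h4⟩
        · exact ⟨-a, hΨ.neg a ha, neg_nonneg.2 h4⟩
      have h4 := h.ps_ker hρ hs.normal hs.cent (fun x hx => mem_of_norm_Ps L hs hA0 hA hI hne
        (norm_MS hΨ (mem_DD_conj hz hx))) (d := 4) le_rfl (f := Slope.htHom)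
        fun a ha => ⟨RGD.ht_pos (hΨ.root a ha.1) ha.2, h1 a (hΨ.root a ha.1)⟩
      have h5 := h.ps_of h4 (h2 _ hΨ.root h3 _ (h.la hρ _) (h.inW hρ))
      exact h5
    · have hE : TypE D := hD.resolve_left hF
      obtain ⟨c1, c2, c3, c4, c5⟩ := hCS D l M hp hE _ hΨ.cl hΨ.neg
      have hR : CS hp (Star M.toCoxeterSystem hp.isCartan (Ps hp p A)) := ⟨c1, c2⟩
      obtain ⟨z, hz, h⟩ := exists_nf L hs.normal hs.cent hA hI hR Set.subset_union_left c4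
      obtain ⟨ρ, hρ⟩ := exists_rho p h.cs
      have e : dS ((((L.conj z).GH H).subgroupOf (EG p h.cs)).map ρ) 1 =
          ((dS ((L.conj z).GH H) 1).subgroupOf (EG p h.cs)).map ρ := by
        rw [← dS_map, dS_subgroupOf (h.le_EG hF)]
      obtain ⟨d, hd, hd', ⟨f, hf⟩, h1⟩ := hCE D l M hp hE _ c1 c2 c3 _ (h.la hρ ((L.conj z).GH H))
        (by rw [e]; exact h.inW hρ)
      rw [e] at h1
      have h2 := h.ps_of (h.ps_ker hρ hs.normal hs.cent (fun x hx => mem_of_norm_Ps L hs hA0 hA hI hne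
        (norm_MS_of hΨ hR c5 (mem_DD_conj hz hx))) hd hf) h1
      rwa [show 1 + (d + 1 + (7 - d)) = 9 by omega] at h2
  · obtain ⟨z, hz, h⟩ := exists_nf L hs.normal hs.cent hA hI hΨ le_rfl fun _ _ h => h
    obtain ⟨ρ, hρ⟩ := exists_rho p h.cs
    have h1 : DD D p (Ps hp p A) ≤ TT D (KK p) :=
      sup_le (RGD.Sup_le fun a ha => absurd ⟨a, ha⟩ hne) le_rfl
    refine h.ps_of (ρ := ρ) (a := 1) (b := 7) (ps_of_comm fun φ hφ ψ hψ => ?_) ?_
    · obtain ⟨s, hs, rfl⟩ := h.ker_le hρ hφ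
      obtain ⟨t, ht, rfl⟩ := h.ker_le hρ hψ
      rw [← map_mul, ← map_mul, TT_comm hp s (h1 hs.1) t (h1 ht.1)]
    · by_cases hl : l = 8
      · have hF : D ≠ chevF4 := fun e => by
          have := (typ_l hp).1 e
          omega
        have h2 := (hCW D l M hp hD _ (h.inW8 hρ hF hl)).1
        rw [dS_subgroupOf (h.le_EG hF), dS_map, ps_iff, dS_add, dS_add]
        exact ps_iff.1 h2
      · exact (hCW D l M hp hD _ (h.inW hρ)).2 hl

end Cfsg.Agent.DS.Ex.Tor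

namespace Cfsg.Agent.DS.Ex

/-- **[X2] the toral case.** -/
theorem boxTor : BoxTor := Tor.boxTor_of TorCE.boxCE TorCE.boxCS TorCF.boxCF TorCF.boxCW

end Cfsg.Agent.DS.Ex
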