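import Cfsg.Agent.DS.Cl.Grp
import Cfsg.Agent.DS.Gen.SD
import Cfsg.Agent.BpTab.Final
import Cfsg.Agent.H456.FourA
import Cfsg.Agent.H946.RadCyc
import Cfsg.Agent.Involutions.NormalFour

/-!
# The derived series of a finite group with a split (B, N)-pair (helper60)

`SBN P p U H X` : `B = U H`, `U` a `p`-group, `H` commutative, root groups `X s`.  If `U⁽ᵈ⁾ = 1` and `4 ≤ d`, then
`G⁽ᵈ⁺¹⁾` is perfect (`SBN.ps`).  The nodes `t` outside `G^∞ B` are isolated, and the normal subgroup generated by `X t`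
has derived length at most four.
-/

set_option autoImplicit false
set_option linter.unusedSectionVars false

namespace Cfsg.Agent.DS.Ex.BN

open Subgroup Cfsg Cfsg.Agent.H936 Cfsg.Agent.DS.Cl Cfsg.Agent.BpExc.TitsRed Cfsg.Agent.LieExceptional
open scoped commutatorElement

variable {G : Type*} [Group G]

/-! ### commuting subgroups -/

theorem exists_mul_of_comm {A B : Subgroup G} (h : A ≤ centralizer (B : Set G)) {x : G} (hx : x ∈ A ⊔ B) :
    ∃ a ∈ A, ∃ b ∈ B, x = a * b := by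
  have h1 : A ≤ normalizer (B : Set G) := h.trans (centralizer_le_normalizer _)
  have h2 : x ∈ ((A ⊔ B : Subgroup G) : Set G) := hx
  rw [coe_mul_of_left_le_normalizer_right _ _ h1, Set.mem_mul] at h2
  obtain ⟨a, ha, b, hb, e⟩ := h2
  exact ⟨a, ha, b, hb, e.symm⟩

theorem dS_sup_of_comm {A B : Subgroup G} (h : A ≤ centralizer (B : Set G)) (k : ℕ) :
    dS (A ⊔ B) k ≤ dS A k ⊔ dS B k := by
  induction k with
  | zero => exact le_rfl
  | succ k ih =>
    rw [dS_succ]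
    refine (commutator_mono ih ih).trans ?_
    have h1 : dS A k ≤ centralizer (dS B k : Set G) := (dS_le A k).trans (h.trans (centralizer_le (dS_le B k)))
    rw [commutator_le]
    intro x hx y hy
    obtain ⟨a, ha, b, hb, rfl⟩ := exists_mul_of_comm h1 hx
    obtain ⟨a', ha', b', hb', rfl⟩ := exists_mul_of_comm h1 hy
    have c1 : b * a = a * b := mem_centralizer_iff.1 (h1 ha) b hb
    have c2 : b * a' = a' * b := mem_centralizer_iff.1 (h1 ha') b hb
    have c3 : b' * a = a * b' := mem_centralizer_iff.1 (h1 ha) b' hb'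
    have c4 : b' * a' = a' * b' := mem_centralizer_iff.1 (h1 ha') b' hb'
    have c5 : ⁅b, b'⁆ * a' = a' * ⁅b, b'⁆ :=
      mem_centralizer_iff.1 (h1 ha') _ ((dS_le (dS B k) 1) (commutator_mem_commutator hb hb'))
    have c6 : ⁅b, b'⁆ * a = a * ⁅b, b'⁆ :=
      mem_centralizer_iff.1 (h1 ha) _ ((dS_le (dS B k) 1) (commutator_mem_commutator hb hb'))
    have e : ⁅a * b, a' * b'⁆ = ⁅a, a'⁆ * ⁅b, b'⁆ := by
      have e1 : ⁅a * b, a' * b'⁆ = a * (b * a') * b' * b⁻¹ * (b' * a)⁻¹ * a'⁻¹ := by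
        rw [commutatorElement_def]; group
      rw [e1, c2, c3]
      have e2 : a * (a' * b) * b' * b⁻¹ * (a * b')⁻¹ * a'⁻¹ = a * a' * (⁅b, b'⁆ * a⁻¹) * a'⁻¹ := by
        rw [commutatorElement_def]; group
      have c7 : ⁅b, b'⁆ * a⁻¹ = a⁻¹ * ⁅b, b'⁆ := by
        rw [eq_inv_mul_iff_mul_eq, ← mul_assoc, ← c6, mul_inv_cancel_right]
      have c8 : ⁅b, b'⁆ * a'⁻¹ = a'⁻¹ * ⁅b, b'⁆ := by
        rw [eq_inv_mul_iff_mul_eq, ← mul_assoc, ← c5, mul_inv_cancel_right]
      rw [e2, c7, mul_assoc, mul_assoc a⁻¹, c8, commutatorElement_def a a']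
      group
    rw [e]
    exact mul_mem (mem_sup_left (commutator_mem_commutator ha ha')) (mem_sup_right (commutator_mem_commutator hb hb'))

theorem dS_sup_normal (R A : Subgroup G) [R.Normal] (k : ℕ) : dS (R ⊔ A) k ≤ R ⊔ dS A k := by
  induction k with
  | zero => exact le_rfl
  | succ k ih =>
    rw [dS_succ]
    exact (commutator_mono ih ih).trans (commutator_sup_normal R _)

/-- a `p`-group all of whose commutative subgroups are cyclic is metabelian -/
theorem dS_two_of_cyclic [Finite G] {p : ℕ} [Fact p.Prime] {X : Subgroup G} (hX : IsPGroup p X)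
    (h : ∀ A : Subgroup G, A ≤ X → (∀ a ∈ A, ∀ b ∈ A, a * b = b * a) → IsCyclic A) : dS X 2 = ⊥ := by
  obtain ⟨A, hAn, hAc, hA⟩ := Involutions.NormalFour.exists_self_centralizing_normal hX
  have h1 : IsCyclic (A.map X.subtype) := by
    refine h _ (map_subtype_le _) ?_
    rintro _ ⟨a, ha, rfl⟩ _ ⟨b, hb, rfl⟩
    rw [← map_mul, ← map_mul, hAc a ha b hb]
  have h2 : IsCyclic A := isCyclic_of_surjective (A.equivMapOfInjective _ X.subtype_injective).symm
    (MulEquiv.surjective _)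
  have h3 : derivedSeries X 1 ≤ A := by
    rw [derivedSeries_one, _root_.commutator_def, commutator_le]
    intro x _ y _
    refine hA _ fun a ha => ?_
    have h4 := H946.Rad.mulAut_comm h2 (MulAut.conjNormal (H := A) x) (MulAut.conjNormal (H := A) y)
    have h5 : (MulAut.conjNormal (H := A) ⁅x, y⁆ : MulAut A) = 1 := by
      rw [map_commutatorElement, commutatorElement_eq_one_iff_mul_comm, h4]
    have h6 := congrArg (fun f : MulAut A => ((f ⟨a, ha⟩ : A) : X)) h5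
    simp only [MulAut.conjNormal_apply, MulAut.one_apply] at h6
    rw [mul_inv_eq_iff_eq_mul] at h6
    exact h6
  rw [← Cl.map_derivedSeries_eq, map_eq_bot_iff_of_injective _ X.subtype_injective, eq_bot_iff, derivedSeries_succ,
    commutator_le]
  intro a ha b hb
  rw [mem_bot, commutatorElement_eq_one_iff_mul_comm]
  exact hAc a (h3 ha) b (h3 hb)

/-! ### the data -/

/-- `t` commutes with the other nodes -/
def Iso (P : BNPair G) (t : G) : Prop := ∀ s ∈ P.S, s ≠ t → s * t * s⁻¹ * t⁻¹ ∈ P.B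

/-- the rank one group -/
def LL (X : G → Subgroup G) (t : G) : Subgroup G := X t ⊔ (X t).map (MulAut.conj t).toMonoidHom

/-- **Split (B, N)-pairs with root groups.** -/
structure SBN (P : BNPair G) (p : ℕ) (U H : Subgroup G) (X : G → Subgroup G) : Prop extends Dat P U X where
  pU : IsPGroup p U
  H_le : H ≤ P.B
  B_eq : ∀ b ∈ P.B, ∃ u ∈ U, ∃ h ∈ H, b = u * h
  Hc : ∀ a ∈ H, ∀ b ∈ H, a * b = b * a
  HX : ∀ s ∈ P.S, ∀ h ∈ H, ∀ x ∈ X s, h * x * h⁻¹ ∈ X s
  sH : ∀ s ∈ P.S, ∀ h ∈ H, s⁻¹ * h * s ∈ H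
  sq : ∀ s ∈ P.S, s * s ∈ H
  free : ∀ s ∈ P.S, ∀ x ∈ X s, s * x * s⁻¹ ∈ P.B → x = 1
  dec : ∀ t ∈ P.S, Iso P t → ∀ u ∈ U, ∃ v ∈ U, ∃ x ∈ X t, u = v * x ∧ v ∈ centralizer (LL X t : Set G)
  cen : ∀ t ∈ P.S, Iso P t → ∀ s ∈ P.S, s ≠ t → X s ≤ centralizer (LL X t : Set G)
  nor : ∀ t ∈ P.S, Iso P t → ∀ s ∈ P.S, s ≠ t → ∀ y ∈ LL X t, s * y * s⁻¹ ∈ LL X t

theorem conj_mem_LL {X : G → Subgroup G} {t x : G} (hx : x ∈ X t) : t * x * t⁻¹ ∈ LL X t :=
  mem_sup_right ⟨x, hx, rfl⟩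

theorem LL_le {X : G → Subgroup G} {t : G} {K : Subgroup G} (h1 : X t ≤ K) (h2 : ∀ x ∈ X t, t * x * t⁻¹ ∈ K) :
    LL X t ≤ K := by
  refine sup_le h1 ?_
  rintro _ ⟨x, hx, rfl⟩
  exact h2 x hx

theorem top_le_of {P : BNPair G} {K : Subgroup G} (h1 : P.B ≤ K) (h2 : ∀ s ∈ P.S, s ∈ K) : K = ⊤ := by
  rw [eq_top_iff, ← BNPairCore.parabolic_S_eq_top (P := P)]
  exact sup_le h1 ((closure_le _).2 h2)

/-- the minimal parabolic subgroup -/
theorem mem_min {P : BNPair G} {t : G} (ht : t ∈ P.S) {g : G} (hg : g ∈ P.parabolic {t}) :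
    g ∈ P.B ∨ ∃ b ∈ P.B, ∃ b' ∈ P.B, g = b * t * b' := by
  obtain ⟨n, hn, hC⟩ := (BNPairCore.mem_parabolic_iff (Set.singleton_subset_iff.2 ht) g).1 hg
  rw [← zpowers_eq_closure, mem_zpowers_iff] at hn
  obtain ⟨k, rfl⟩ := hn
  have h2 : ∀ j : ℤ, t ^ (2 * j) ∈ P.B := fun j => by
    rw [zpow_mul, zpow_two]
    exact zpow_mem (P.sq_mem t ht) j
  rcases Int.even_or_odd' k with ⟨j, rfl | rfl⟩
  · exact Or.inl (BNPairCore.mem_B_of_mem_C (h2 j) hC)
  · right
    rw [add_comm, zpow_add, zpow_one, BNPairCore.C_mul_right (h2 j)] at hC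
    exact BNPairCore.mem_C.1 hC

namespace SBN

variable {P : BNPair G} {p : ℕ} {U H : Subgroup G} {X : G → Subgroup G} (D : SBN P p U H X)

include D

theorem X_le_B {t : G} (ht : t ∈ P.S) : X t ≤ P.B := (D.le t ht).trans D.U_le

theorem conj_X {t : G} (ht : t ∈ P.S) (hi : Iso P t) {b : G} (hb : b ∈ P.B) {x : G} (hx : x ∈ X t) :
    b * x * b⁻¹ ∈ X t := by
  obtain ⟨u, hu, h, hh, rfl⟩ := D.B_eq b hb
  obtain ⟨v, -, y, hy, rfl, hv⟩ := D.dec t ht hi u hu
  have h1 : y * (h * x * h⁻¹) * y⁻¹ ∈ X t := mul_mem (mul_mem hy (D.HX t ht h hh x hx)) (inv_mem hy)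
  have h2 := mem_centralizer_iff.1 hv _ (mem_sup_left h1 : _ ∈ LL X t)
  have e : v * y * h * x * (v * y * h)⁻¹ = v * (y * (h * x * h⁻¹) * y⁻¹) * v⁻¹ := by group
  rw [e, ← h2, mul_inv_cancel_right]
  exact h1

theorem normal [Finite G] {t : G} (ht : t ∈ P.S) (hi : Iso P t) : (LL X t).Normal := by
  have key : ∀ g : G, (∀ x ∈ X t, g * x * g⁻¹ ∈ LL X t) → (∀ x ∈ X t, g * (t * x * t⁻¹) * g⁻¹ ∈ LL X t) →
      g ∈ normalizer (LL X t : Set G) := by
    intro g h1 h2
    refine mem_normalizer_fintype fun y hy => ?_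
    have h3 : LL X t ≤ (LL X t).comap (MulAut.conj g).toMonoidHom := LL_le h1 h2
    exact h3 hy
  rw [← normalizer_eq_top_iff]
  refine top_le_of (P := P) (fun b hb => ?_) fun s hs => ?_
  · obtain ⟨u, hu, h, hh, rfl⟩ := D.B_eq b hb
    obtain ⟨v, -, y, hy, rfl, hv⟩ := D.dec t ht hi u hu
    refine mul_mem (mul_mem (centralizer_le_normalizer _ hv) (le_normalizer (mem_sup_left hy : y ∈ LL X t))) ?_
    refine key h (fun x hx => mem_sup_left (D.HX t ht h hh x hx)) fun x hx => ?_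
    have e : h * (t * x * t⁻¹) * h⁻¹ = t * ((t⁻¹ * h * t) * x * (t⁻¹ * h * t)⁻¹) * t⁻¹ := by group
    rw [e]
    exact conj_mem_LL (D.HX t ht _ (D.sH t ht h hh) x hx)
  · by_cases hst : s = t
    · subst hst
      refine key s (fun x hx => conj_mem_LL hx) fun x hx => ?_
      have e : s * (s * x * s⁻¹) * s⁻¹ = (s * s) * x * (s * s)⁻¹ := by group
      rw [e]
      exact mem_sup_left (D.HX s hs _ (D.sq s hs) x hx)
    · exact mem_normalizer_fintype (D.nor t ht hi s hs hst)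

theorem mem_sup [Finite G] {t : G} (ht : t ∈ P.S) (hi : Iso P t) : t ∈ LL X t ⊔ P.B := by
  have := D.normal ht hi
  have h1 : normalClosure (X t : Set G) ≤ LL X t := normalClosure_le_normal (N := LL X t) fun x hx => mem_sup_left hx
  exact sup_le_sup_right h1 P.B (D.gen t ht)

theorem LL_le_min {t : G} (ht : t ∈ P.S) : LL X t ≤ P.parabolic {t} := by
  have h1 : t ∈ P.parabolic {t} := mem_sup_right (subset_closure rfl)
  have h2 : X t ≤ P.parabolic {t} := (D.X_le_B ht).trans le_sup_left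
  exact LL_le h2 fun x hx => mul_mem (mul_mem h1 (h2 hx)) (inv_mem h1)

omit D in
theorem le_max {t : G} {K : Subgroup G} (ht : t ∉ K ⊔ P.B) : K ≤ P.parabolic (P.S \ {t}) := by
  refine le_trans (le_sup_left : K ≤ K ⊔ P.B) ?_
  rw [BNPairCore.eq_parabolic (P := P) (M := K ⊔ P.B) le_sup_right]
  refine sup_le le_sup_left (le_trans (closure_mono ?_) le_sup_right)
  rintro s ⟨hs, hsK⟩
  refine ⟨hs, ?_⟩
  rintro rfl
  exact ht hsK

omit D in
/-- the section `V / C` -/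
theorem exists_V {t : G} (ht : t ∈ P.S) {N : ℕ} (hN : t ∉ derivedSeries G N ⊔ P.B) :
    ∃ V C : Subgroup G, V.Normal ∧ C.Normal ∧ C ≤ V ∧ C ≤ P.parabolic (P.S \ {t}) ∧ ⁅V, V⁆ ≤ C ∧ t ∈ V ⊔ P.B ∧
      ¬ V ≤ C ∧ V ⊓ P.parabolic (P.S \ {t}) ≤ C := by
  classical
  set Pt := P.parabolic (P.S \ {t}) with hPt
  set C := Pt.normalCore with hC
  have htP : t ∉ Pt := fun h => ((BNPairCore.mem_parabolic_gen_iff Set.sdiff_subset ht).1 h).2 rfl
  have h1 : ∃ k, derivedSeries G k ≤ C := ⟨N, normal_le_normalCore.2 (le_max hN)⟩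
  have h2 : Nat.find h1 ≠ 0 := by
    intro h0
    have h3 := Nat.find_spec h1
    rw [h0] at h3
    exact htP (normalCore_le Pt (h3 (mem_top t)))
  obtain ⟨k, hk⟩ := Nat.exists_eq_succ_of_ne_zero h2
  have h3 : derivedSeries G (k + 1) ≤ C := by
    have := Nat.find_spec h1
    rwa [hk] at this
  have h4 : ¬ derivedSeries G k ≤ C := Nat.find_min h1 (by omega)
  have hVV : ⁅C ⊔ derivedSeries G k, C ⊔ derivedSeries G k⁆ ≤ C :=
    (commutator_sup_normal C _).trans (sup_le le_rfl h3)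
  have hV : ¬ C ⊔ derivedSeries G k ≤ C := fun h => h4 (le_sup_right.trans h)
  have htV : t ∈ C ⊔ derivedSeries G k ⊔ P.B := by
    by_contra h
    exact hV (normal_le_normalCore.2 (le_max h))
  refine ⟨C ⊔ derivedSeries G k, C, inferInstance, inferInstance, le_sup_left, normalCore_le Pt, hVV, htV, hV, ?_⟩
  set V := C ⊔ derivedSeries G k with hVdef
  have hVn : V.Normal := inferInstance
  have h5 : (V ⊓ Pt).Normal := by
    rw [← normalizer_eq_top_iff]
    have a1 : Pt ≤ normalizer ((V ⊓ Pt : Subgroup G) : Set G) := by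
      intro g hg
      rw [mem_normalizer_iff]
      intro x
      refine ⟨fun hx => ⟨hVn.conj_mem x hx.1 g, Pt.mul_mem (Pt.mul_mem hg hx.2) (Pt.inv_mem hg)⟩, fun hx => ?_⟩
      have e : x = g⁻¹ * (g * x * g⁻¹) * g⁻¹⁻¹ := by group
      rw [e]
      exact ⟨hVn.conj_mem _ hx.1 g⁻¹, Pt.mul_mem (Pt.mul_mem (Pt.inv_mem hg) hx.2) (Pt.inv_mem (Pt.inv_mem hg))⟩
    have a0 : ∀ g ∈ V, ∀ x ∈ V ⊓ Pt, g * x * g⁻¹ ∈ V ⊓ Pt := by
      intro g hg x hx
      refine ⟨hVn.conj_mem x hx.1 g, ?_⟩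
      have e : g * x * g⁻¹ = ⁅g, x⁆ * x := by rw [commutatorElement_def]; group
      rw [e]
      exact mul_mem (normalCore_le Pt (hVV (commutator_mem_commutator hg hx.1))) hx.2
    have a2 : V ≤ normalizer ((V ⊓ Pt : Subgroup G) : Set G) := by
      intro g hg
      rw [mem_normalizer_iff]
      intro x
      refine ⟨a0 g hg x, fun hx => ?_⟩
      have e : x = g⁻¹ * (g * x * g⁻¹) * g⁻¹⁻¹ := by group
      rw [e]
      exact a0 _ (inv_mem hg) _ hx
    refine top_le_of (P := P) (le_trans le_sup_left a1) fun s hs => ?_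
    by_cases hst : s = t
    · subst hst
      exact (sup_le a2 (le_trans le_sup_left a1) : V ⊔ P.B ≤ _) htV
    · exact a1 (mem_sup_right (subset_closure ⟨hs, hst⟩))
  exact normal_le_normalCore.2 inf_le_right

omit D in
/-- the node is isolated -/
theorem iso_of {t : G} (ht : t ∈ P.S) {V C : Subgroup G} [V.Normal] [C.Normal]
    (hC : C ≤ P.parabolic (P.S \ {t})) (htV : t ∈ V ⊔ P.B) (hVC : V ⊓ P.parabolic (P.S \ {t}) ≤ C) : Iso P t := by
  intro s hs hst
  have htP : t ∉ P.parabolic (P.S \ {t}) := fun h =>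
    ((BNPairCore.mem_parabolic_gen_iff Set.sdiff_subset ht).1 h).2 rfl
  by_cases hsV : s ∈ V ⊔ P.B
  · obtain ⟨v, hv, b, hb, e⟩ := mem_sup_of_normal_left.1 hsV
    have h1 : v ∈ C := by
      refine hVC ⟨hv, ?_⟩
      have e2 : v = s * b⁻¹ := by rw [← e]; group
      rw [e2]
      exact Subgroup.mul_mem _ (mem_sup_right (subset_closure ⟨hs, hst⟩)) (Subgroup.inv_mem _ (mem_sup_left hb))
    refine S0319.commute_of_normal P C Set.inter_subset_left (BNPairCore.eq_parabolic le_sup_right) ⟨hs, ?_⟩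
      ⟨ht, fun h => htP ?_⟩
    · rw [← e]
      exact mul_mem (mem_sup_left h1) (mem_sup_right hb)
    · exact (sup_le hC le_sup_left : C ⊔ P.B ≤ _) h.2
  · have h1 := S0319.commute_of_normal P V Set.inter_subset_left (BNPairCore.eq_parabolic le_sup_right)
      (s := t) (s' := s) ⟨ht, htV⟩ ⟨hs, fun h => hsV h.2⟩
    have e : s * t * s⁻¹ * t⁻¹ = (t * s * t⁻¹ * s⁻¹)⁻¹ := by group
    rw [e]
    exact inv_mem h1

/-- `X t` acts freely on `V / C` -/
theorem free_V [Finite G] {t : G} (ht : t ∈ P.S) (hi : Iso P t) {V C : Subgroup G} [C.Normal]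
    (hC : C ≤ P.parabolic (P.S \ {t})) (hVC : V ⊓ P.parabolic (P.S \ {t}) ≤ C) {a v : G} (ha : a ∈ X t) (hv : v ∈ V)
    (hvC : v ∉ C) (h : v⁻¹ * (a * v * a⁻¹) ∈ C) : a = 1 := by
  have hL := D.normal ht hi
  set Pt := P.parabolic (P.S \ {t}) with hPt
  have hBP : P.B ≤ Pt := le_sup_left
  have htop : LL X t ⊔ Pt = ⊤ := by
    refine top_le_of (P := P) (hBP.trans le_sup_right) fun s hs => ?_
    by_cases hst : s = t
    · subst hst
      exact sup_le_sup_left hBP _ (D.mem_sup hs hi)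
    · exact mem_sup_right (mem_sup_right (subset_closure ⟨hs, hst⟩))
  have h1 : v ∈ LL X t ⊔ Pt := by rw [htop]; exact mem_top v
  obtain ⟨l, hl, g, hg, e⟩ := mem_sup_of_normal_left.1 h1
  have hvP : v ∉ Pt := fun h2 => hvC (hVC ⟨hv, h2⟩)
  rcases mem_min ht (D.LL_le_min ht hl) with h2 | ⟨b, hb, b', hb', rfl⟩
  · exact absurd (e ▸ mul_mem (hBP h2) hg) hvP
  obtain ⟨u, hu, k, hk, rfl⟩ := D.B_eq b hb
  obtain ⟨w, hw, x, hx, rfl, hwc⟩ := D.dec t ht hi u hu
  obtain ⟨l', hl', b₀, hb₀, et⟩ := mem_sup_of_normal_left.1 (D.mem_sup ht hi)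
  have h3 : t⁻¹ * w * t ∈ P.B := by
    have c1 := mem_centralizer_iff.1 hwc l' hl'
    have e1 : t⁻¹ * w * t = b₀⁻¹ * (l'⁻¹ * (w * l')) * b₀ := by rw [← et]; group
    rw [e1, ← c1, inv_mul_cancel_left]
    exact mul_mem (mul_mem (inv_mem hb₀) (D.U_le hw)) hb₀
  have c2 : x * w = w * x := mem_centralizer_iff.1 hwc x (mem_sup_left hx : x ∈ LL X t)
  set g' := (t⁻¹ * w * t) * (t⁻¹ * k * t) * b' * g with hg'
  have hg'P : g' ∈ Pt := mul_mem (mul_mem (mul_mem (hBP h3) (hBP (D.H_le (D.sH t ht k hk)))) (hBP hb')) hg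
  have ev : v = x * t * g' := by rw [← e, ← c2, hg']; group
  have h4 : t⁻¹ * (x⁻¹ * a * x) * t ∈ Pt := by
    have e1 : t⁻¹ * (x⁻¹ * a * x) * t = g' * (v⁻¹ * (a * v * a⁻¹)) * a * g'⁻¹ := by rw [ev]; group
    rw [e1]
    exact mul_mem (mul_mem (mul_mem hg'P (hC h)) (hBP (D.X_le_B ht ha))) (inv_mem hg'P)
  have hy : x⁻¹ * a * x ∈ X t := mul_mem (mul_mem (inv_mem hx) ha) hx
  have h5 : t⁻¹ * (x⁻¹ * a * x) * t ∈ P.parabolic {t} := by
    have a1 : t ∈ P.parabolic {t} := mem_sup_right (subset_closure rfl)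
    exact mul_mem (mul_mem (inv_mem a1) (mem_sup_left (D.X_le_B ht hy))) a1
  have h6 : t⁻¹ * (x⁻¹ * a * x) * t ∈ P.B := by
    rw [← parabolic_inf P (J := {t}) (K := P.S \ {t}) (Set.singleton_subset_iff.2 ht) Set.sdiff_subset
      (Set.inter_sdiff_self _ _)]
    exact ⟨h5, h4⟩
  have h7 := D.free t ht _ (D.HX t ht _ (inv_mem (D.sq t ht)) _ hy) (by
    have e1 : t * ((t * t)⁻¹ * (x⁻¹ * a * x) * (t * t)⁻¹⁻¹) * t⁻¹ = t⁻¹ * (x⁻¹ * a * x) * t := by group
    rw [e1]; exact h6)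
  rw [conj_eq_one_iff] at h7
  have e2 : a = x * (x⁻¹ * a * x) * x⁻¹ := by group
  rw [e2, h7]; group

/-- **The rank one groups outside `G^∞ B`.** -/
theorem rank_one [Finite G] [Fact p.Prime] {t : G} (ht : t ∈ P.S) {N : ℕ} (hN : t ∉ derivedSeries G N ⊔ P.B) :
    Iso P t ∧ dS (LL X t) 4 = ⊥ := by
  obtain ⟨V, C, hVn, hCn, hCV, hC, hVV, htV, hV, hVC⟩ := exists_V ht hN
  have hi := iso_of ht hC htV hVC
  refine ⟨hi, ?_⟩
  have hL := D.normal ht hi
  have h1 : dS (X t) 2 = ⊥ := by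
    refine dS_two_of_cyclic (p := p) (D.pU.to_le (D.le t ht)) fun A hA hAc => ?_
    by_contra hcyc
    obtain ⟨a, ha, ha1, _, ⟨v, hv, rfl⟩, hv1, e⟩ := H456.exists_fixed_of_not_cyclic
      (MulAut.conj.comp (QuotientGroup.mk' C)) (V.map (QuotientGroup.mk' C)) (by
        rintro _ ⟨a, ha, rfl⟩ _ ⟨b, hb, rfl⟩
        rw [← commutatorElement_eq_one_iff_mul_comm, ← map_commutatorElement]
        exact (QuotientGroup.eq_one_iff _).2 (hVV (commutator_mem_commutator ha hb)))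
      (by rwa [Ne, Subgroup.map_eq_bot_iff, QuotientGroup.ker_mk']) A hAc hcyc (by
        rintro a - _ ⟨v, hv, rfl⟩
        exact ⟨a * v * a⁻¹, hVn.conj_mem v hv a, rfl⟩)
    refine ha1 (D.free_V ht hi hC hVC (hA ha) hv (fun h => hv1 ((QuotientGroup.eq_one_iff _).2 h)) ?_)
    rw [← QuotientGroup.eq]
    exact e.symm
  have h2 : LL X t ≤ V ⊔ X t := by
    refine LL_le le_sup_right fun x hx => ?_
    obtain ⟨v, hv, b, hb, e⟩ := mem_sup_of_normal_left.1 htV
    have e1 : t * x * t⁻¹ = v * (b * x * b⁻¹) * v⁻¹ := by rw [← e]; group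
    rw [e1]
    exact mul_mem (mul_mem (mem_sup_left hv) (mem_sup_right (D.conj_X ht hi hb hx))) (inv_mem (mem_sup_left hv))
  have h3 : dS (LL X t) 2 ≤ V := by
    refine (dS_mono h2 2).trans ((dS_sup_normal V (X t) 2).trans ?_)
    rw [h1, sup_bot_eq]
  have h4 : dS (LL X t) 3 ≤ C ⊓ LL X t := le_inf ((commutator_mono h3 h3).trans hVV) (dS_le _ _)
  have h5 : C ⊓ LL X t ≤ P.B := by
    rw [← parabolic_inf P (J := {t}) (K := P.S \ {t}) (Set.singleton_subset_iff.2 ht) Set.sdiff_subset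
      (Set.inter_sdiff_self _ _)]
    exact le_inf (inf_le_right.trans (D.LL_le_min ht)) (inf_le_left.trans hC)
  have h6 : LL X t ≤ normalClosure (U : Set G) :=
    LL_le (fun x hx => subset_normalClosure (D.le t ht hx)) fun x hx =>
      normalClosure_normal.conj_mem _ (subset_normalClosure (D.le t ht hx)) t
  rw [eq_bot_iff, ← D.toDat.commutator_eq_bot (V := C ⊓ LL X t) h5]
  exact commutator_mono h4 ((dS_le _ _).trans h6)

/-- the commutator subgroup lies in every normal subgroup containing `U` -/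
theorem commutator_le (K : Subgroup G) [K.Normal] (hK : U ≤ K) : dS (⊤ : Subgroup G) 1 ≤ K := by
  have hB : P.B ≤ K ⊔ H := fun b hb => by
    obtain ⟨u, hu, h, hh, rfl⟩ := D.B_eq b hb
    exact mul_mem (mem_sup_left (hK hu)) (mem_sup_right hh)
  have h1 : K ⊔ H = ⊤ := top_le_of (P := P) hB fun s hs =>
    (sup_le ((normalClosure_le_normal (fun x hx => hK (D.le s hs hx))).trans le_sup_left) hB :
      normalClosure (X s : Set G) ⊔ P.B ≤ K ⊔ H) (D.gen s hs)
  rw [← h1]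
  refine (dS_sup_normal K H 1).trans ?_
  rw [dS_one_eq_bot D.Hc, sup_bot_eq]

/-- **The derived series of `G`.** -/
theorem ps [Finite G] [Fact p.Prime] {d : ℕ} (hd : 4 ≤ d) (hU : dS U d = ⊥) : PS (d + 1) G := by
  classical
  obtain ⟨N, hN⟩ := Gen.exists_ps G
  set R := derivedSeries G N with hR
  have key : ∀ F : Finset G, (∀ t ∈ F, t ∈ P.S ∧ t ∉ R ⊔ P.B) → (F.sup (LL X)).Normal ∧ dS (F.sup (LL X)) 4 = ⊥ ∧
      ∀ u ∈ U, ∃ v ∈ U, v ∈ centralizer ((F.sup (LL X) : Subgroup G) : Set G) ∧ ∃ n ∈ F.sup (LL X), u = v * n := by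
    intro F
    induction F using Finset.induction_on with
    | empty =>
      intro _
      rw [Finset.sup_empty]
      refine ⟨inferInstance, le_bot_iff.1 (dS_le _ _), fun u hu => ⟨u, hu, ?_, 1, one_mem _, (mul_one u).symm⟩⟩
      rw [mem_centralizer_iff]
      intro x hx
      rw [SetLike.mem_coe, mem_bot] at hx
      rw [hx, one_mul, mul_one]
    | insert t F htF ih =>
      intro hF
      obtain ⟨ih1, ih2, ih3⟩ := ih fun s hs => hF s (Finset.mem_insert_of_mem hs)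
      obtain ⟨ht, htR⟩ := hF t (Finset.mem_insert_self t F)
      obtain ⟨hi, h4⟩ := D.rank_one ht htR
      have hL := D.normal ht hi
      have hX : X t ≤ centralizer ((F.sup (LL X) : Subgroup G) : Set G) := by
        rw [le_centralizer_iff]
        refine Finset.sup_le fun s hs => ?_
        obtain ⟨hs1, hs2⟩ := hF s (Finset.mem_insert_of_mem hs)
        rw [le_centralizer_iff]
        exact D.cen s hs1 (D.rank_one hs1 hs2).1 t ht (fun e => htF (e ▸ hs))
      have hc : LL X t ≤ centralizer ((F.sup (LL X) : Subgroup G) : Set G) :=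
        LL_le hX fun x hx => (inferInstance : (centralizer ((F.sup (LL X) : Subgroup G) : Set G)).Normal).conj_mem
          _ (hX hx) t
      rw [Finset.sup_insert]
      refine ⟨inferInstance, ?_, fun u hu => ?_⟩
      · rw [eq_bot_iff]
        refine (dS_sup_of_comm hc 4).trans ?_
        rw [h4, ih2, sup_bot_eq]
      · obtain ⟨v, hv, hvc, n, hn, rfl⟩ := ih3 u hu
        obtain ⟨w, hw, x, hx, rfl, hwc⟩ := D.dec t ht hi v hv
        refine ⟨w, hw, ?_, x * n, mul_mem (mem_sup_left (mem_sup_left hx)) (mem_sup_right hn), mul_assoc _ _ _⟩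
        have h5 : w ∈ centralizer ((F.sup (LL X) : Subgroup G) : Set G) := by
          have := mul_mem hvc (inv_mem (hX hx))
          rwa [mul_inv_cancel_right] at this
        have h6 : LL X t ⊔ F.sup (LL X) ≤ centralizer ({w} : Set G) := by
          refine sup_le (fun y hy => ?_) fun y hy => ?_
          · exact mem_centralizer_singleton_iff.2 (mem_centralizer_iff.1 hwc y hy)
          · exact mem_centralizer_singleton_iff.2 (mem_centralizer_iff.1 h5 y hy)
        rw [mem_centralizer_iff]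
        exact fun y hy => mem_centralizer_singleton_iff.1 (h6 hy)
  obtain ⟨hn, h4, hdec⟩ := key (Set.toFinite {t | t ∈ P.S ∧ t ∉ R ⊔ P.B}).toFinset
    fun t ht => by simpa only [Set.Finite.mem_toFinset, Set.mem_ofPred_eq] using ht
  set N0 := (Set.toFinite {t | t ∈ P.S ∧ t ∉ R ⊔ P.B}).toFinset.sup (LL X) with hN0
  set Q := centralizer (N0 : Set G) with hQ
  have hQn : Q.Normal := inferInstance
  have htop : N0 ⊔ (R ⊔ P.B) = ⊤ := by
    refine top_le_of (P := P) (le_sup_right.trans le_sup_right) fun s hs => ?_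
    by_cases h : s ∈ R ⊔ P.B
    · exact mem_sup_right h
    · have h1 : LL X s ≤ N0 := Finset.le_sup (f := LL X) ((Set.Finite.mem_toFinset _).2 ⟨hs, h⟩)
      exact sup_le_sup h1 le_sup_right (D.mem_sup hs (D.rank_one hs h).1)
  set K1 := normalClosure ((U ⊓ Q : Subgroup G) : Set G) with hK1
  have hK1Q : K1 ≤ Q := normalClosure_le_normal fun x hx => hx.2
  have hK1R : K1 ≤ R ⊔ U := by
    rw [hK1]
    unfold normalClosure
    rw [closure_le]
    intro y hy
    rw [Group.mem_conjugatesOfSet_iff] at hy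
    obtain ⟨u, hu, huy⟩ := hy
    obtain ⟨g, rfl⟩ := isConj_iff.1 huy
    have hg : g ∈ N0 ⊔ (R ⊔ P.B) := by rw [htop]; exact mem_top g
    obtain ⟨n, hn0, q, hq, rfl⟩ := mem_sup_of_normal_left.1 hg
    obtain ⟨r, hr, b, hb, rfl⟩ := mem_sup_of_normal_left.1 hq
    have c1 := mem_centralizer_iff.1 (hQn.conj_mem u hu.2 (r * b)) n hn0
    have e : n * (r * b) * u * (n * (r * b))⁻¹ = n * (r * b * u * (r * b)⁻¹) * n⁻¹ := by group
    rw [SetLike.mem_coe, e, c1, mul_inv_cancel_right]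
    have e2 : r * b * u * (r * b)⁻¹ = r * (b * u * b⁻¹) * r⁻¹ := by group
    rw [e2]
    exact mul_mem (mul_mem (mem_sup_left hr) (mem_sup_right (D.norm b hb u hu.1))) (inv_mem (mem_sup_left hr))
  have hUK : U ≤ K1 ⊔ N0 := by
    intro u hu
    obtain ⟨v, hv, hvc, n, hn0, rfl⟩ := hdec u hu
    exact mul_mem (mem_sup_left (subset_normalClosure (show v ∈ U ⊓ Q from ⟨hv, hvc⟩))) (mem_sup_right hn0)
  have h1 := D.commutator_le (K1 ⊔ N0) hUK
  have h2 : dS (K1 ⊔ N0) d ≤ R := by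
    refine (dS_sup_of_comm hK1Q d).trans (sup_le ?_ ?_)
    · refine (dS_mono hK1R d).trans ((dS_sup_normal R U d).trans ?_)
      rw [hU, sup_bot_eq]
    · exact (dS_anti _ hd).trans (h4.le.trans bot_le)
  rw [← ps_top]
  refine ps_of_perf (Q := R) ?_ ?_ le_top
  · rw [hR, ← derivedSeries_succ, hN]
  · rw [add_comm, ← dS_add]
    exact (dS_mono h1 d).trans h2

end SBN

end Cfsg.Agent.DS.Ex.BN
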