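import Cfsg.Agent.DS.Ex.Defs
import Cfsg.Agent.H522.FldSixLib
import Cfsg.Agent.H28.GenF.Std

/-!
# S5881: the automorphisms of `E₆(q)` and `²E₆(q)` extend to the algebraic group (helper12)

`AA r` is generated by the graph automorphism and the Frobenius automorphism of `E₆(KK r)`.

* `boxExtE6 : BoxExtE6`, `boxExt2E6 : BoxExt2E6`.
-/

set_option autoImplicit false
set_option linter.unusedSectionVars false

namespace Cfsg.Agent.DS.Ex.Six

open CoxeterSystem Cfsg Cfsg.Lie Cfsg.Lie.ChevalleyDatum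
open Cfsg.Agent.ChevalleyStructure Cfsg.Agent.ChevalleyStructure.Elts Cfsg.Agent.ChevalleyStructure.CoxeterGeom
  Cfsg.Agent.ChevalleyStructure.CoxeterGeomTypes Cfsg.Agent.ChevalleyStructure.NPerm
open Cfsg.Agent.Tits.Roots Cfsg.Agent.Tits.Core Cfsg.Agent.Nodes Cfsg.Agent.Nodes.Reps Cfsg.Agent.Nodes.BNOf
  Cfsg.Agent.Nodes.OppDec
  Cfsg.Agent.Nodes.RGDChev Cfsg.Agent.Nodes.Bruhat Cfsg.Agent.Nodes.NormalForm
open Cfsg.Agent.KFacts.RgdField Cfsg.Agent.KFacts.RgdChevCoord Cfsg.Agent.KFacts.RgdDiag Cfsg.Agent.KFacts.RgdTau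
open Cfsg.Agent.BpExc Cfsg.Agent.BpExc.FamField Cfsg.Agent.BpExc.TorCent Cfsg.Agent.BpExc.TorChev Cfsg.Agent.BpExc.Tow
  Cfsg.Agent.BpExc.TowChev Cfsg.Agent.BpExc.Fr Cfsg.Agent.BpExc.Pair Cfsg.Agent.BpExc.LangFr Cfsg.Agent.GpExc.Field
  Cfsg.Agent.BpExc.FamUntw Cfsg.Agent.BpExc.FamInst
open Cfsg.Agent.H469.Exc Cfsg.Agent.H469.Exc.SigFr
open Cfsg.Agent.ChevalleyStructure.SignedSymm Cfsg.Agent.ChevalleyStructure.GraphSymm
open Cfsg.Agent.H316.U6
open Cfsg.Agent.ChevalleyStructure.TwE6Basic (hE6 sg)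
open Cfsg.Agent.CpAut.RgdUntw (fld)
open Cfsg.Agent.BpExc.FamTw.Gr
open Cfsg.Agent.BpExc.FamTw.Six (em coe_em em_injective)

variable (r : ℕ) [hr : Fact r.Prime]

/-! ### the group of frame automorphisms -/

/-- the graph automorphism and the Frobenius automorphism -/
noncomputable def AA : Subgroup (MulAut (YY chevE6 r)) :=
  Subgroup.closure {gr hE6 symmE6, phi chevE6 (KK r) r 1}

theorem gr_mem : gr hE6 symmE6 ∈ AA r := Subgroup.subset_closure (Or.inl rfl)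

theorem phi_mem (m : ℕ) : phi chevE6 (KK r) r m ∈ AA r := by
  have h1 : phi chevE6 (KK r) r 1 ∈ AA r := Subgroup.subset_closure (Or.inr rfl)
  have h2 := pow_mem h1 m
  rwa [phi_pow, one_mul] at h2

theorem AA_comm : ∀ β ∈ AA r, ∀ β' ∈ AA r, β * β' = β' * β := by
  have h0 : gr (L := KK r) hE6 symmE6 * phi chevE6 (KK r) r 1 = phi chevE6 (KK r) r 1 * gr hE6 symmE6 :=
    gr_mul_fld hE6 symmE6 _
  have h1 : ∀ β ∈ ({gr hE6 symmE6, phi chevE6 (KK r) r 1} : Set (MulAut (YY chevE6 r))),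
      ∀ β' ∈ ({gr hE6 symmE6, phi chevE6 (KK r) r 1} : Set (MulAut (YY chevE6 r))), β * β' = β' * β := by
    rintro β (rfl | rfl) β' (rfl | rfl)
    · rfl
    · exact h0
    · exact h0.symm
    · rfl
  have h2 : AA r ≤ Subgroup.centralizer
      ({gr hE6 symmE6, phi chevE6 (KK r) r 1} : Set (MulAut (YY chevE6 r))) := by
    refine (Subgroup.closure_le _).2 fun β hβ => ?_
    rw [SetLike.mem_coe, Subgroup.mem_centralizer_iff]
    exact fun β' hβ' => h1 β' hβ' β hβ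
  have h3 : AA r ≤ Subgroup.centralizer (AA r : Set (MulAut (YY chevE6 r))) := by
    refine (Subgroup.closure_le _).2 fun β hβ => ?_
    rw [SetLike.mem_coe, Subgroup.mem_centralizer_iff]
    exact fun β' hβ' => (Subgroup.mem_centralizer_iff.1 (h2 hβ') β hβ).symm
  exact fun β hβ β' hβ' => Subgroup.mem_centralizer_iff.1 (h3 hβ') β hβ

theorem AA_fr {β : MulAut (YY chevE6 r)} (hβ : β ∈ AA r) : ∃ g : (Fin 6 → ℤ) ≃+ (Fin 6 → ℤ),
    Fr CoxeterMatrix.E₆.toCoxeterSystem hpE6.isCartan (TT chevE6 (KK r)) (XX chevE6 6 (KK r)) β g := by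
  induction hβ using Subgroup.closure_induction with
  | mem β hβ =>
    rcases hβ with rfl | rfl
    · exact ⟨_, H522.FamTw.Frame.fr_six hpE6 CoxeterMatrix.E₆.toCoxeterSystem⟩
    · exact ⟨_, phi_fr hpE6 CoxeterMatrix.E₆.toCoxeterSystem r (locFin r) 1⟩
  | one => exact ⟨_, Fr.one⟩
  | mul β β' _ _ h h' =>
    obtain ⟨g, h⟩ := h
    obtain ⟨g', h'⟩ := h'
    exact ⟨_, h.mul h'⟩
  | inv β _ h =>
    obtain ⟨g, h⟩ := h
    exact ⟨_, h.inv⟩

theorem AA_sfr {β : MulAut (YY chevE6 r)} (hβ : β ∈ AA r) : SFr hpE6 r β := by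
  obtain ⟨g, h⟩ := AA_fr r hβ
  exact ⟨g, h, fun h8 => absurd h8 (by norm_num)⟩

theorem AA_wfr {β : MulAut (YY chevE6 r)} (hβ : β ∈ AA r) : WFr hpE6 r β := by
  obtain ⟨g, h⟩ := AA_fr r hβ
  exact ⟨h.tor, fun a ha => ⟨g a, (h.root a).2 ha, h.map a ha⟩⟩

theorem gcd_three (n : ℕ) : Nat.gcd 3 n = 1 ∨ Nat.gcd 3 n = 3 :=
  (Nat.dvd_prime Nat.prime_three).1 (Nat.gcd_dvd_left 3 n)

/-! ### `E₆(q)` -/

section Untw

theorem perm_six (σ : Equiv.Perm (Fin 6)) (h : ∀ i j, CoxeterMatrix.E₆ (σ i) (σ j) = CoxeterMatrix.E₆ i j) :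
    σ = 1 ∨ σ = H522.FamTw.Frame.rho6 := by
  have key : ∀ σ : Equiv.Perm (Fin 6), (∀ z : Fin 6 × Fin 6,
      CoxeterMatrix.E₆ (σ z.1) (σ z.2) = CoxeterMatrix.E₆ z.1 z.2) → σ = 1 ∨ σ = H522.FamTw.Frame.rho6 := by
    decide +kernel
  exact key σ fun z => h z.1 z.2

theorem rho_sq : H522.FamTw.Frame.rho6 * H522.FamTw.Frame.rho6 = 1 := by decide

theorem center_six (F : Type) [Field F] : Subgroup.center ↥(chevE6.group F) = ⊥ := by
  obtain ⟨h1, h2⟩ := S1054.result (F := F) chevE6 (by simp)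
  refine KFacts.RgdLieCharP.center_eq_bot ?_
  by_contra hcon
  push Not at hcon
  exact h2 ⟨⟨hcon⟩⟩

variable {F : Type} [Field F]

/-- the graph automorphism preserves the frame -/
theorem diag_gr : Diag (TT chevE6 F) (XX chevE6 6 F) (gr (L := F) hE6 symmE6) H522.FamTw.Frame.rho6 := by
  have hf := H522.FamTw.Frame.fr_six (k := F) hpE6 CoxeterMatrix.E₆.toCoxeterSystem
  have hsr : ∀ i : Fin 6, H522.FamTw.Frame.permE H522.FamTw.Frame.rho6 (sr i) =
      (sr (H522.FamTw.Frame.rho6 i) : Fin 6 → ℤ) := by decide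
  refine ⟨fun t => hf.tor t, fun i y => ?_, fun i y => ?_⟩
  · rw [← hsr]
    exact hf.map (sr i) (isRoot_sr _ _ i) y
  · rw [← hsr, ← map_neg]
    exact hf.map (-sr i) (isRoot_sr _ _ i).neg y

theorem emb_gr (f : F →+* KK r) (x : ↥(chevE6.group F)) :
    emb hpE6.inList f (gr hE6 symmE6 x) = gr hE6 symmE6 (emb hpE6.inList f x) := by
  apply Subtype.ext
  rw [coe_emb, coe_gr, coe_gr, coe_emb, map_mul, map_mul, map_inv, glMap_P]

variable [Fintype F] [CharP F r]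

/-- frame automorphisms without graph part -/
theorem ext_of_diag (f : F →+* KK r) {β : MulAut ↥(chevE6.group F)} (D : Diag (TT chevE6 F) (XX chevE6 6 F) β 1) :
    ∃ (t : YY chevE6 r) (j : ℕ), ∀ x, emb hpE6.inList f (β x) =
      t * phi chevE6 (KK r) r j (emb hpE6.inList f x) * t⁻¹ := by
  have hW := finite_W hpE6 CoxeterMatrix.E₆.toCoxeterSystem
  have R := rgd (K := F) hpE6 CoxeterMatrix.E₆.toCoxeterSystem r
  have C := coords (K := F) hpE6 CoxeterMatrix.E₆.toCoxeterSystem r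
  have H := coroots (K := F) hpE6 CoxeterMatrix.E₆.toCoxeterSystem r
  have hG1 : RGD.Sup (XX chevE6 6 F) {x | IsRoot CoxeterMatrix.E₆.toCoxeterSystem hpE6.isCartan x} = ⊤ :=
    G1_eq_top hpE6 CoxeterMatrix.E₆.toCoxeterSystem
  have hs := (S1054.result (F := F) chevE6 (by simp)).1
  have hconn := KFacts.RgdLieCharP.conn_of_simple R hG1 (center_six F)
  obtain ⟨τ, hτ⟩ := exists_tau R C H hconn D (fun _ _ => rfl)
  obtain ⟨j, hj⟩ := exists_pow_eq r τ
  obtain ⟨t, -, e⟩ := FamExt.exists_ext hpE6 f r hconn inv_E6 three_ne_zero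
    (fun c _ => IsAlgClosed.exists_pow_nat_eq (f c) (by norm_num)) hτ (τ' := frb (KK r) r j) (fun a => by
      rw [frb_apply, hj, map_pow])
  exact ⟨t, j, e⟩

/-- **Every automorphism of `E₆(q)` extends.** -/
theorem ext_untw (f : F →+* KK r) (α : MulAut ↥(chevE6.group F)) : ∃ y : YY chevE6 r, ∃ β ∈ AA r,
    ∀ x, emb hpE6.inList f (α x) = y * β (emb hpE6.inList f x) * y⁻¹ := by
  have hW := finite_W hpE6 CoxeterMatrix.E₆.toCoxeterSystem
  have R := rgd (K := F) hpE6 CoxeterMatrix.E₆.toCoxeterSystem r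
  have hG := TorChev.GG_top (K := F) hpE6 CoxeterMatrix.E₆.toCoxeterSystem
  obtain ⟨g, -, -, s, D⟩ := FamFrame.exists_frame_any R hG α
  have key : ∀ (t : YY chevE6 r) (β : MulAut (YY chevE6 r)),
      (∀ x, emb hpE6.inList f (g * α x * g⁻¹) = t * β (emb hpE6.inList f x) * t⁻¹) →
      ∀ x, emb hpE6.inList f (α x) = ((emb hpE6.inList f g)⁻¹ * t) * β (emb hpE6.inList f x) *
        ((emb hpE6.inList f g)⁻¹ * t)⁻¹ := by
    intro t β h x
    have h1 := h x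
    rw [map_mul, map_mul, map_inv] at h1
    have h2 : emb hpE6.inList f (α x) = (emb hpE6.inList f g)⁻¹ * (emb hpE6.inList f g * emb hpE6.inList f (α x) *
      (emb hpE6.inList f g)⁻¹) * emb hpE6.inList f g := by group
    rw [h2, h1]
    group
  rcases perm_six s (D.matrix R) with rfl | rfl
  · obtain ⟨t, j, e⟩ := ext_of_diag r f D
    exact ⟨_, _, phi_mem r j, key t _ e⟩
  · have D' := D.mul diag_gr
    rw [rho_sq] at D'
    obtain ⟨t, j, e⟩ := ext_of_diag r f D'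
    refine ⟨_, _, mul_mem (phi_mem r j) (gr_mem r), key t _ fun x => ?_⟩
    have h1 := e (gr hE6 symmE6 x)
    have h2 : gr (L := F) hE6 symmE6 (gr hE6 symmE6 x) = x :=
      congrArg (fun β : MulAut ↥(chevE6.group F) => β x) (H522.FamTw.Frame.gr_sq6 (k := F) hE6)
    rw [MulAut.mul_apply, h2, emb_gr] at h1
    exact h1

end Untw

/-- **[X1] for `E₆(q)`.** -/
theorem boxExtE6 : BoxExtE6 := by
  intro F _ _
  obtain ⟨r, hr, _⟩ := RowsUntw.exists_char F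
  have : Fact r.Prime := ⟨hr⟩
  obtain ⟨f⟩ := RowsUntw.exists_emb r F
  obtain ⟨n, hn0, hn⟩ := exists_card (F := F) r
  obtain ⟨m, h1, h2, -, h4⟩ := H28.GenF.mdata_std' (r := r) hpE6 F H129.TorusChar.invC_E6 three_ne_zero
    (Or.inr Nat.prime_three) f hn0 hn
  refine ⟨r, inferInstance, _, m, AA r, ?_, AA_comm r, fun β hβ => AA_wfr r hβ, fun _ β hβ => AA_sfr r hβ, ?_, ?_, ?_⟩
  · rw [h2]
    exact phi_mem r n
  · rw [h1]
    exact ext_untw r f
  · rw [h1]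
    exact fun y hy => FamUntw.eq_one_of_comm hpE6 (locFin r) r f (center_six _) hy
  · rw [h4]
    rcases gcd_three (Fintype.card F - 1) with h | h
    · exact Or.inl h
    · exact Or.inr (Or.inl ⟨rfl, h⟩)

/-! ### `²E₆(q)` -/

/-- the data with the given embedding (as `H316.U6.mdata_twE6'`) -/
theorem mdata_tw {K : Type} [Field K] [Fintype K] [CharP K r] {q : ℕ} (hq : IsPrimePow q)
    (hK : Fintype.card K = q ^ 2) (f : K →+* KK r) {m : ℕ} (hm0 : 0 < m) (hm : q = r ^ m) :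
    ∃ M : MData hpE6 r q ↥(twistedE6 K q), M.ι = em q f ∧ M.σ = gr hE6 symmE6 * phi chevE6 (KK r) r m ∧
      M.dd = Nat.gcd 3 (q + 1) := by
  have hk := locFin r
  obtain ⟨Φ, hΦe⟩ : ∃ Φ : KK r ≃+* KK r, Φ = frb (KK r) r m := ⟨_, rfl⟩
  have hΦ : ∀ a, Φ a = a ^ r ^ m := by
    intro a
    rw [hΦe]
    exact frb_apply _ r m a
  have hφ : ∀ a, (Φ : KK r →+* KK r) a = a ^ q := by
    intro a
    rw [hm]
    exact hΦ a
  have hγ := coe_gr (L := KK r) hE6 symmE6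
  have hσ := SigFr.isFrob_symm_fld (p := r) symmE6 hγ hΦ
  have Fσ := (SigFr.fr_E6 hγ CoxeterMatrix.E₆.toCoxeterSystem).mul
    (SigFr.fr_fld Nodes.RGDTwE6.hp CoxeterMatrix.E₆.toCoxeterSystem Φ)
  have hfin := Sig.finite_fixed hk hm0 hσ
  have hsg : ∀ y : ↥(chevE6.group (KK r)),
      (((gr hE6 symmE6 * fld chevE6 Φ : MulAut ↥(chevE6.group (KK r))) y :
        ↥(chevE6.group (KK r))) : GL chevE6.Idx (KK r)) =
      sg (Φ : KK r →+* KK r) (y : GL chevE6.Idx (KK r)) := by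
    intro y
    rfl
  have hfix : ∀ a, (gr hE6 symmE6 * fld chevE6 Φ : MulAut ↥(chevE6.group (KK r))) (em q f a) = em q f a := by
    intro a
    apply Subtype.ext
    rw [hsg, coe_em]
    exact (EmbInst.twE6_fix (f := f) hq hK hφ a.2).2
  have hnorm : ∀ y, (gr hE6 symmE6 * fld chevE6 Φ : MulAut ↥(chevE6.group (KK r))) y = y → ∀ x, ∃ x',
      em q f x' = y * em q f x * y⁻¹ := by
    intro y hy x
    have h1 : sg (Φ : KK r →+* KK r) (y : GL chevE6.Idx (KK r)) = y := by rw [← hsg, hy]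
    have hn := EmbInst.twE6_normalizer (f := f) hq hK hφ y.2 h1
    obtain ⟨b, hb, hb'⟩ := (Subgroup.mem_normalizer_iff.1 hn (glMap chevE6 f x)).1 ⟨x, x.2, rfl⟩
    exact ⟨⟨b, hb⟩, Subtype.ext hb'⟩
  have hpow : ∀ y, (gr hE6 symmE6 * fld chevE6 Φ : MulAut ↥(chevE6.group (KK r))) y = y →
      y ^ Nat.gcd 3 (q + 1) ∈ (em q f).range := by
    intro y hy
    have h1 : sg (Φ : KK r →+* KK r) (y : GL chevE6.Idx (KK r)) = y := by rw [← hsg, hy]
    have h2 : iterateFrobenius (KK r) r m = (Φ : KK r →+* KK r) := by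
      ext t
      rw [iterateFrobenius_def, ← hm, hφ]
    have h3 := H720.TwFr.coe_sig6 (k := KK r) r m y
    rw [h2, h1] at h3
    exact H720.TwFr.desc6 f r hk hm0 hm hK (Subtype.ext h3)
  refine ⟨{
    σ := _
    π := symmE6.σ₀.symm
    dd := Nat.gcd 3 (q + 1)
    norm := hnorm
    pow_dd := hpow
    g := _
    e := m
    ι := em q f
    he := hm0
    hq := hm.symm
    frob := hσ
    fr := Fσ
    fin := hfin
    inj := em_injective f
    fix := hfix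
    idx := ?_
    act := ?_
    perm := fun v i => rfl
    top := topE6
    gen := gen_of_words Nodes.RGDTwE6.hp f (fun _ => rfl) (wordsE6 q) }, rfl, ?_, rfl⟩
  · intro y hy
    have h1 : sg (Φ : KK r →+* KK r) (y : GL chevE6.Idx (KK r)) = y := by rw [← hsg, hy]
    obtain ⟨g, hg, t, ht, e⟩ := EmbInst.twE6_split (f := f) hq hK hφ y.2 h1
    have ht' : t ∈ chevE6.group (KK r) := diagonal_le_group hE6 _ ht
    have hn := EmbInst.twE6_normalizer (f := f) hq hK hφ y.2 h1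
    refine pow_mem_range Nodes.RGDTwE6.hp (em q f) hfix hy (fun a => ?_) (a := ⟨g, hg⟩) (t := ⟨t, ht'⟩) ht
      (Subtype.ext e)
    obtain ⟨b, hb, hb'⟩ := (Subgroup.mem_normalizer_iff.1 hn (glMap chevE6 f a)).1 ⟨a, a.2, rfl⟩
    exact ⟨⟨b, hb⟩, Subtype.ext hb'⟩
  · intro s hs
    refine ⟨symmE6.σ ⟨s, hs⟩, ?_, actF_symm_fld symmE6 _ hγ (fun a => (hφ a)) ⟨s, hs⟩⟩
    funext i
    exact piE6 ⟨s, hs⟩ i
  · show gr hE6 symmE6 * fld chevE6 Φ = _
    rw [hΦe]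
    rfl

/-- **[X1] for `²E₆(q)`.** -/
theorem boxExt2E6 : BoxExt2E6 := by
  intro K _ _ q hq hK
  obtain ⟨r, hr, _⟩ := RowsUntw.exists_char K
  have : Fact r.Prime := ⟨hr⟩
  obtain ⟨f⟩ := RowsUntw.exists_emb r K
  obtain ⟨n, hn0, hn⟩ := exists_eq_pow (r := r) hq hK
  obtain ⟨φ, hφ, hqq⟩ := TwE6Basic.exists_frob hq hK
  obtain ⟨m, h1, h2, h4⟩ := mdata_tw r hq hK f hn0 hn
  refine ⟨r, inferInstance, _, m, AA r, ?_, AA_comm r, fun β hβ => AA_wfr r hβ, fun _ β hβ => AA_sfr r hβ, ?_, ?_, ?_⟩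
  · rw [h2]
    exact mul_mem (gr_mem r) (phi_mem r n)
  · rw [h1]
    intro α
    have hW : Finite CoxeterMatrix.F₄.Group := RGDChev.finite_W hpF4 CoxeterMatrix.F₄.toCoxeterSystem
    have hΦ : ∀ a, frb (KK r) r n (f a) = f (φ a) := by
      intro a
      rw [frb_apply, hφ, map_pow, hn]
    obtain ⟨a, τ, y, -, -, hy⟩ := FamTw.Six.exists_lift hφ hqq CoxeterMatrix.F₄.toCoxeterSystem r f hK hq.one_lt
      (fun a => IsAlgClosed.exists_pow_nat_eq (f a) (by norm_num)) hΦ α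
    obtain ⟨j, hj⟩ := exists_pow_eq r τ
    exact ⟨y, _, phi_mem r j, fun x => by rw [hy, H522.FamTw.Six.em_st f r hj]⟩
  · rw [h1]
    exact fun y hy => H522.FamTw.Six.eq_one_of_comm hφ hqq f y hy
  · rw [h4]
    rcases gcd_three (q + 1) with h | h
    · exact Or.inl h
    · exact Or.inr (Or.inl ⟨rfl, h⟩)

end Cfsg.Agent.DS.Ex.Six
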