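import Mathlib
import Cfsg.Agent.H936.PSBase
import Cfsg.Agent.ChevalleyStructure.SL2Hom

/-!
# DS, parabolic case: group theory (helper55)

* `dS K n` : the derived series of the subgroup `K` inside the ambient group;
* `comm_le_of_gen` : commutators of joins;
* `ps_iSup` : `PS` for a join of subgroups which commute modulo a term of the derived series;
* `ps_sl2` : `PS 3 SL₂(F)` for the finite fields `F`.
-/

set_option autoImplicit false

namespace Cfsg.Agent.DS.Par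

open Cfsg.Agent.H936
open scoped commutatorElement

section gen

variable {Y : Type*} [Group Y]

/-- the derived series of a subgroup, in the ambient group -/
def dS (K : Subgroup Y) : ℕ → Subgroup Y
  | 0 => K
  | n + 1 => ⁅dS K n, dS K n⁆

theorem dS_zero (K : Subgroup Y) : dS K 0 = K := rfl

theorem dS_succ (K : Subgroup Y) (n : ℕ) : dS K (n + 1) = ⁅dS K n, dS K n⁆ := rfl

theorem dS_eq (K : Subgroup Y) (n : ℕ) : dS K n = (derivedSeries K n).map K.subtype := by
  induction n with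
  | zero => rw [dS_zero, derivedSeries_zero, ← MonoidHom.range_eq_map, Subgroup.range_subtype]
  | succ n ih => rw [dS_succ, derivedSeries_succ, Subgroup.map_commutator, ih]

theorem ps_iff {K : Subgroup Y} {k : ℕ} : PS k K ↔ dS K (k + 1) = dS K k := by
  rw [dS_eq, dS_eq]
  exact ⟨fun h => by rw [show derivedSeries K (k + 1) = derivedSeries K k from h],
    fun h => Subgroup.map_injective K.subtype_injective h⟩

theorem dS_mono {K L : Subgroup Y} (h : K ≤ L) (n : ℕ) : dS K n ≤ dS L n := by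
  induction n with
  | zero => exact h
  | succ n ih => exact Subgroup.commutator_mono ih ih

theorem comm_self_le (K : Subgroup Y) : ⁅K, K⁆ ≤ K := by
  rw [Subgroup.commutator_le]
  intro a ha b hb
  rw [commutatorElement_def]
  exact mul_mem (mul_mem (mul_mem ha hb) (inv_mem ha)) (inv_mem hb)

theorem dS_succ_le (K : Subgroup Y) (n : ℕ) : dS K (n + 1) ≤ dS K n := comm_self_le _

theorem dS_le (K : Subgroup Y) (n : ℕ) : dS K n ≤ K := by
  induction n with
  | zero => exact le_rfl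
  | succ n ih => exact (dS_succ_le K n).trans ih

/-- a perfect subgroup lies in all terms -/
theorem le_dS_of_perfect {Q K : Subgroup Y} (hQ : Q ≤ ⁅Q, Q⁆) (h : Q ≤ K) (n : ℕ) : Q ≤ dS K n := by
  induction n with
  | zero => exact h
  | succ n ih => exact hQ.trans (Subgroup.commutator_mono ih ih)

theorem ps_of_dS_bot {K : Subgroup Y} {k : ℕ} (h : dS K k = ⊥) : PS k K := by
  rw [ps_iff, dS_succ, h, Subgroup.commutator_bot_left]

theorem conj_mem_of_norm {Z : Subgroup Y} {g z : Y} (hg : g ∈ Subgroup.normalizer (Z : Set Y)) (hz : z ∈ Z) :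
    g * z * g⁻¹ ∈ Z := (Subgroup.mem_normalizer_iff.1 hg z).1 hz

theorem mem_norm_of {Z K : Subgroup Y} (h : ∀ g ∈ K, ∀ z ∈ Z, g * z * g⁻¹ ∈ Z) :
    K ≤ Subgroup.normalizer (Z : Set Y) := by
  intro g hg
  rw [Subgroup.mem_normalizer_iff]
  intro z
  refine ⟨h g hg z, fun hz => ?_⟩
  have h1 := h g⁻¹ (inv_mem hg) _ hz
  have e : g⁻¹ * (g * z * g⁻¹) * g⁻¹⁻¹ = z := by group
  rwa [e] at h1

/-- the normaliser of `A`, `B` normalises `[A, B]` -/
theorem norm_comm {A B : Subgroup Y} {g : Y} (hA : g ∈ Subgroup.normalizer (A : Set Y))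
    (hB : g ∈ Subgroup.normalizer (B : Set Y)) : g ∈ Subgroup.normalizer ((⁅A, B⁆ : Subgroup Y) : Set Y) := by
  have key : ∀ g ∈ Subgroup.normalizer (A : Set Y) ⊓ Subgroup.normalizer (B : Set Y), ∀ z ∈ ⁅A, B⁆,
      g * z * g⁻¹ ∈ ⁅A, B⁆ := by
    intro g hg z hz
    have h1 : ⁅A, B⁆ ≤ (⁅A, B⁆ : Subgroup Y).comap (MulAut.conj g).toMonoidHom := by
      rw [Subgroup.commutator_le]
      intro a ha b hb
      rw [Subgroup.mem_comap, map_commutatorElement]
      exact Subgroup.commutator_mem_commutator (conj_mem_of_norm hg.1 ha) (conj_mem_of_norm hg.2 hb)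
    exact h1 hz
  exact mem_norm_of key ⟨hA, hB⟩

theorem norm_dS {K : Subgroup Y} {g : Y} (hg : g ∈ Subgroup.normalizer (K : Set Y)) (n : ℕ) :
    g ∈ Subgroup.normalizer (dS K n : Set Y) := by
  induction n with
  | zero => exact hg
  | succ n ih => exact norm_comm ih ih

theorem comm_mem_of_gen {Z : Subgroup Y} {ι : Sort*} (b : Y) (A : ι → Subgroup Y)
    (hA : ∀ i, A i ≤ Subgroup.normalizer (Z : Set Y)) (h : ∀ i, ∀ a ∈ A i, ⁅a, b⁆ ∈ Z) :
    ∀ a ∈ ⨆ i, A i, ⁅a, b⁆ ∈ Z := by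
  intro a ha
  suffices h1 : a ∈ Subgroup.normalizer (Z : Set Y) ∧ ⁅a, b⁆ ∈ Z from h1.2
  refine Subgroup.iSup_induction A (C := fun a => a ∈ Subgroup.normalizer (Z : Set Y) ∧ ⁅a, b⁆ ∈ Z) ha
    (fun i x hx => ⟨hA i hx, h i x hx⟩) ⟨one_mem _, by rw [commutatorElement_one_left]; exact one_mem _⟩ ?_
  intro a a' ha ha'
  refine ⟨mul_mem ha.1 ha'.1, ?_⟩
  have e : ⁅a * a', b⁆ = a * ⁅a', b⁆ * a⁻¹ * ⁅a, b⁆ := by
    simp only [commutatorElement_def]; group
  rw [e]
  exact mul_mem (conj_mem_of_norm ha.1 ha'.2) ha.2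

/-- commutators of joins -/
theorem comm_le_of_gen {Z : Subgroup Y} {ι κ : Sort*} (A : ι → Subgroup Y) (B : κ → Subgroup Y)
    (hA : ∀ i, A i ≤ Subgroup.normalizer (Z : Set Y)) (hB : ∀ k, B k ≤ Subgroup.normalizer (Z : Set Y))
    (h : ∀ i k, ∀ a ∈ A i, ∀ b ∈ B k, ⁅a, b⁆ ∈ Z) : ⁅⨆ i, A i, ⨆ k, B k⁆ ≤ Z := by
  rw [Subgroup.commutator_le]
  intro a ha b hb
  have h1 : ∀ k, ∀ b ∈ B k, ⁅b, a⁆ ∈ Z := by
    intro k b hb
    rw [← commutatorElement_inv]
    exact inv_mem (comm_mem_of_gen b A hA (fun i x hx => h i k x hx b hb) a ha)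
  rw [← commutatorElement_inv]
  exact inv_mem (comm_mem_of_gen a B hB h1 b hb)

/-- a join of commuting subgroups -/
theorem ps_iSup_comm {ι : Type*} [Finite ι] {k : ℕ} (L : ι → Subgroup Y)
    (hc : Pairwise fun i j => ∀ x y : Y, x ∈ L i → y ∈ L j → Commute x y) (h : ∀ i, PS k (L i)) :
    PS k ↥(⨆ i, L i) := by
  classical
  have := Fintype.ofFinite ι
  have h1 := (PS.pi h).range (Subgroup.noncommPiCoprod hc)
  rwa [Subgroup.noncommPiCoprod_range] at h1

/-- a join of subgroups which commute modulo the term `k + 1` of the derived series -/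
theorem ps_iSup {ι : Type*} [Finite ι] {k : ℕ} (L : ι → Subgroup Y)
    (hc : ∀ i j, i ≠ j → ∀ x ∈ L i, ∀ y ∈ L j, ⁅x, y⁆ ∈ dS (⨆ i, L i) (k + 1)) (h : ∀ i, PS k (L i)) :
    PS k ↥(⨆ i, L i) := by
  set N : Subgroup Y := ⨆ i, L i with hN
  have hLN : ∀ i, L i ≤ N := fun i => le_iSup L i
  let Z : Subgroup N := derivedSeries N (k + 1)
  let f : N →* N ⧸ Z := QuotientGroup.mk' Z
  let L' : ι → Subgroup (N ⧸ Z) := fun i => (f.comp (Subgroup.inclusion (hLN i))).range
  have h1 : PS k ↥(⨆ i, L' i) := by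
    refine ps_iSup_comm L' ?_ fun i => (h i).range _
    rintro i j hij _ _ ⟨x, rfl⟩ ⟨y, rfl⟩
    rw [← commutatorElement_eq_one_iff_commute, MonoidHom.comp_apply, MonoidHom.comp_apply,
      ← map_commutatorElement]
    refine (QuotientGroup.eq_one_iff _).2 ?_
    have h2 := hc i j hij x x.2 y y.2
    rw [dS_eq] at h2
    obtain ⟨z, hz, e⟩ := h2
    have e2 : z = ⁅Subgroup.inclusion (hLN i) x, Subgroup.inclusion (hLN j) y⁆ := Subtype.ext e
    rw [← e2]
    exact hz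
  have h2 : (⨆ i, L' i) = ⊤ := by
    rw [eq_top_iff]
    intro q _
    obtain ⟨⟨x, hx⟩, rfl⟩ := QuotientGroup.mk'_surjective Z q
    have h3 : N ≤ ((⨆ i, L' i).comap f).map N.subtype := by
      refine iSup_le fun i y hy => ⟨⟨y, hLN i hy⟩, ?_, rfl⟩
      exact le_iSup L' i ⟨⟨y, hy⟩, rfl⟩
    obtain ⟨y, hy, e⟩ := h3 hx
    have e2 : y = ⟨x, hx⟩ := Subtype.ext e
    rw [← e2]
    exact hy
  rw [h2] at h1
  have h3 : PS k (N ⧸ Z) := h1.of_equiv Subgroup.topEquiv
  have h4 : derivedSeries (N ⧸ Z) k = ⊥ := by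
    rw [← show derivedSeries (N ⧸ Z) (k + 1) = derivedSeries (N ⧸ Z) k from h3,
      ← map_derivedSeries_of_surj (QuotientGroup.mk'_surjective Z), Subgroup.map_eq_bot_iff, QuotientGroup.ker_mk']
  rw [← map_derivedSeries_of_surj (QuotientGroup.mk'_surjective Z), Subgroup.map_eq_bot_iff,
    QuotientGroup.ker_mk'] at h4
  exact le_antisymm (derivedSeries_antitone _ (Nat.le_succ k)) h4

/-- `PS` for a product `A B`, `B` normalising `A` -/
theorem ps_sup {a b : ℕ} {A B : Subgroup Y} (hn : B ≤ Subgroup.normalizer (A : Set Y)) (hA : PS a A) (hB : PS b B) :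
    PS (a + b) ↥(A ⊔ B) := by
  have h1 := PS.of_two A.subtype B.subtype (fun x y => ⟨⟨_, conj_mem_of_norm (hn y.2) x.2⟩, rfl⟩) hA hB
  rwa [Subgroup.range_subtype, Subgroup.range_subtype] at h1

theorem ps_map {Y' : Type*} [Group Y'] {k : ℕ} {A : Subgroup Y} (f : Y →* Y') (h : PS k A) : PS k ↥(A.map f) := by
  have h1 := h.range (f.comp A.subtype)
  rwa [MonoidHom.range_comp, Subgroup.range_subtype] at h1

end gen

section sl2

open Cfsg.Agent.ChevalleyStructure.SL2Hom Matrix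

theorem dS_three_of {G : Type*} [Group G] (m : ℕ) (h1 : ∀ a b : G, a ^ m = 1 → b ^ m = 1 → (a * b) ^ m = 1)
    (h2 : ∀ a b : G, ⁅a, b⁆ ^ m = 1) (h3 : ∀ a b : G, a ^ m = 1 → b ^ m = 1 → ∀ c, ⁅a, b⁆ * c = c * ⁅a, b⁆) :
    PS 3 G := by
  let Q : Subgroup G :=
    { carrier := {a | a ^ m = 1}
      mul_mem' := fun {a b} ha hb => h1 a b ha hb
      one_mem' := one_pow m
      inv_mem' := fun {a} ha => by
        change a⁻¹ ^ m = 1
        rw [inv_pow, show a ^ m = 1 from ha, inv_one] }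
  have e1 : derivedSeries G 1 ≤ Q := by
    rw [derivedSeries_succ, Subgroup.commutator_le]
    exact fun a _ b _ => h2 a b
  have e2 : derivedSeries G 2 ≤ Subgroup.center G := by
    rw [derivedSeries_succ, Subgroup.commutator_le]
    intro a ha b hb
    rw [Subgroup.mem_center_iff]
    exact fun c => (h3 a b (e1 ha) (e1 hb) c).symm
  refine PS.of_bot ?_
  rw [derivedSeries_succ, eq_bot_iff, Subgroup.commutator_le]
  intro a ha b _
  rw [Subgroup.mem_bot, commutatorElement_eq_one_iff_mul_comm]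
  exact (Subgroup.mem_center_iff.1 (e2 ha) b).symm

theorem ps_sl2_three : PS 3 (SpecialLinearGroup (Fin 2) (ZMod 3)) := by
  refine dS_three_of 4 ?_ ?_ ?_ <;> decide +kernel

theorem ps_sl2_two : PS 3 (SpecialLinearGroup (Fin 2) (ZMod 2)) := by
  refine dS_three_of 3 ?_ ?_ ?_ <;> decide +kernel

theorem ps_sl2_of_equiv {F F' : Type*} [Field F] [Field F'] (e : F ≃+* F') {k : ℕ}
    (h : PS k (SpecialLinearGroup (Fin 2) F)) : PS k (SpecialLinearGroup (Fin 2) F') := by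
  refine h.of_surj (f := SpecialLinearGroup.map e.toRingHom) fun g => ?_
  refine ⟨SpecialLinearGroup.map e.symm.toRingHom g, ?_⟩
  ext i j
  simp

theorem ps_sl2_big {F : Type*} [Field F] {u : F} (hu0 : u ≠ 0) (hu : u ^ 2 ≠ 1) :
    PS 0 (SpecialLinearGroup (Fin 2) F) := by
  let d : SpecialLinearGroup (Fin 2) F := ⟨!![u, 0; 0, u⁻¹], by simp [Matrix.det_fin_two, hu0]⟩
  have h1 : u ^ 2 - 1 ≠ 0 := sub_ne_zero.2 hu
  have h2 : u⁻¹ ^ 2 - 1 ≠ 0 := by
    intro h
    apply hu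
    rw [sub_eq_zero, inv_pow, inv_eq_one] at h
    exact h
  have e1 : ∀ t : F, up t = ⁅d, up (t / (u ^ 2 - 1))⁆ := by
    intro t
    rw [commutatorElement_def, eq_mul_inv_iff_mul_eq, eq_mul_inv_iff_mul_eq]
    apply Subtype.ext
    change (!![1, t; 0, 1] : Matrix (Fin 2) (Fin 2) F) * !![1, t / (u ^ 2 - 1); 0, 1] * !![u, 0; 0, u⁻¹] =
      !![u, 0; 0, u⁻¹] * !![1, t / (u ^ 2 - 1); 0, 1]
    ext i j
    fin_cases i <;> fin_cases j <;> simp [Matrix.mul_apply, Fin.sum_univ_two]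
    field_simp
    ring
  have e2 : ∀ t : F, lo t = ⁅d, lo (t / (u⁻¹ ^ 2 - 1))⁆ := by
    intro t
    rw [commutatorElement_def, eq_mul_inv_iff_mul_eq, eq_mul_inv_iff_mul_eq]
    apply Subtype.ext
    change (!![1, 0; t, 1] : Matrix (Fin 2) (Fin 2) F) * !![1, 0; t / (u⁻¹ ^ 2 - 1), 1] * !![u, 0; 0, u⁻¹] =
      !![u, 0; 0, u⁻¹] * !![1, 0; t / (u⁻¹ ^ 2 - 1), 1]
    generalize hv : t / (u⁻¹ ^ 2 - 1) = v
    have hv' : t = v * (u⁻¹ ^ 2 - 1) := by rw [← hv, div_mul_cancel₀ _ h2]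
    ext i j
    fin_cases i <;> fin_cases j <;> simp [Matrix.mul_apply, Fin.sum_univ_two]
    rw [hv']
    field_simp
    ring
  unfold PS
  rw [zero_add, derivedSeries_one, derivedSeries_zero, eq_top_iff]
  intro g _
  refine (Subgroup.closure_le _).2 ?_ (mem_closure_SL2 g)
  rintro _ (⟨t, rfl⟩ | ⟨t, rfl⟩)
  · rw [e1]
    exact Subgroup.commutator_mem_commutator (Subgroup.mem_top _) (Subgroup.mem_top _)
  · rw [e2]
    exact Subgroup.commutator_mem_commutator (Subgroup.mem_top _) (Subgroup.mem_top _)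

/-- **`SL₂` over a finite field** -/
theorem ps_sl2 (F : Type*) [Field F] [Finite F] : PS 3 (SpecialLinearGroup (Fin 2) F) := by
  classical
  by_cases h : ∃ u : F, u ≠ 0 ∧ u ^ 2 ≠ 1
  · obtain ⟨u, h0, h1⟩ := h
    exact (ps_sl2_big h0 h1).mono (by norm_num)
  push Not at h
  have := Fintype.ofFinite F
  have h1 : (Finset.univ : Finset F) ⊆ {0, 1, -1} := by
    intro u _
    by_cases h0 : u = 0
    · simp [h0]
    · rcases sq_eq_one_iff.1 (h u h0) with h2 | h2 <;> simp [h2]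
  have h2 : Fintype.card F ≤ 3 := (Finset.card_le_card h1).trans Finset.card_le_three
  have h3 : 1 < Fintype.card F := Fintype.one_lt_card
  rcases (by omega : Fintype.card F = 2 ∨ Fintype.card F = 3) with h4 | h4
  · have : Fact (Nat.Prime 2) := ⟨Nat.prime_two⟩
    exact ps_sl2_of_equiv (ZMod.ringEquivOfPrime F Nat.prime_two h4) ps_sl2_two
  · have : Fact (Nat.Prime 3) := ⟨Nat.prime_three⟩
    exact ps_sl2_of_equiv (ZMod.ringEquivOfPrime F Nat.prime_three h4) ps_sl2_three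

end sl2

end Cfsg.Agent.DS.Par
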