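import Cfsg.Agent.DS.Ex.ParCore
import Cfsg.Agent.H936.DSTw
import Cfsg.Agent.KFacts.RgdFiltChev
import Cfsg.Agent.KFacts.RgdFiltTwAll

/-!
# DS, parabolic case: the groups `G₂`, `F₄`, `E₆`, `E₇`, `E₈`, `²E₆`, `³D₄` (and `B₂`) (helper55)

`par_G2`, ..., `par_3D4` : `PS 9 H` if the maximal subgroup `H` normalises a nontrivial `p`-subgroup of the socle, `p` the
characteristic.
-/

set_option autoImplicit false
set_option linter.unusedSectionVars false

namespace Cfsg.Agent.DS.Par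

open CoxeterSystem Cfsg.Agent.ChevalleyStructure.CoxeterGeom Cfsg.Agent.Tits.Roots Cfsg.Agent.Tits.Core
  Cfsg.Agent.Nodes.Reps Cfsg.Agent.Nodes.BNOf Cfsg.Agent.Nodes.RGDChev Cfsg.Agent.KFacts.RgdFilt Cfsg.Agent.H936
  Cfsg.Agent.KFacts.RgdRigid
open Cfsg.Lie Cfsg.Agent.ChevalleyStructure Cfsg.Agent.ChevalleyStructure.Elts
  Cfsg.Agent.ChevalleyStructure.CoxeterGeomTypes Cfsg.Agent.Nodes.RGDFoldSL
open Cfsg.Agent.ChevalleyStructure.SL2Hom (up lo mem_closure_SL2)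
open scoped commutatorElement

universe u

section gen

variable {I W Y : Type*} [Fintype I] [DecidableEq I] [Group W] [Group Y] [Finite Y] {M : CoxeterMatrix I}
  {cs : CoxeterSystem M W} {A : I → I → ℤ} {h : IsCartan M A} {p : ℕ} {T : Subgroup Y} {n : I → Y}
  {X : (I → ℤ) → Subgroup Y}

theorem intComm_restrict (hX : IntComm cs h X) (K : Subgroup Y) (hK : ∀ x, IsRoot cs h x → X x ≤ K) :
    IntComm cs h (fun x => (X x).subgroupOf K) := by
  intro x y hx hy hxy hxy' a ha b hb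
  have h2 := hX x y hx hy hxy hxy' a ha b hb
  have h3 : KFacts.RgdBorelTits.FS (fun z => (X z).subgroupOf K) {z | IB cs h x y z} =
      (KFacts.RgdBorelTits.FS X {z | IB cs h x y z}).subgroupOf K := by
    unfold KFacts.RgdBorelTits.FS
    rw [Nodes.RGDLib.iSup_subgroupOf]
    rintro ⟨z, hz⟩
    exact hK z hz.1
  rw [h3, Subgroup.mem_subgroupOf]
  exact h2

theorem ps_LL (R : RGD cs h p T n X) {F : Type*} [Field F] [Finite F]
    (Φ : Matrix.SpecialLinearGroup (Fin 2) F →* Y) {i : I} (hX : ∀ g, g ∈ X (sr i) ↔ ∃ a, g = Φ (up a))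
    (hw : Φ (wS 1) = n i) : PS 3 (LL X i) := by
  have h3 := R.conj i (sr i) (isRoot_sr cs h i)
  rw [rep_simple_sr] at h3
  have h1 : Φ.range = LL X i := by
    apply le_antisymm
    · rintro _ ⟨g, rfl⟩
      have h2 : Subgroup.closure (Set.range (up (F := F)) ∪ Set.range (lo (F := F))) ≤ (LL X i).comap Φ := by
        rw [Subgroup.closure_le]
        rintro _ (⟨a, rfl⟩ | ⟨a, rfl⟩)
        · exact pos_le_LL i ((hX _).2 ⟨a, rfl⟩)
        · refine neg_le_LL i ?_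
          rw [← h3, lo_eq, map_mul, map_mul, map_inv, hw]
          exact conj_mem_cj.2 ((hX _).2 ⟨_, rfl⟩)
      exact h2 (mem_closure_SL2 g)
    · refine sup_le (fun y hy => ?_) (fun y hy => ?_)
      · obtain ⟨a, rfl⟩ := (hX y).1 hy
        exact ⟨_, rfl⟩
      · rw [← h3, mem_cj] at hy
        obtain ⟨a, ha⟩ := (hX _).1 hy
        refine ⟨wS 1 * up a * (wS 1)⁻¹, ?_⟩
        rw [map_mul, map_mul, map_inv, hw, ← ha]
        group
  rw [← h1]
  exact (ps_sl2 F).range Φ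

end gen

/-- the entries of a Coxeter matrix -/
def mm {l : ℕ} (M : CoxeterMatrix (Fin l)) (i j : Fin l) : ℕ := M i j

theorem pgrp_of_loc {G : Type} [Group G] {S H E : Subgroup G} {r : ℕ} (hL : Loc S H E r) : IsPGroup r E :=
  fun x => ⟨1, Subtype.ext (by rw [pow_one]; exact hL.pow x x.2)⟩

section chev

open Cfsg.Agent.KFacts.RgdChevCoord Cfsg.Agent.ChevalleyStructure.NPerm

variable {D : ChevalleyDatum} {l : ℕ} {M : CoxeterMatrix (Fin l)}

theorem hL_chev (hp : IsType D l M) {K : Type u} [Field K] [Finite K] (i : Fin l) : PS 3 (LL (XX D l K) i) := by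
  obtain ⟨p, hchar⟩ := CharP.exists K
  have : Fact p.Prime := ⟨CharP.char_is_prime K p⟩
  have R := rgd (K := K) hp M.toCoxeterSystem p
  have hr : D.simple i < D.nroots := simple_lt hp.inList (lt_rank hp i)
  have hm : ∀ g, psi hp.inList K (D.simple i) g ∈ D.group K := by
    intro g
    refine (sup_le ?_ ?_ : _ ≤ D.group K) (psi_mem hp.inList hr g)
    · rw [← XV_sr hp]
      exact XV_le_group hp _
    · rw [← XV_neg_sr hp]
      exact XV_le_group hp _
  refine ps_LL R ((psi hp.inList K (D.simple i)).codRestrict (D.group K) hm) (fun g => ?_) ?_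
  · rw [Subgroup.mem_subgroupOf, XV_sr hp, mem_rootSubgroup_iff hp.inList]
    constructor
    · rintro ⟨a, ha⟩
      exact ⟨a, Subtype.ext (ha.trans (psi_up hp.inList hr a).symm)⟩
    · rintro ⟨a, rfl⟩
      exact ⟨a, psi_up hp.inList hr a⟩
  · exact Subtype.ext (psi_wS hp.inList hr 1)

theorem par_chev' (hp : IsType D l M) {a c : ℕ} (hN : Num M.toCoxeterSystem hp.isCartan a) {K : Type u} [Field K]
    [Finite K] {p : ℕ} [CharP K p] (hF : derivedSeries (Frame M.toCoxeterSystem hp.isCartan (XX D l K)) c = ⊥)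
    {G : Type} [Group G] {S H E : Subgroup G} (hs : Setup S H) (e : S ≃* D.group K)
    (hES : E ≤ S) (hE : IsPGroup p E) (hE1 : E ≠ ⊥) (hHE : H ≤ Subgroup.normalizer (E : Set G)) :
    PS (a + 3 + c) H := by
  have : Fact p.Prime := ⟨CharP.char_is_prime K p⟩
  have hW := finite_W hp (M.toCoxeterSystem)
  have R := rgd (K := K) hp M.toCoxeterSystem p
  have hG1 : RGD.Sup (XX D l K) {x | IsRoot M.toCoxeterSystem hp.isCartan x} = ⊤ := G1_eq_top hp M.toCoxeterSystem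
  have C := coords (K := K) hp M.toCoxeterSystem p
  exact par_loc R hG1 (intComm_restrict (KFacts.RgdFiltChev.intComm_GL hp _) _ fun x _ => XV_le_group hp x)
    (fun i => irr_of_coord (C.coord _ (isRoot_sr _ _ i))) (hL_chev hp) hN hF hs e hES hE hE1 hHE

theorem par_chev (hp : IsType D l M) (hM : SymTwo M) (hN : Num M.toCoxeterSystem hp.isCartan 3) {K : Type u} [Field K]
    [Finite K] {p : ℕ} [CharP K p] {G : Type} [Group G] {S H E : Subgroup G} (hs : Setup S H) (e : S ≃* D.group K)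
    (hES : E ≤ S) (hE : IsPGroup p E) (hE1 : E ≠ ⊥) (hHE : H ≤ Subgroup.normalizer (E : Set G)) : PS 9 H := by
  have : Fact p.Prime := ⟨CharP.char_is_prime K p⟩
  have hW := finite_W hp (M.toCoxeterSystem)
  have R := rgd (K := K) hp M.toCoxeterSystem p
  have hG1 : RGD.Sup (XX D l K) {x | IsRoot M.toCoxeterSystem hp.isCartan x} = ⊤ := G1_eq_top hp M.toCoxeterSystem
  have C := coords (K := K) hp M.toCoxeterSystem p
  exact par_chev' hp hN (frame_derived R hG1 (K := fun _ => K) (fun i => C.coord _ (isRoot_sr _ _ i))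
    fun σ τ hσ hτ => hM.comm σ τ hσ hτ) hs e hES hE hE1 hHE

theorem num_of (hp : IsType D l M) {a : ℕ} (h6 : ∀ i j k, mm M i j ≠ 6 ∨ k = i ∨ k = j) (g : Fin l → ℕ)
    (hg : ∀ σ : Equiv.Perm (Fin l), (∀ i j, M (σ i) (σ j) = M i j) → ∀ i, g (σ i) = g i)
    (hb : ∀ i₀, ∀ r < D.nroots, ∑ i ∈ Finset.univ.filter (fun i => g i = g i₀), vec D l r i < 2 ^ a) :
    Num M.toCoxeterSystem hp.isCartan a := by
  refine ⟨h6, g, hg, fun i₀ x hx => ?_⟩
  obtain ⟨r, hr, rfl⟩ := (isRoot_iff hp _ x).1 hx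
  exact hb i₀ r hr

theorem tG2 : IsType chevG2 2 CoxeterMatrix.G₂ := by simp [IsType, typeList]
theorem tB2 : IsType chevB2 2 (CoxeterMatrix.B 2) := by simp [IsType, typeList]
theorem tF4 : IsType chevF4 4 CoxeterMatrix.F₄ := by simp [IsType, typeList]
theorem tE6 : IsType chevE6 6 CoxeterMatrix.E₆ := by simp [IsType, typeList]
theorem tE7 : IsType chevE7 7 CoxeterMatrix.E₇ := by simp [IsType, typeList]
theorem tE8 : IsType chevE8 8 CoxeterMatrix.E₈ := by simp [IsType, typeList]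

theorem inv_F4 (σ : Equiv.Perm (Fin 4)) (hσ : ∀ i j, CoxeterMatrix.F₄ (σ i) (σ j) = CoxeterMatrix.F₄ i j) (i : Fin 4) :
    (![1, 2, 2, 1] : Fin 4 → ℕ) (σ i) = (![1, 2, 2, 1] : Fin 4 → ℕ) i :=
  inv_step hσ (g := fun _ => 1) (fun _ => rfl) (by decide) i

theorem num_G2 : Num CoxeterMatrix.G₂.toCoxeterSystem tG2.isCartan 3 :=
  num_of tG2 (by decide) (fun _ => 0) (fun _ _ _ => rfl) (by decide +kernel)

theorem num_B2 : Num (CoxeterMatrix.B 2).toCoxeterSystem tB2.isCartan 3 :=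
  num_of tB2 (by decide) (fun _ => 0) (fun _ _ _ => rfl) (by decide +kernel)

theorem num_F4 : Num CoxeterMatrix.F₄.toCoxeterSystem tF4.isCartan 3 :=
  num_of tF4 (by decide) ![1, 2, 2, 1] inv_F4 (by decide +kernel)

theorem num_E6 : Num CoxeterMatrix.E₆.toCoxeterSystem tE6.isCartan 3 := by
  refine num_of tE6 (by decide) ![2, 3, 4, 5, 4, 2] (fun σ hσ => ?_) (by decide +kernel)
  refine inv_step hσ (g := ![1, 1, 2, 3, 2, 1]) ?_ (by decide)
  exact inv_step hσ (g := fun _ => 1) (fun _ => rfl) (by decide)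

theorem num_E7 : Num CoxeterMatrix.E₇.toCoxeterSystem tE7.isCartan 3 := by
  refine num_of tE7 (by decide) ![2, 3, 4, 5, 5, 3, 2] (fun σ hσ => ?_) (by decide +kernel)
  refine inv_step hσ (g := ![1, 1, 2, 3, 2, 2, 1]) ?_ (by decide)
  exact inv_step hσ (g := fun _ => 1) (fun _ => rfl) (by decide)

theorem num_E8 : Num CoxeterMatrix.E₈.toCoxeterSystem tE8.isCartan 3 := by
  refine num_of tE8 (by decide) ![4, 5, 7, 12, 9, 8, 6, 3] (fun σ hσ => ?_) (by decide +kernel)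
  refine inv_step hσ (g := ![2, 3, 4, 5, 5, 4, 3, 2]) ?_ (by decide)
  refine inv_step hσ (g := ![1, 1, 2, 3, 2, 2, 2, 1]) ?_ (by decide)
  exact inv_step hσ (g := fun _ => 1) (fun _ => rfl) (by decide)

variable {K : Type u} [Field K] [Finite K] {r : ℕ} [CharP K r] {G : Type} [Group G] {S H E : Subgroup G}

theorem par_G2 (hL : Loc S H E r) (e : S ≃* chevG2.group K) : PS 9 H :=
  par_chev tG2 (symTwo_two _) num_G2 hL.toSetup e hL.le_S (pgrp_of_loc hL) hL.ne_bot hL.norm.ge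

theorem par_B2 (hL : Loc S H E r) (e : S ≃* chevB2.group K) : PS 9 H :=
  par_chev tB2 (symTwo_two _) num_B2 hL.toSetup e hL.le_S (pgrp_of_loc hL) hL.ne_bot hL.norm.ge

theorem par_F4 (hL : Loc S H E r) (e : S ≃* chevF4.group K) : PS 9 H :=
  par_chev tF4 symTwo_F4 num_F4 hL.toSetup e hL.le_S (pgrp_of_loc hL) hL.ne_bot hL.norm.ge

theorem par_E6 (hL : Loc S H E r) (e : S ≃* chevE6.group K) : PS 9 H :=
  par_chev tE6 symTwo_E6 num_E6 hL.toSetup e hL.le_S (pgrp_of_loc hL) hL.ne_bot hL.norm.ge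

theorem par_E7 (hL : Loc S H E r) (e : S ≃* chevE7.group K) : PS 9 H :=
  par_chev tE7 symTwo_E7 num_E7 hL.toSetup e hL.le_S (pgrp_of_loc hL) hL.ne_bot hL.norm.ge

theorem par_E8 (hL : Loc S H E r) (e : S ≃* chevE8.group K) : PS 9 H :=
  par_chev tE8 symTwo_E8 num_E8 hL.toSetup e hL.le_S (pgrp_of_loc hL) hL.ne_bot hL.norm.ge

end chev

section fold

open Cfsg.Agent.Nodes.RGDFold Cfsg.Agent.Nodes.RGDTwGen Cfsg.Agent.KFacts.TwESix.NodeCoord

theorem par_fold {D : ChevalleyDatum} {l : ℕ} {M' : CoxeterMatrix (Fin l)} {hp : IsType D l M'} {K : Type u} [Field K]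
    [Finite K] {m : ℕ} {M : CoxeterMatrix (Fin m)} {A : Fin m → Fin m → ℤ} (h : IsCartan M A)
    {J : Fin m → List (Fin l)} {L : List (List ℕ)} {σ : GL D.Idx K →* GL D.Idx K} {ρ ρ' : ℕ → ℕ}
    {f : ℕ → K → K} {Y : Subgroup (GL D.Idx K)} (FD : FoldData D M A J L) (FG : FoldGrp hp K J L σ ρ ρ' f Y)
    {rp : Fin m → ℕ} {o : Fin m → List ℕ} (N : ∀ i, NodeOK D J L ρ i (rp i) (o i)) {φ : K →+* K}
    (hf : ∀ i, ∀ s ∈ rp i :: o i, ∀ t, f s t = φ t) (hM : SymTwo M) (h6 : ∀ i j k, mm M i j ≠ 6 ∨ k = i ∨ k = j)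
    (g : Fin m → ℕ) (hg : ∀ σ : Equiv.Perm (Fin m), (∀ i j, M (σ i) (σ j) = M i j) → ∀ i, g (σ i) = g i)
    (hb : ∀ i₀, ∀ r < D.nroots, ∑ i ∈ Finset.univ.filter (fun i => g i = g i₀), V D J r i < 2 ^ 3)
    {p : ℕ} [CharP K p] {G : Type} [Group G] {S H E : Subgroup G} (hL : Loc S H E p) (e : S ≃* Y) : PS 9 H := by
  have : Fact p.Prime := ⟨hL.prime⟩
  have hW : Finite M.Group := Nodes.RGDFold.finite_W (hp := hp) M.toCoxeterSystem h FD
  have R := Nodes.RGDFold.rgd M.toCoxeterSystem h FD FG p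
  have hG1 := Nodes.RGDFold.G1_eq_top M.toCoxeterSystem h FD FG p
  have hN : Num M.toCoxeterSystem h 3 := by
    refine ⟨h6, g, hg, fun i₀ x hx => ?_⟩
    obtain ⟨r, hr, rfl⟩ := (FD.isRoot_iff (cs := M.toCoxeterSystem) (h := h) hp.checked
      (fun i r hr => wp_lt hp (J i) hr) x).1 hx
    exact hb i₀ r hr
  exact par_loc R hG1 (intComm_restrict (KFacts.RgdFiltTwAll.intComm_fold _ h FD FG p) _
      fun x hx => R_le _ h FD FG p hx)
    (fun i => irr_of_coord (coord FG (N i) (hf i)))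
    (fun i => ps_LL R (Phi FG (N i) (hf i)) (mem_X_iff FG (N i) (hf i)) (Phi_wS FG (N i) (hf i))) hN
    (frame_derived R hG1 (K := fun i => ↥(Fx φ ((o i).length + 1))) (fun i => coord FG (N i) (hf i))
      fun σ τ hσ hτ => hM.comm σ τ hσ hτ) hL.toSetup e hL.le_S (pgrp_of_loc hL) hL.ne_bot hL.norm.ge

variable {K : Type} [Field K] [Fintype K] {q r : ℕ} [CharP K r] {G : Type} [Group G] {S H E : Subgroup G}

theorem par_2E6 (hq : IsPrimePow q) (hK : Fintype.card K = q ^ 2) (hL : Loc S H E r) (e : S ≃* twistedE6 K q) :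
    PS 9 H := by
  obtain ⟨φ, hφ, hqq⟩ := TwE6Basic.exists_frob hq hK
  exact par_fold Nodes.RGDTwE6.isCartan Nodes.RGDTwE6.foldData (Nodes.RGDTwE6.foldGrp hφ hqq)
    Nodes.RGDTwNode.E6.nodeOK (hf_E6 φ) symTwo_F4 (by decide) ![1, 2, 2, 1] inv_F4 (by decide +kernel) hL e

theorem par_3D4 (hq : IsPrimePow q) (hK : Fintype.card K = q ^ 3) (hL : Loc S H E r) (e : S ≃* twistedD4 K q) :
    PS 9 H := by
  obtain ⟨φ, hφ⟩ := D4Fixed.exists_frob hq hK
  exact par_fold Nodes.RGDTwD4.isCartan Nodes.RGDTwD4.foldData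
    (Nodes.RGDTwD4.foldGrp hφ (D4Fixed.twisted_le_fix hK hφ))
    Nodes.RGDTwNode.D4.nodeOK (hf_D4 φ) (symTwo_two _) (by decide) (fun _ => 0) (fun _ _ _ => rfl)
    (by decide +kernel) hL e

end fold

end Cfsg.Agent.DS.Par
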