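import Cfsg.Agent.DS.Ex.ParBase
import Cfsg.Agent.DS.Alt
import Cfsg.Agent.H564.EPF.BT
import Cfsg.Agent.H564.EPF.Inst
import Cfsg.Agent.H2.TwF
import Cfsg.Agent.KFacts.TwF4.Layers

/-!
# DS, parabolic case: the groups `²F₄(q)`, `q ≥ 8` (helper55)

* `exists_radical` : a maximal subgroup normalising a nontrivial `p`-subgroup of the socle is the normaliser of
  `O_p(H ∩ S)`;
* `par_2F4` : `PS 9 H` for `p = 2`, `S ≅ ²F₄(q)`.
-/

set_option autoImplicit false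
set_option linter.unusedSectionVars false

namespace Cfsg.Agent.DS.Par

open Cfsg.Agent.H936 Cfsg.Agent.H284 Cfsg.Agent.H564.EPF
open Cfsg.Agent.SplitTwo Cfsg.Agent.SplitTwo.ZS Cfsg.Agent.TitsThree.RankTwoZ Cfsg.Agent.KFacts.TwF4
open Cfsg.Agent.KFacts.TwF4.SylU Cfsg.Agent.KFacts.TwF4.Perf Cfsg.Agent.KFacts.TwF4.Full
open scoped commutatorElement

universe u

section abs

theorem norm_eq_of_pgroup {G : Type} [Group G] [Finite G] {S H R : Subgroup G} (hs : Setup S H) {p : ℕ} [Fact p.Prime]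
    (hRS : R ≤ S) (hR : IsPGroup p R) (hR1 : R ≠ ⊥) (hHR : H ≤ Subgroup.normalizer (R : Set G)) :
    Subgroup.normalizer (R : Set G) = H := by
  have := hs.simple
  by_contra hne
  have h1 : Subgroup.normalizer (R : Set G) = ⊤ := hs.coatom.2 _ (lt_of_le_of_ne hHR (Ne.symm hne))
  have h2 : R.Normal := Subgroup.normalizer_eq_top_iff.1 h1
  rcases (h2.subgroupOf S).eq_bot_or_eq_top with h3 | h3
  · rw [Subgroup.subgroupOf_eq_bot, disjoint_iff, inf_eq_left.2 hRS] at h3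
    exact hR1 h3
  · rw [Subgroup.subgroupOf_eq_top] at h3
    have h4 : Group.IsNilpotent S := (hR.to_le h3).isNilpotent
    exact hs.noncomm ⟨⟨IsSimpleGroup.comm_iff_isSolvable.2 inferInstance⟩⟩

/-- the largest normal `p`-subgroup of `S ⊓ H` -/
theorem exists_radical {G : Type} [Group G] [Finite G] {S H E : Subgroup G} (hs : Setup S H) {p : ℕ} [Fact p.Prime]
    (hES : E ≤ S) (hE : IsPGroup p E) (hE1 : E ≠ ⊥) (hHE : H ≤ Subgroup.normalizer (E : Set G)) :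
    ∃ R : Subgroup G, R ≠ ⊥ ∧ R ≤ S ∧ IsPGroup p R ∧ Subgroup.normalizer (R : Set G) = H ∧
      ∀ D : Subgroup G, D ≤ S ⊓ H → IsPGroup p D → S ⊓ H ≤ Subgroup.normalizer (D : Set G) → D ≤ R := by
  have hN := hs.normal
  let P : Subgroup G → Prop := fun D => D ≤ S ⊓ H ∧ IsPGroup p D ∧ S ⊓ H ≤ Subgroup.normalizer (D : Set G)
  have hEH : E ≤ H := by
    rw [← norm_eq_of_pgroup hs hES hE hE1 hHE]
    exact Subgroup.le_normalizer
  obtain ⟨R, hER, hR⟩ := Finite.exists_le_maximal (p := P) (a := E) ⟨le_inf hES hEH, hE, inf_le_right.trans hHE⟩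
  obtain ⟨h1, h2, h3⟩ := hR.prop
  have hmax : ∀ D, P D → D ≤ R := by
    intro D hD
    refine le_sup_left.trans (hR.le_of_ge (y := D ⊔ R) ⟨sup_le hD.1 h1,
      IsPGroup.to_sup_of_normal_right' hD.2.1 h2 (hD.1.trans h3), ?_⟩ le_sup_right)
    exact (le_inf hD.2.2 h3).trans (Subgroup.normalizer_inf_normalizer_le_normalizer_sup D R)
  have hR1 : R ≠ ⊥ := fun h => hE1 (eq_bot_iff.2 (h ▸ hER))
  refine ⟨R, hR1, h1.trans inf_le_left, h2, norm_eq_of_pgroup hs (h1.trans inf_le_left) h2 hR1 ?_,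
    fun D a b c => hmax D ⟨a, b, c⟩⟩
  refine mem_norm_of fun g hg z hz => hmax (cj g R) ⟨?_, h2.map _, ?_⟩ (conj_mem_cj hz)
  · rintro _ ⟨x, hx, rfl⟩
    exact ⟨hN.conj_mem _ (h1 hx).1 g, H.mul_mem (H.mul_mem hg (h1 hx).2) (H.inv_mem hg)⟩
  · refine mem_norm_of fun s hs' y hy => ?_
    rw [mem_cj] at hy ⊢
    have h4 : g⁻¹ * s * g ∈ S ⊓ H :=
      ⟨by simpa using hN.conj_mem _ hs'.1 g⁻¹, H.mul_mem (H.mul_mem (H.inv_mem hg) hs'.2) hg⟩
    have h5 := conj_mem_of_norm (h3 h4) hy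
    have e : g⁻¹ * s * g * (g⁻¹ * y * g) * (g⁻¹ * s * g)⁻¹ = g⁻¹ * (s * y * s⁻¹) * g := by group
    rwa [e] at h5

theorem le_of_inf_norm {Y : Type*} [Group Y] [Finite Y] {p : ℕ} [Fact p.Prime] {R V : Subgroup Y} (hV : IsPGroup p V)
    (h : V ⊓ Subgroup.normalizer (R : Set Y) ≤ R) (hRV : R ≤ V) : V ≤ R := by
  have h1 : Group.IsNilpotent V := hV.isNilpotent
  by_contra hne
  have h2 : R.subgroupOf V < ⊤ := by
    rw [lt_top_iff_ne_top, Ne, Subgroup.subgroupOf_eq_top]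
    exact hne
  obtain ⟨x, hx, hxR⟩ := SetLike.exists_of_lt (Group.normalizerCondition_of_isNilpotent _ h2)
  refine hxR (h ⟨x.2, ?_⟩)
  refine mem_nm fun a ha => ?_
  exact (Subgroup.mem_normalizer_iff.1 hx ⟨a, hRV ha⟩).1 ha

theorem comm_sup_le_ab {Y : Type*} [Group Y] {A B : Subgroup Y} (hn : B ≤ Subgroup.normalizer (A : Set Y))
    (hB : ∀ s ∈ B, ∀ t ∈ B, s * t = t * s) : ⁅A ⊔ B, A ⊔ B⁆ ≤ A := by
  have e : A ⊔ B = ⨆ b : Bool, cond b A B := by rw [iSup_bool_eq]; rfl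
  have h1 : ∀ b : Bool, cond b A B ≤ Subgroup.normalizer (A : Set Y) := by
    intro b
    cases b
    · exact hn
    · exact Subgroup.le_normalizer
  rw [e]
  refine comm_le_of_gen _ _ h1 h1 fun i k a ha b hb => ?_
  cases i <;> cases k
  · rw [commutatorElement_eq_one_iff_mul_comm.2 (hB a ha b hb)]
    exact one_mem _
  · rw [commutatorElement_def]
    exact mul_mem (conj_mem_of_norm (hn ha) hb) (inv_mem hb)
  · have e2 : ⁅a, b⁆ = a * (b * a⁻¹ * b⁻¹) := by rw [commutatorElement_def]; group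
    rw [e2]
    exact mul_mem ha (conj_mem_of_norm (hn hb) (inv_mem ha))
  · rw [commutatorElement_def]
    exact mul_mem (mul_mem (mul_mem ha hb) (inv_mem ha)) (inv_mem hb)

theorem dS_bot_of_ps {Y : Type*} [Group Y] {K : Subgroup Y} {k : ℕ} (h : PS k K) (hK : Group.IsSolvable K) :
    dS K k = ⊥ := by
  obtain ⟨n, hn⟩ := Group.IsSolvable.solvable (G := K)
  rw [dS_eq, ← h.eq (le_max_left k n), eq_bot_iff.2 ((derivedSeries_antitone K (le_max_right k n)).trans hn.le),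
    Subgroup.map_bot]

theorem ps_between {Y : Type*} [Group Y] {A B K : Subgroup Y} (hA : ⁅A, A⁆ = A)
    (hn : B ≤ Subgroup.normalizer (A : Set Y)) (hB : ∀ s ∈ B, ∀ t ∈ B, s * t = t * s) (h1 : A ≤ K) (h2 : K ≤ A ⊔ B) :
    PS 1 K := by
  rw [ps_iff]
  refine le_antisymm (dS_succ_le _ _) (le_trans ?_ (le_dS_of_perfect hA.ge h1 _))
  exact (Subgroup.commutator_mono h2 h2).trans (comm_sup_le_ab hn hB)

end abs

section od

variable {Y : Type u} [Group Y] [Finite Y] (D : OD Y)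

theorem syl_le_norm (h2 : IsPGroup 2 D.U) {R : Subgroup Y} (hR1 : R ≠ ⊥) {g₀ : Y} (h₀ : R ≤ cj g₀ D.U)
    (hmax : ∀ V : Subgroup Y, V ≤ Subgroup.normalizer (R : Set Y) → IsPGroup 2 V →
      Subgroup.normalizer (R : Set Y) ≤ Subgroup.normalizer (V : Set Y) → V ≤ R) :
    ∃ g, cj g D.U ≤ Subgroup.normalizer (R : Set Y) := by
  have : Fact (Nat.Prime 2) := ⟨Nat.prime_two⟩
  obtain ⟨g, J, hJ, h3, h4⟩ := OD.bt hR1 h₀
  have h5 : D.VV J ≤ D.U ∧ D.U ≤ Subgroup.normalizer (D.VV J : Set Y) := by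
    rcases OD.cases4 J with rfl | ⟨j, rfl⟩ | rfl
    · rw [OD.VV_empty]
      exact ⟨le_rfl, Subgroup.le_normalizer⟩
    · rw [OD.VV_single]
      exact ⟨OD.V_le_U j, OD.U_le_NV j⟩
    · exact absurd rfl hJ
  have h6 : IsPGroup 2 (cj g (D.VV J)) := (h2.to_le h5.1).map _
  have h7 : ∀ x, x ∈ cj g (Subgroup.normalizer (D.VV J : Set Y)) → ∀ v ∈ cj g (D.VV J), x * v * x⁻¹ ∈ cj g (D.VV J) := by
    intro x hx v hv
    rw [mem_cj] at hx hv ⊢
    have h8 := conj_mem_of_norm hx hv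
    have e : g⁻¹ * x * g * (g⁻¹ * v * g) * (g⁻¹ * x * g)⁻¹ = g⁻¹ * (x * v * x⁻¹) * g := by group
    rwa [e] at h8
  have h8 : cj g (D.VV J) ≤ R := by
    refine le_of_inf_norm h6 (hmax _ inf_le_right (h6.to_le inf_le_left) ?_) h3
    refine mem_norm_of fun x hx v hv => ⟨h7 x (h4 hx) v hv.1, Subgroup.mul_mem _ (Subgroup.mul_mem _ hx hv.2) (Subgroup.inv_mem _ hx)⟩
  refine ⟨g, ?_⟩
  rw [← le_antisymm h8 h3]
  exact mem_norm_of fun x hx => h7 x (cj_mono h5.2 hx)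

end od

section full

variable {F : Type*} [Field F] [Finite F] {σ : F →+* F} {Y : Type u} [Group Y] [Finite Y] (S : Full σ Y)

theorem ps_X8 : PS 2 (S.XZ 8) := by
  refine ps_of_dS_bot ?_
  have h1 : ⁅S.XZ 8, S.XZ 8⁆ ≤ S.Zc 4 := by
    rw [Subgroup.commutator_le]
    intro x hx y hy
    obtain ⟨p, u, rfl⟩ := S.X8 hx
    obtain ⟨q, v, rfl⟩ := S.X8 hy
    have h2 : S.e 4 p u * S.e 4 q v = S.e 4 0 (p * σ q - q * σ p) * (S.e 4 q v * S.e 4 p u) := by
      rw [S.e_mul, S.e_mul, S.e_mul]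
      congr 1 <;> ring
    refine ⟨p * σ q - q * σ p, ?_⟩
    rw [commutatorElement_def, h2]
    group
  rw [eq_bot_iff]
  refine (Subgroup.commutator_mono h1 h1).trans ?_
  rw [Subgroup.commutator_le]
  rintro _ ⟨u, rfl⟩ _ ⟨v, rfl⟩
  rw [Subgroup.mem_bot, commutatorElement_eq_one_iff_mul_comm, S.e_mul, S.e_mul]
  congr 1
  ring

theorem ps_Q : PS 2 S.Q := by
  refine ps_of_dS_bot ?_
  rw [dS_succ, dS_succ, dS_zero, Layers.comm_Q, Subgroup.commutator_eq_bot_iff_le_centralizer, S.centralizer_Q2]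
  exact le_sup_right

theorem J18_eq : J S.XZ 1 8 = S.Q ⊔ S.XZ 8 := by
  have h3 : S.Q ≤ J S.XZ 1 8 := (J_mono le_rfl (by norm_num) : J S.XZ 1 7 ≤ J S.XZ 1 8)
  refine le_antisymm (J_le fun k h1 h2 => ?_) (sup_le h3 (X_le_J (by norm_num) le_rfl))
  rcases eq_or_lt_of_le h2 with h | h
  · rw [h]; exact le_sup_right
  · have h4 : S.XZ k ≤ S.Q := (X_le_J h1 (by omega) : S.XZ k ≤ J S.XZ 1 7)
    exact h4.trans le_sup_left

theorem ps_U : PS 4 (J S.XZ 1 8) := by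
  have h5 : S.XZ 8 ≤ Subgroup.normalizer (S.Q : Set Y) :=
    mem_norm_of fun g hg z hz => Q_norm S ((X_le_J (by norm_num) le_rfl : S.XZ 8 ≤ J S.XZ 0 8) hg) hz
  have h6 := ps_sup h5 (ps_Q S) (ps_X8 S)
  rwa [← J18_eq] at h6

theorem ps_T : PS 1 S.T := by
  refine ps_of_dS_bot ?_
  rw [dS_succ, dS_zero, eq_bot_iff, Subgroup.commutator_le]
  intro s hs t ht
  rw [Subgroup.mem_bot, commutatorElement_eq_one_iff_mul_comm]
  exact T_comm S hs ht

theorem dS_BT (hR : S.R.p = 2) : dS (J S.XZ 1 8 ⊔ S.T) 5 = ⊥ := by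
  have h5 : S.T ≤ Subgroup.normalizer ((J S.XZ 1 8 : Subgroup Y) : Set Y) :=
    mem_norm_of fun g hg z hz => S.T_conj_J hg hz
  have h6 := (ps_sup h5 (ps_U S) (ps_T S)).mono (m := 5) (by norm_num)
  have h7 := dS_bot_of_ps h6 (BT_solvable S hR)
  exact h7

theorem ps_over (hF : ∃ c : Fˣ, c ≠ 1) (hR : S.R.p = 2) {K : Subgroup Y} (hU : J S.XZ 1 8 ≤ K) (hK : K ≠ ⊤) :
    PS 5 K := by
  rcases H2.TwF.overU S hU with h | h | ⟨h, h'⟩ | ⟨h, h'⟩
  · exact absurd h hK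
  · exact ps_of_dS_bot (eq_bot_iff.2 ((dS_mono h 5).trans (dS_BT S hR).le))
  · exact (ps_between (H2.TwF.J19_perfect S hF) (mem_norm_of fun g hg z hz => S.T_conj_J hg hz)
      (fun s hs t ht => T_comm S hs ht) h h').mono (by norm_num)
  · exact (ps_between (PL_perfect S hF) (mem_norm_of fun g hg z hz => S.T_conj_J hg hz)
      (fun s hs t ht => T_comm S hs ht) h h').mono (by norm_num)

theorem ps_rad (hF : ∃ c : Fˣ, c ≠ 1) (hR : S.R.p = 2) (hopp : ∀ y, y ∈ J S.XZ 1 8 → y ∈ J S.XZ 9 16 → y = 1)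
    {R : Subgroup Y} (hR1 : R ≠ ⊥) (hR2 : IsPGroup 2 R) (hN : Subgroup.normalizer (R : Set Y) ≠ ⊤)
    (hmax : ∀ V : Subgroup Y, V ≤ Subgroup.normalizer (R : Set Y) → IsPGroup 2 V →
      Subgroup.normalizer (R : Set Y) ≤ Subgroup.normalizer (V : Set Y) → V ≤ R) :
    PS 5 (Subgroup.normalizer (R : Set Y)) := by
  have : Fact (Nat.Prime 2) := ⟨Nat.prime_two⟩
  obtain ⟨P, hP⟩ := exists_sylow S hF hR
  obtain ⟨P', hP'⟩ := hR2.exists_le_sylow
  obtain ⟨g₀, hg₀⟩ := MulAction.exists_smul_eq Y P P'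
  have h1 : cj g₀ (P : Subgroup Y) = (P' : Subgroup Y) := by rw [← hg₀]; rfl
  obtain ⟨g, hg⟩ := syl_le_norm (ofFull S hopp) (R := R) (g₀ := g₀)
    (show IsPGroup 2 (J S.XZ 1 8) from hP ▸ P.isPGroup') hR1
    (show R ≤ cj g₀ (J S.XZ 1 8) by rw [← hP, h1]; exact hP') hmax
  have h2 := ps_over S hF hR (K := cj g⁻¹ (Subgroup.normalizer (R : Set Y))) (cj_le_iff.1 hg) (by
    intro h
    apply hN
    rw [eq_top_iff]
    intro x _
    have h3 : g⁻¹ * x * g ∈ cj g⁻¹ (Subgroup.normalizer (R : Set Y)) := by rw [h]; exact Subgroup.mem_top _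
    rw [mem_cj] at h3
    simpa [mul_assoc] using h3)
  have h3 := ps_map (MulAut.conj g).toMonoidHom h2
  rwa [show (cj g⁻¹ (Subgroup.normalizer (R : Set Y))).map (MulAut.conj g).toMonoidHom =
    Subgroup.normalizer (R : Set Y) from cj_cj_inv g _] at h3

end full

/-- transport of the radical subgroup to a model of the socle -/
theorem ps_of_rad (big : Big) {G : Type} [Group G] [Finite G] {S H E : Subgroup G} (hs : Setup S H) {p : ℕ}
    [Fact p.Prime] (hES : E ≤ S) (hE : IsPGroup p E) (hE1 : E ≠ ⊥) (hHE : H ≤ Subgroup.normalizer (E : Set G))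
    {Y : Type u} [Group Y] (e : S ≃* Y) {a : ℕ}
    (h : ∀ R : Subgroup Y, R ≠ ⊥ → IsPGroup p R → Subgroup.normalizer (R : Set Y) ≠ ⊤ →
      (∀ V : Subgroup Y, V ≤ Subgroup.normalizer (R : Set Y) → IsPGroup p V →
        Subgroup.normalizer (R : Set Y) ≤ Subgroup.normalizer (V : Set Y) → V ≤ R) →
      PS a (Subgroup.normalizer (R : Set Y))) : PS (a + 3) H := by
  obtain ⟨R, hR1, hRS, hR, hN, hmax⟩ := exists_radical hs hES hE hE1 hHE
  let f : Y →* G := S.subtype.comp e.symm.toMonoidHom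
  have hf : Function.Injective f := S.subtype_injective.comp e.symm.injective
  have hfr : ∀ x ∈ S, ∃ y, f y = x := fun x hx => ⟨e ⟨x, hx⟩, congrArg Subtype.val (e.symm_apply_apply _)⟩
  have hfS : ∀ y, f y ∈ S := fun y => (e.symm y).2
  have h1 : Subgroup.normalizer ((R.comap f : Subgroup Y) : Set Y) = H.comap f := by
    ext y
    rw [Subgroup.mem_comap, ← hN, Subgroup.mem_normalizer_iff, Subgroup.mem_normalizer_iff]
    constructor
    · intro h2 x
      by_cases hx : x ∈ S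
      · obtain ⟨z, rfl⟩ := hfr x hx
        rw [← map_inv, ← map_mul, ← map_mul]
        exact h2 z
      · refine ⟨fun h3 => absurd (hRS h3) hx, fun h3 => absurd ?_ hx⟩
        have e2 : x = (f y)⁻¹ * (f y * x * (f y)⁻¹) * f y := by group
        rw [e2]
        exact mul_mem (mul_mem (inv_mem (hfS y)) (hRS h3)) (hfS y)
    · intro h2 z
      have h3 := h2 (f z)
      rwa [← map_inv, ← map_mul, ← map_mul] at h3
  have h2 : (H.comap f).map f = S ⊓ H := by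
    ext x
    constructor
    · rintro ⟨y, hy, rfl⟩
      exact ⟨hfS y, hy⟩
    · rintro ⟨h3, h4⟩
      obtain ⟨y, rfl⟩ := hfr x h3
      exact ⟨y, h4, rfl⟩
  have h3 := h (R.comap f) (by
      intro h4
      apply hR1
      rw [eq_bot_iff]
      intro x hx
      obtain ⟨y, rfl⟩ := hfr x (hRS hx)
      have h5 : y ∈ R.comap f := hx
      rw [h4, Subgroup.mem_bot] at h5
      rw [h5, map_one]
      exact one_mem _) (hR.comap_of_injective f hf) (by
      rw [h1]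
      intro h4
      apply hs.not_le
      intro x hx
      obtain ⟨y, rfl⟩ := hfr x hx
      have h5 : y ∈ H.comap f := by rw [h4]; exact Subgroup.mem_top _
      exact h5) (by
      rw [h1]
      intro V hV hVp hVn
      rw [← Subgroup.map_le_iff_le_comap]
      refine hmax _ (h2 ▸ Subgroup.map_mono hV) (hVp.map f) ?_
      rw [← h2]
      refine mem_norm_of ?_
      rintro _ ⟨y, hy, rfl⟩ _ ⟨v, hv, rfl⟩
      exact ⟨_, conj_mem_of_norm (hVn hy) hv, by rw [map_mul, map_mul, map_inv]⟩)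
  have h4 := ps_map f h3
  rw [h1, h2] at h4
  refine AltRow.ps_of_inf big hs ?_
  rw [← Subgroup.inf_subgroupOf_right]
  exact h4.of_equiv (Subgroup.subgroupOfEquivOfLe inf_le_right).symm

open Cfsg.Agent.ChevalleyStructure.TwF4.TwistedFix in
theorem par_2F4' (big : Big) {K : Type} [Field K] [Fintype K] {m : ℕ} (hm : 1 ≤ m)
    (hK : Fintype.card K = 2 ^ (2 * m + 1)) {G : Type} [Group G] [Finite G] {S H E : Subgroup G} (hs : Setup S H)
    (e : S ≃* Lie.twistedF4 K (2 ^ m)) (hES : E ≤ S) (hE : IsPGroup 2 E) (hE1 : E ≠ ⊥)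
    (hHE : H ≤ Subgroup.normalizer (E : Set G)) : PS 9 H := by
  have : Fact (Nat.Prime 2) := ⟨Nat.prime_two⟩
  have : CharP K 2 := Cfsg.Agent.ChevalleyStructure.TwF4.Twisted.charP_two hK
  obtain ⟨φ, hφ⟩ := exists_rln hK
  have : Finite ↥(Lie.twistedF4 K (2 ^ m)) := Finite.of_equiv _ e.toEquiv
  have hF : ∃ c : Kˣ, c ≠ 1 := by
    classical
    have h1 : 1 < Fintype.card Kˣ := by
      rw [Fintype.card_units, hK]
      have h2 : 2 ^ 3 ≤ 2 ^ (2 * m + 1) := Nat.pow_le_pow_right (by norm_num) (by omega)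
      omega
    have := Fintype.one_lt_card_iff_nontrivial.1 h1
    exact exists_ne 1
  exact (ps_of_rad big hs hES hE hE1 hHE e fun R h1 h2 h3 h4 =>
    ps_rad (Inst.full hK hφ) hF rfl (opp hK hφ) h1 h2 h3 h4).mono (by norm_num)

theorem par_2F4 (big : Big) {K : Type} [Field K] [Fintype K] {m : ℕ} (hm : 1 ≤ m)
    (hK : Fintype.card K = 2 ^ (2 * m + 1)) {G : Type} [Group G] [Finite G] {S H E : Subgroup G} (hL : Loc S H E 2)
    (e : S ≃* Lie.twistedF4 K (2 ^ m)) : PS 9 H :=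
  par_2F4' big hm hK hL.toSetup e hL.le_S (fun x => ⟨1, Subtype.ext (by rw [pow_one]; exact hL.pow x x.2)⟩) hL.ne_bot
    hL.norm.ge

end Cfsg.Agent.DS.Par
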