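import Mathlib
import Cfsg.Agent.DS.NT.StepA
import Cfsg.Agent.DS.Ord.Chief
import Cfsg.Agent.DS.Lin.Uni
import Cfsg.Agent.H577.CABasic

/-!
# DS: maximal subgroups when the `r`-subgroups have an abelian subgroup of small rank and index at most `r` (helper2)

`Tw Q r m` : `Q` has an abelian subgroup of `r`-rank at most `m` and index at most `r`; `Sm X r m` : so have all
`r`-subgroups of `X`.  `ps_nine` : `PS 9 H` if `Sm S r 4` for all primes `r ≠ p` and `H` normalizes no non-trivial
`p`-subgroup of `S`.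
-/

set_option autoImplicit false
set_option linter.unusedSectionVars false

namespace Cfsg.Agent.DS.TF

open Cfsg.Agent.H936 Cfsg.Agent.DS.Red Cfsg.Agent.DS.Gen Cfsg.Agent.DS.Cl Cfsg.Agent.DS.NT Cfsg.Agent.DS.Ord
  Cfsg.Agent.H511.Wt Subgroup
open scoped commutatorElement IsMulCommutative

/-- an abelian subgroup of rank at most `m` and index at most `r` -/
def Tw (Q : Type*) [Group Q] (r m : ℕ) : Prop :=
  ∃ A : Subgroup Q, (∀ x ∈ A, ∀ y ∈ A, x * y = y * x) ∧ RankLe A r m ∧ A.index ≤ r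

/-- `Tw` for all `r`-subgroups -/
def Sm (X : Type*) [Group X] (r m : ℕ) : Prop :=
  ∀ (Q : Type) [Group Q] [Finite Q], IsPGroup r Q → ∀ f : Q →* X, Function.Injective f → Tw Q r m

theorem Sm.of_inj {X Z : Type*} [Group X] [Group Z] {r m : ℕ} (h : Sm X r m) (g : Z →* X)
    (hg : Function.Injective g) : Sm Z r m :=
  fun Q _ _ hQ f hf => h Q hQ (g.comp f) (hg.comp hf)

section Tw

variable {Q : Type*} [Group Q] [Finite Q] {r m : ℕ} [hr : Fact r.Prime]

theorem commutator_le_of_index (hQ : IsPGroup r Q) {A : Subgroup Q} (h : A.index ≤ r) : commutator Q ≤ A := by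
  by_cases hA : A = ⊤
  · rw [hA]
    exact le_top
  have hpow : ∀ B : Subgroup Q, B ≠ ⊤ → r ≤ B.index := by
    intro B hB
    obtain ⟨n, hn⟩ := hQ.index B
    rcases n with _ | n
    · exact absurd (index_eq_one.1 (by simpa using hn)) hB
    · rw [hn]
      exact Nat.le_self_pow (Nat.succ_ne_zero n) r
  have h1 : IsCoatom A := by
    refine ⟨hA, fun B hB => ?_⟩
    by_contra h2
    have h3 := hpow B h2
    have h4 := relIndex_mul_index hB.le
    have h5 : A.relIndex B ≠ 1 := fun h6 => hB.not_ge (relIndex_eq_one.1 h6)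
    have h6 : A.relIndex B ≠ 0 := index_ne_zero_of_finite
    have h7 : 2 ≤ A.relIndex B := by omega
    have h8 := hr.out.pos
    nlinarith
  exact (S0012.result r hQ).1.trans (frattini_le_coatom h1)

theorem Tw.two (h : Tw Q r m) (hQ : IsPGroup r Q) : derivedSeries Q 2 = ⊥ := by
  obtain ⟨A, hc, -, hi⟩ := h
  have h1 : derivedSeries Q 1 ≤ A := commutator_le_of_index hQ hi
  rw [derivedSeries_succ, eq_bot_iff]
  exact (commutator_mono h1 h1).trans (dS_one_eq_bot hc).le

theorem Tw.frat (h : Tw Q r m) (hQ : IsPGroup r Q) : (frattini Q).index ≤ r ^ (m + 1) := by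
  obtain ⟨A, hc, hrk, hi⟩ := h
  have : IsMulCommutative A := ⟨⟨fun x y => Subtype.ext (hc x x.2 y y.2)⟩⟩
  let P : A →* A := powMonoidHom r
  have h1 : P.range ≤ (frattini Q).subgroupOf A := by
    rintro _ ⟨x, rfl⟩
    exact (S0012.result r hQ).2 x
  have h2 : Nat.card P.ker ≤ r ^ m := hrk P.ker (fun x _ y _ => mul_comm x y) fun x hx => hx
  have h3 : (frattini Q).relIndex A ≤ r ^ m := by
    refine le_trans (Nat.le_of_dvd (Nat.pos_of_ne_zero index_ne_zero_of_finite) (index_dvd_of_le h1)) ?_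
    rw [index_range]
    exact h2
  have h4 : (frattini Q).index ≤ (frattini Q ⊓ A).index :=
    Nat.le_of_dvd (Nat.pos_of_ne_zero index_ne_zero_of_finite) (index_dvd_of_le inf_le_left)
  rw [← relIndex_mul_index (show frattini Q ⊓ A ≤ A from inf_le_right), inf_relIndex_right] at h4
  rw [pow_succ]
  exact h4.trans (Nat.mul_le_mul h3 hi)

end Tw

section Core

variable {Y : Type} [Group Y] [Finite Y] [hY : Group.IsSolvable Y] {r n k : ℕ} [hr : Fact r.Prime]

theorem dl_of_sb (hSB : Lin.SB n k) {V : Type} [AddCommGroup V] [Finite V] [DistribMulAction Y V] (hirr : Irr Y V)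
    {j : ℕ} (hc : Nat.card V = r ^ j) (hj : j ≤ n) : DL Y V k := by
  obtain ⟨p, hp, hpx⟩ := hirr.exists_prime
  have hnt := hirr.nt
  obtain ⟨x, hx⟩ := exists_ne (0 : V)
  have : Fact p.Prime := ⟨hp⟩
  have h1 : addOrderOf x = p := addOrderOf_eq_prime (hpx x) hx
  have h2 : p ∣ r ^ j := by
    rw [← hc, ← h1]
    exact addOrderOf_dvd_natCard x
  have h3 : p = r := (Nat.prime_dvd_prime_iff_eq hp hr.out).1 (hp.dvd_of_dvd_pow h2)
  subst h3
  obtain ⟨inst⟩ : Nonempty (Module (ZMod p) V) := ⟨AddCommGroup.zmodModule hpx⟩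
  have : Module.Finite (ZMod p) V := Module.Finite.of_finite
  have h4 := Module.natCard_eq_pow_finrank (K := ZMod p) (V := V)
  rw [Nat.card_zmod, hc] at h4
  have h5 : Module.finrank (ZMod p) V = j := (Nat.pow_right_injective hp.two_le h4).symm
  let φ : Y →* Module.End (ZMod p) V :=
    { toFun := fun g => (DistribSMul.toAddMonoidHom V g).toZModLinearMap p
      map_one' := LinearMap.ext fun x => one_smul Y x
      map_mul' := fun g h => LinearMap.ext fun x => mul_smul g h x }
  have h6 : Lin.Irr φ := by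
    intro W hW
    rcases hirr.irr W.toAddSubgroup hW with h7 | h7
    · left
      rw [eq_bot_iff]
      intro v hv
      have h8 : v ∈ W.toAddSubgroup := hv
      rwa [h7] at h8
    · right
      rw [eq_top_iff]
      intro v _
      have h8 : v ∈ W.toAddSubgroup := by rw [h7]; trivial
      exact h8
  intro g hg v
  rw [dser_top] at hg
  exact congrArg (fun f : Module.End (ZMod p) V => f v) (hSB (ZMod p) V Y hY φ h6 (by rw [h5]; exact hj) g hg)

theorem cop_le (hSB : Lin.SB n k) {R A : Subgroup Y} [R.Normal] (hR : IsPGroup r R) (hf : (frattini R).index ≤ r ^ n)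
    (hA : (Nat.card A).Coprime r) (hAk : A ≤ derivedSeries Y k) : A ≤ centralizer (R : Set Y) := by
  have := phi_normal R
  have h0 : (phi R).relIndex R = (frattini R).index := by
    rw [relIndex, phi, subgroupOf, comap_map_eq_self_of_injective R.subtype_injective]
  refine cent_of_comm hR hA (comm_le_of_chief hR hA ?_ _ R inferInstance (phi_le R) le_rfl le_rfl)
  intro C T _ _ hFC hCT hTR hmin
  have hcomm : ⁅T, T⁆ ≤ C := ((commutator_mono hTR hTR).trans (comm_le_phi hR)).trans hFC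
  obtain ⟨j, hj⟩ := relIndex_pow (C := C) (hR.to_le hTR)
  have hjn : j ≤ n := by
    rw [← Nat.pow_le_pow_iff_right hr.out.one_lt, ← hj]
    refine le_trans ?_ (h0.le.trans hf)
    exact (relIndex_le_of_le_left hFC index_ne_zero_of_finite).trans
      (relIndex_le_of_le_right hTR index_ne_zero_of_finite)
  obtain ⟨V, j1, j2, j3, hirr, hc, hV⟩ := exists_mod C T hCT hmin hcomm
  refine le_trans ?_ ((DL.iff_le hV).1 (dl_of_sb hSB hirr (hc.trans hj) hjn))
  rwa [dser_top]

theorem core (hSB : Lin.SB n k) {R : Subgroup Y} [R.Normal] (hR : IsPGroup r R) (hf : (frattini R).index ≤ r ^ n)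
    (hQ : ∀ Q : Subgroup Y, IsPGroup r Q → Q ≤ derivedSeries Y k → dS Q 2 = ⊥) :
    derivedSeries Y (k + 2) ≤ centralizer (R : Set Y) := by
  obtain ⟨Z, hZ⟩ : ∃ Z, Z = derivedSeries Y k := ⟨_, rfl⟩
  obtain ⟨C, hC⟩ : ∃ C, C = centralizer (R : Set Y) := ⟨_, rfl⟩
  have hCn : C.Normal := by rw [hC]; infer_instance
  let P : Sylow r Z := default
  have h1 : Z ≤ (P : Subgroup Z).map Z.subtype ⊔ C := by
    rw [← subgroupOf_eq_top, ← index_eq_one, Nat.eq_one_iff_not_exists_prime_dvd]
    intro s hs hd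
    have : Fact s.Prime := ⟨hs⟩
    by_cases hsr : s = r
    · subst hsr
      refine P.not_dvd_index (hd.trans (index_dvd_of_le fun x hx => ?_))
      exact mem_sup_left ⟨x, hx, rfl⟩
    · let P' : Sylow s Z := default
      have h2 : (P' : Subgroup Z).map Z.subtype ≤ C := by
        rw [hC]
        refine cop_le hSB hR hf ?_ (by rw [← hZ]; exact map_subtype_le _)
        obtain ⟨t, ht⟩ := IsPGroup.iff_card.1 (P'.isPGroup'.map Z.subtype)
        rw [ht]
        exact ((Nat.coprime_primes hs hr.out).2 hsr).pow_left t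
      refine P'.not_dvd_index (hd.trans (index_dvd_of_le fun x hx => ?_))
      exact mem_sup_right (h2 ⟨x, hx, rfl⟩)
  have h2 := hQ _ (P.isPGroup'.map Z.subtype) (by rw [← hZ]; exact map_subtype_le _)
  rw [← hC, ← dS_top, ← dS_add, dS_top, ← hZ, ← QuotientGroup.ker_mk' C, ← Subgroup.map_eq_bot_iff, dS_map, eq_bot_iff,
    ← Subgroup.map_bot (QuotientGroup.mk' C), ← h2, dS_map]
  refine dS_mono ((map_mono h1).trans ?_) 2
  rw [Subgroup.map_sup, (Subgroup.map_eq_bot_iff C).2 (QuotientGroup.ker_mk' C).ge, sup_bot_eq]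

end Core

/-- the normal `r`-subgroups in `D` -/
theorem cent_of_sm {X : Type} [Group X] [Finite X] {n k r : ℕ} (hr : r.Prime) (hSB : Lin.SB (n + 1) k)
    {D R Y : Subgroup X} (hD : derivedSeries X k ≤ D) (hS : Sm D r n) [R.Normal] (hR : IsPGroup r R) (hRD : R ≤ D)
    (hY : Group.IsSolvable Y) : dS Y (k + 2) ≤ centralizer (R : Set X) := by
  have : Fact r.Prime := ⟨hr⟩
  have h0 : Group.IsNilpotent R := hR.isNilpotent
  have h1 : Group.IsSolvable (R ⊔ Y : Subgroup X) := Cfsg.Agent.H577.solvable_sup R Y inferInstance hY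
  have h2 : IsPGroup r (R.subgroupOf (R ⊔ Y)) := hR.comap_subtype
  have hT : ∀ Q : Subgroup (R ⊔ Y : Subgroup X), IsPGroup r Q → (∀ x ∈ Q, (x : X) ∈ D) → Tw Q r n := by
    intro Q hQ hQD
    refine hS Q hQ (((R ⊔ Y).subtype.comp Q.subtype).codRestrict D fun x => hQD x x.2) fun x y hxy => ?_
    exact Subtype.ext (Subtype.ext (congrArg (fun z : D => (z : X)) hxy))
  have h3 := core hSB h2 ((hT _ h2 fun x hx => hRD hx).frat h2) fun Q hQ hQk => by
    rw [← Cl.map_derivedSeries_eq, (hT Q hQ fun x hx => hD (map_derivedSeries_le (R ⊔ Y).subtype k ⟨x, hQk hx, rfl⟩)).two hQ,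
      Subgroup.map_bot]
  refine (dS_mono (le_sup_right : Y ≤ R ⊔ Y) (k + 2)).trans ?_
  rw [← Cl.map_derivedSeries_eq]
  rintro _ ⟨y, hy, rfl⟩
  rw [mem_centralizer_iff]
  intro x hx
  exact congrArg Subtype.val (mem_centralizer_iff.1 (h3 hy) ⟨x, mem_sup_left hx⟩ hx)

/-- **The general statement.** -/
theorem ps_nine (hSB : Lin.SB 5 6) (big : Big) {G : Type} [Group G] [Finite G] {S H : Subgroup G} (hs : Setup S H)
    (p : ℕ) (hp : ∀ Q : Subgroup G, Q ≤ S → IsPGroup p Q → H ≤ normalizer (Q : Set G) → Q = ⊥)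
    (hS : ∀ r : ℕ, r.Prime → r ≠ p → Sm S r 4) (hrk : ∀ r : ℕ, r.Prime → r ≠ p → RankLe S r 15) : PS 9 H := by
  have := hs.normal
  have := hs.simple
  have h3 : derivedSeries H 3 ≤ S.subgroupOf H := fun x hx =>
    derivedSeries_le_of_ds hs.cent (big.sch S hs.noncomm) (map_derivedSeries_le H.subtype 3 ⟨x, hx, rfl⟩)
  have key : ∀ r : ℕ, r.Prime → ∀ R : Subgroup H, R.Normal → R ≤ S.subgroupOf H → IsPGroup r R →
      ∀ Y : Subgroup H, Group.IsSolvable Y → dS Y 8 ≤ centralizer (R : Set H) := by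
    intro r hr R hRn hRS hRp Y hY
    by_cases hrp : r = p
    · subst hrp
      have h1 := hp (R.map H.subtype) (by rintro _ ⟨x, hx, rfl⟩; exact hRS hx) (hRp.map _)
        (le_normalizer_of_conj (by
          rintro g hg _ ⟨x, hx, rfl⟩
          exact ⟨_, hRn.conj_mem x hx ⟨g, hg⟩, rfl⟩))
      rw [Subgroup.map_eq_bot_iff_of_injective _ H.subtype_injective] at h1
      intro y _
      rw [mem_centralizer_iff]
      intro x hx
      rw [h1] at hx
      rw [mem_bot.1 hx, one_mul, mul_one]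
    · refine cent_of_sm hr hSB ((derivedSeries_antitone H (by norm_num)).trans h3) ((hS r hr hrp).of_inj
        ((H.subtype.comp (S.subgroupOf H).subtype).codRestrict S fun x => x.2) fun x y hxy => ?_) hRp hRS hY
      exact Subtype.ext (Subtype.ext (congrArg (fun z : S => (z : G)) hxy))
  let ι := {R : Subgroup H // R.Normal ∧ R ≤ S.subgroupOf H ∧ ∃ r : ℕ, r.Prime ∧ IsPGroup r R}
  have hn : (⨅ R : ι, centralizer (R.1 : Set H)).Normal := Subgroup.normal_iInf_normal fun R => by
    have := R.2.1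
    infer_instance
  refine ps_fit big (S.subgroupOf H ⊓ ⨅ R : ι, centralizer (R.1 : Set H)) (a := 8) (c := 5) le_rfl
    (fun Y hY => le_inf ?_ (le_iInf ?_)) (fun r hr R hRn hRS hRp => ⟨fun x hx y hy => ?_, ?_⟩)
    fun U _ _ _ hU k N hN f hf hker => ?_
  · refine (dS_anti Y (show 3 ≤ 8 by norm_num)).trans ((dS_mono le_top 3).trans ?_)
    rwa [dS_top]
  · rintro ⟨R, h1, h2, r, hr, h4⟩
    exact key r hr R h1 h2 h4 Y hY
  · exact mem_centralizer_iff.1 (mem_iInf.1 (hRS hy).2 ⟨R, hRn, hRS.trans inf_le_left, r, hr, hRp⟩) x hx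
  · exact key r hr R hRn (hRS.trans inf_le_left) hRp
  · obtain ⟨r, hr, hrp, hd⟩ := exists_prime_ne hU p
    let g : N →* S := (H.subtype.comp N.subtype).codRestrict S fun x => (hN x.2).1
    have hg : Function.Injective g := fun x y hxy =>
      Subtype.ext (Subtype.ext (congrArg (fun z : S => (z : G)) hxy))
    have h1 := le_of_rankLe (ps_zero_of_simple hU) hr hd f hf hker ((hrk r hr hrp).of_inj g hg)
    exact sd_perm_fifteen (by simpa using h1)

end Cfsg.Agent.DS.TF
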