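import Mathlib
import Cfsg.Agent.H759.TwF.Main
import Cfsg.Agent.H42.Tw.F4Asm
import Cfsg.Agent.S1068
import Cfsg.Agent.DS.Ex.Rank
import Cfsg.Agent.DS.Lin.Main
import Cfsg.Agent.DS.Ex.TFGen

/-!
# DS: the row `²F₄(q)`, no non-trivial 2-subgroup normalized (helper2)
-/

set_option autoImplicit false
set_option linter.unusedSectionVars false

namespace Cfsg.Agent.DS.TF

open Cfsg.Agent.H936 Cfsg.Agent.DS.NT

universe u

section Tor

open CoxeterSystem Cfsg Cfsg.Lie Cfsg.Lie.ChevalleyDatum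
open Cfsg.Agent.ChevalleyStructure Cfsg.Agent.ChevalleyStructure.Elts Cfsg.Agent.ChevalleyStructure.CoxeterGeom
  Cfsg.Agent.ChevalleyStructure.CoxeterGeomTypes Cfsg.Agent.ChevalleyStructure.NPerm
  Cfsg.Agent.ChevalleyStructure.RootVec
open Cfsg.Agent.Tits.Roots Cfsg.Agent.Tits.Core Cfsg.Agent.Nodes Cfsg.Agent.Nodes.Reps Cfsg.Agent.Nodes.BNOf
  Cfsg.Agent.Nodes.RGDChev
open Cfsg.Agent.KFacts.RgdField Cfsg.Agent.KFacts.RgdChevCoord Cfsg.Agent.BpExc.TorCent Cfsg.Agent.BpExc.TorChev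
open Cfsg.Agent.GpExc.Field Cfsg.Agent.BpExc.Tow Cfsg.Agent.BpExc.TowChev
  Cfsg.Agent.BpExc.LangFr Cfsg.Agent.BpExc Cfsg.Agent.H129.TorusChar Cfsg.Agent.H129.TorusUntw
open Cfsg.Agent.H493.F4End Cfsg.Agent.H493.F4Tor Cfsg.Agent.H129.WData
open Cfsg.Agent.H630.NH Cfsg.Agent.H630.Exc Cfsg.Agent.H759.TwF

variable {K : Type u} [Field K] [Fintype K] {m : ℕ} (hK : Fintype.card K = 2 ^ (2 * m + 1))

include hK

/-- the torus of order `(q + 1) ^ 2` -/
theorem torus : ∃ T : Subgroup ↥(twistedF4 K (2 ^ m)), (∀ x ∈ T, ∀ y ∈ T, x * y = y * x) ∧ RankLe T 3 4 ∧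
    (2 ^ (2 * m + 1) + 1) ^ 2 ∣ Nat.card T := by
  classical
  have : Fact (Nat.Prime 2) := ⟨Nat.prime_two⟩
  have hc2 : CharP K 2 := F4Fixed.charP_two hK
  obtain ⟨p, e, hpF, hpc, hpk, he, hpe, hk⟩ := exists_closure hK
  have hp2 : p = 2 := CharP.eq K hpc hc2
  subst hp2
  let k := AlgebraicClosure K
  let f : K →+* k := algebraMap K k
  let cs := CoxeterMatrix.F₄.toCoxeterSystem
  have hW : Finite CoxeterMatrix.F₄.Group := H493.PGF4.finW
  have hN : NSys CoxeterMatrix.F₄ (TT chevF4 k) (nc hp k) := nsys_of_locFin hp cs hk 2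
  obtain ⟨n, hn⟩ := exists_rp cs hN (TD.w cs tdB)
  obtain ⟨z, hz⟩ := H493.F4Lang.lang_ste m n
  have hodd := odd_NN (2 ^ m) 1
  obtain ⟨N, hN'⟩ : ∃ N : ℕ, N = 2 ^ (2 * m + 1) + 1 := ⟨_, rfl⟩
  have hNe : pe (2 ^ m) (H759.TwF.NN 1) = (N : ℤ) := by
    rw [hN']
    change (1 : ℤ) + 2 ^ m * (0 + 2 ^ m * (2 + 2 ^ m * 0)) = _
    push_cast
    ring
  have hNk : (N : k) ≠ 0 := odd_cast hNe
  have ha : H759.TwF.NN 1 = tdB.N := rfl
  have hd := okT_B
  rw [ha] at hNe hodd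
  have key : ∀ {c : Fin 4 → P} {U : Fin 4} {v : P} {κ E : ℕ}, OkO tdB c U v κ E →
      IsCoprime (N : ℤ) (Lc (2 ^ m) tdB.Q c (sr U)) := by
    intro c U v κ E hO
    have h1 := pe_of_peq (2 ^ m) hO
    rw [pe_pa, pe_pm, pe_p4, pe_pmo] at h1
    rw [← hNe]
    refine coprime_pow (m := m) hodd (v := pe (2 ^ m) v) (k := κ) (E := E) ?_
    rw [Lc_apply, ← h1]
    simp only [Mh_sr, pe_pm]
  refine ⟨tX chevF4 k (eF m f) z, fun x hx y hy => tX_comm hp (eF_injective f) z hx hy, fun B _ hB => ?_, ?_⟩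
  · have hi : Function.Injective ((eF m f).comp (tX chevF4 k (eF m f) z).subtype) :=
      (eF_injective f).comp (Subgroup.subtype_injective _)
    rw [Nat.card_congr (B.equivMapOfInjective _ hi).toEquiv]
    refine Rank.card_toral_le hp (by norm_num) _ z⁻¹ ?_ ?_
    · rintro _ ⟨x, -, rfl⟩
      rw [inv_inv]
      exact mem_tX.1 x.2
    · rintro _ ⟨x, hx, rfl⟩
      rw [← map_pow, hB x hx, map_one]
  have h0 : Lc (2 ^ m) tdB.Q ![[1], [], [], []] (sr 1) = 0 := by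
    have h1 := pe_of_peq (2 ^ m) okZ_B
    rw [pe_p4, pe] at h1
    rw [Lc_apply, ← h1]
    simp only [Mh_sr, pe_pm]
  rw [← hN']
  exact dvd_card_two hK f hk cs hn hz hNk (L := Lc (2 ^ m) tdB.Q ![[], [1], [], []])
    (L' := Lc (2 ^ m) tdB.Q ![[1], [], [], []]) (U := sr 1)
    (U' := sr 2) (fun x => by rw [← hNe]; exact Lc_adapted cs hd.1 hd.2.1 _ _ x)
    (fun x => by rw [← hNe]; exact Lc_adapted cs hd.1 hd.2.1 _ _ x) (key okO_B) (key okO2_B)
    (by rw [h0]; exact dvd_zero _)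

end Tor

theorem mod_nine (m : ℕ) : 2 ^ (2 * m + 1) % 9 = 2 ∨ 2 ^ (2 * m + 1) % 9 = 8 ∨ 2 ^ (2 * m + 1) % 9 = 5 := by
  induction m with
  | zero => norm_num
  | succ m ih =>
    rw [show 2 * (m + 1) + 1 = 2 * m + 1 + 2 by ring, pow_add]
    omega

theorem arith {q : ℕ} (hq : q % 9 = 2 ∨ q % 9 = 8 ∨ q % 9 = 5) :
    ∃ c : ℕ, ¬ 9 ∣ c ∧ q ^ 12 * (q - 1) * (q ^ 3 + 1) * (q ^ 4 - 1) * (q ^ 6 + 1) = (q + 1) ^ 2 * c := by
  obtain ⟨t, rfl⟩ : ∃ t, q = t + 1 := ⟨q - 1, by omega⟩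
  have e1 : (t + 1) ^ 4 - 1 = (t + 2) * (t * ((t + 1) ^ 2 + 1)) := by
    rw [Nat.sub_eq_iff_eq_add (Nat.one_le_pow 4 (t + 1) (by omega))]
    ring
  refine ⟨(t + 1) ^ 12 * t * (t ^ 2 + t + 1) * (t * ((t + 1) ^ 2 + 1)) * ((t + 1) ^ 6 + 1), fun h => ?_, ?_⟩
  · have h1 : t % 9 = 1 ∨ t % 9 = 7 ∨ t % 9 = 4 := by omega
    rw [Nat.dvd_iff_mod_eq_zero] at h
    rcases h1 with h1 | h1 | h1 <;>
      simp [Nat.mul_mod, Nat.add_mod, Nat.pow_mod, h1] at h
  · rw [e1, Nat.add_sub_cancel]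
    ring

open Subgroup in
/-- a subgroup whose index is not divisible by `r ^ 2` -/
theorem sm_of_index {X : Type*} [Group X] [Finite X] {r m : ℕ} (hr : r.Prime) {T : Subgroup X}
    (hc : ∀ x ∈ T, ∀ y ∈ T, x * y = y * x) (hrk : RankLe T r m) (hi : ¬ r ^ 2 ∣ T.index) : Sm X r m := by
  have : Fact r.Prime := ⟨hr⟩
  intro Q _ _ hQ f hf
  let P₀ : Sylow r T := default
  obtain ⟨P, hP⟩ := (P₀.isPGroup'.map T.subtype).exists_le_sylow
  obtain ⟨P', hP'⟩ := (hQ.of_surjective f.rangeRestrict f.rangeRestrict_surjective).exists_le_sylow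
  obtain ⟨g, hg⟩ := MulAction.exists_smul_eq X P' P
  let f' : Q →* X := (MulAut.conj g).toMonoidHom.comp f
  have hf' : Function.Injective f' := (MulAut.conj g).injective.comp hf
  have h1 : f'.range ≤ P := by
    rintro _ ⟨x, rfl⟩
    rw [← hg, Sylow.coe_subgroup_smul]
    exact Subgroup.smul_mem_pointwise_smul _ (MulAut.conj g) _ (hP' ⟨x, rfl⟩)
  have h2 : T.relIndex P ≤ r := by
    obtain ⟨j, hj⟩ := P.isPGroup'.index (T.subgroupOf P)
    have h3 : T.relIndex P = r ^ j := hj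
    have h4 : (P₀ : Subgroup T).map T.subtype ≤ T ⊓ P := le_inf (map_subtype_le _) hP
    have h5 : ¬ r ∣ (T ⊓ P).relIndex T := by
      intro h
      refine P₀.not_dvd_index (h.trans ?_)
      refine index_dvd_of_le fun x hx => h4 ⟨x, hx, rfl⟩
    have h6 := relIndex_mul_index (show T ⊓ (P : Subgroup X) ≤ T from inf_le_left)
    rw [← relIndex_mul_index (show T ⊓ (P : Subgroup X) ≤ P from inf_le_right), inf_relIndex_right, h3] at h6
    have h7 : r ^ j ∣ T.index :=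
      (Nat.Coprime.pow_left j ((Nat.Prime.coprime_iff_not_dvd hr).2 h5)).dvd_of_dvd_mul_left
        (by rw [h6]; exact dvd_mul_right _ _)
    have h8 : j ≤ 1 := by
      by_contra h
      exact hi ((pow_dvd_pow r (by omega)).trans h7)
    rw [h3]
    exact (Nat.pow_le_pow_right hr.pos h8).trans (pow_one r).le
  refine ⟨T.comap f', fun x hx y hy => hf' (by rw [map_mul, map_mul]; exact hc _ hx _ hy), ?_, ?_⟩
  · exact hrk.of_inj (f'.subgroupComap T) fun x y hxy => Subtype.ext (hf' (congrArg Subtype.val hxy))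
  · rw [index_comap]
    exact (relIndex_le_of_le_right h1 index_ne_zero_of_finite).trans h2

section Row

open Cfsg.Lie

variable {K : Type} [Field K] [Fintype K] {m : ℕ} (hK : Fintype.card K = 2 ^ (2 * m + 1))

include hK

theorem sm_twistedF4 {r : ℕ} (hr : r.Prime) (h2 : r ≠ 2) : Sm ↥(twistedF4 K (2 ^ m)) r 4 := by
  have hc2 : CharP K 2 := Cfsg.Agent.ChevalleyStructure.F4Fixed.charP_two hK
  by_cases h3 : r = 3
  · subst h3
    obtain ⟨T, hc, hrk, d, hd⟩ := torus hK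
    obtain ⟨c, h9, hc'⟩ := arith (mod_nine m)
    have h1 := S1068.result hK
    have hfin : Finite ↥(twistedF4 K (2 ^ m)) := inferInstance
    refine sm_of_index hr hc hrk fun h => h9 ?_
    rw [hc', ← T.card_mul_index, hd, mul_assoc] at h1
    have h4 := Nat.eq_of_mul_eq_mul_left (by positivity) h1
    rw [← h4]
    exact Dvd.dvd.mul_left h d
  · have : Fact r.Prime := ⟨hr⟩
    have h5 : 5 ≤ r := hr.five_le_of_ne_two_of_ne_three h2 h3
    intro Q _ _ hQ f hf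
    have h1 := Cfsg.Agent.H42.Tw.abelian_twF4 h5 (hQ.of_surjective f.rangeRestrict f.rangeRestrict_surjective)
    have h4 : RankLe ↥(twistedF4 K (2 ^ m)) r 4 := by
      refine Rank.rank_gen Rank.tF4.inList (Rank.rank_chev Rank.tF4 (e := 0) hr h2 ?_) _
      rw [Rank.wF4, zero_add, pow_one]
      intro h
      rcases (Nat.Prime.dvd_mul hr (m := 2 ^ 7) (n := 3 ^ 2)).1 h with h6 | h6
      · exact h2 ((Nat.prime_dvd_prime_iff_eq hr Nat.prime_two).1 (hr.dvd_of_dvd_pow h6))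
      · exact h3 ((Nat.prime_dvd_prime_iff_eq hr Nat.prime_three).1 (hr.dvd_of_dvd_pow h6))
    refine ⟨⊤, fun x _ y _ => hf ?_, h4.of_inj (f.comp (⊤ : Subgroup Q).subtype) (hf.comp (Subgroup.subtype_injective _)),
      by rw [Subgroup.index_top]; exact hr.one_le⟩
    rw [map_mul, map_mul]
    exact congrArg Subtype.val (h1.is_comm.comm (⟨f x, x, rfl⟩ : f.range) ⟨f y, y, rfl⟩)

end Row

/-- **`²F₄(q)`: `H` normalizes no non-trivial 2-subgroup of `S`.** -/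
theorem odd_2F4 (big : Big) {G : Type} [Group G] [Finite G] {S H : Subgroup G} (hs : Setup S H)
    (hS : Lie.Iso2F4 S) (h2 : ∀ Q : Subgroup G, Q ≤ S → IsPGroup 2 Q → H ≤ Subgroup.normalizer (Q : Set G) → Q = ⊥) :
    PS 9 H := by
  obtain ⟨K, _, _, m, -, hK, ⟨e⟩⟩ := hS
  have hc2 : CharP K 2 := Cfsg.Agent.ChevalleyStructure.F4Fixed.charP_two hK
  refine ps_nine ((Lin.sb (n := 5) (by norm_num)).mono le_rfl (by decide)) big hs 2 h2 (fun r hr hr2 => (sm_twistedF4 hK hr hr2).of_inj e.toMonoidHom e.injective)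
    fun r hr hr2 => ?_
  exact (Rank.rankLe_mono hr.pos (Rank.rk_2F4 hr hr2 _) (by norm_num)).of_inj e.toMonoidHom e.injective

/-- the parabolic case -/
def Par2F4 : Prop :=
  ∀ (G : Type) [Group G] [Finite G] (S H Q : Subgroup G), Setup S H → Lie.Iso2F4 S → Q ≤ S → IsPGroup 2 Q → Q ≠ ⊥ →
    H ≤ Subgroup.normalizer (Q : Set G) → PS 9 H

theorem box2F4_of (hP : Par2F4) : Box2F4 := by
  intro big G _ _ S H E r hL hS
  by_cases h : ∀ Q : Subgroup G, Q ≤ S → IsPGroup 2 Q → H ≤ Subgroup.normalizer (Q : Set G) → Q = ⊥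
  · exact odd_2F4 big hL.toSetup hS h
  · push Not at h
    obtain ⟨Q, h1, h2, h3, h4⟩ := h
    exact hP G S H Q hL.toSetup hS h1 h2 h4 h3

end Cfsg.Agent.DS.TF
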