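import Cfsg.Agent.DS.Ex.ExtU
import Cfsg.Agent.DS.Ex.ExtE6
import Cfsg.Agent.DS.Ex.ParInst
import Cfsg.Agent.DS.Ex.ParTw
import Cfsg.Agent.DS.Ex.TFInst

/-!
# S5881: the exceptional rows from the toral and the non-toral boxes (helper55)

* `box2F4 : Box2F4`;
* `HasExtP` : `HasExt` with the characteristic made explicit (proofs of helper56 and helper12);
* `boxF4_of2`, `boxE6_of2`, `boxE7_of2`, `boxE8_of2`, `box2E6_of2` : from `BoxTor` and `BoxNonTor`.
-/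

set_option autoImplicit false
set_option linter.unusedSectionVars false

namespace Cfsg.Agent.DS.Par

open CoxeterSystem Cfsg Cfsg.Lie Cfsg.Lie.ChevalleyDatum
open Cfsg.Agent.ChevalleyStructure Cfsg.Agent.ChevalleyStructure.Elts Cfsg.Agent.ChevalleyStructure.CoxeterGeom
  Cfsg.Agent.ChevalleyStructure.CoxeterGeomTypes Cfsg.Agent.ChevalleyStructure.NPerm
open Cfsg.Agent.Tits.Roots Cfsg.Agent.Tits.Core Cfsg.Agent.Nodes Cfsg.Agent.Nodes.Reps Cfsg.Agent.Nodes.BNOf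
  Cfsg.Agent.Nodes.OppDec
  Cfsg.Agent.Nodes.RGDChev Cfsg.Agent.Nodes.Bruhat Cfsg.Agent.Nodes.NormalForm
open Cfsg.Agent.KFacts.RgdField Cfsg.Agent.KFacts.RgdChevCoord
open Cfsg.Agent.BpExc Cfsg.Agent.BpExc.FamField Cfsg.Agent.BpExc.TorCent Cfsg.Agent.BpExc.TorChev Cfsg.Agent.BpExc.Tow
  Cfsg.Agent.BpExc.TowChev Cfsg.Agent.BpExc.Fr Cfsg.Agent.BpExc.Pair Cfsg.Agent.BpExc.LangFr Cfsg.Agent.GpExc.Field
  Cfsg.Agent.BpExc.FamExt Cfsg.Agent.BpExc.FamUntw Cfsg.Agent.BpExc.FamInst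
open Cfsg.Agent.H469.Exc Cfsg.Agent.H469.Exc.SigFr
open Cfsg.Agent.ChevalleyStructure.SignedSymm Cfsg.Agent.ChevalleyStructure.GraphSymm
open Cfsg.Agent.H316.U6 Cfsg.Agent.H936 Cfsg.Agent.DS.Ex Cfsg.Agent.DS.Ex.Untw

theorem box2F4 : Box2F4 := by
  intro big G _ _ S H E r hL hS
  by_cases h : ∀ Q : Subgroup G, Q ≤ S → IsPGroup 2 Q → H ≤ Subgroup.normalizer (Q : Set G) → Q = ⊥
  · exact TF.odd_2F4 big hL.toSetup hS h
  · push Not at h
    obtain ⟨Q, h1, h2, h3, h4⟩ := h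
    obtain ⟨K, _, _, m, hm, hK, ⟨e⟩⟩ := hS
    exact par_2F4' big hm hK hL.toSetup e h1 h2 h4 h3

/-- a normalised `p`-subgroup gives the local case for `p` -/
theorem loc_of_pgroup {G : Type} [Group G] [Finite G] {S H Q : Subgroup G} (hs : Setup S H) {p : ℕ} [Fact p.Prime]
    (hQS : Q ≤ S) (hQ : IsPGroup p Q) (hQ1 : Q ≠ ⊥) (hH : H ≤ Subgroup.normalizer (Q : Set G)) :
    ∃ E : Subgroup G, Loc S H E p := by
  have hnt : Nontrivial Q := Q.nontrivial_iff_ne_bot.2 hQ1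
  have h1 := hQ.center_nontrivial
  obtain ⟨E, r, hE, hL⟩ := Gen.exists_loc (A := Q ⊓ Subgroup.centralizer (Q : Set G)) hs (inf_le_left.trans hQS)
    (mem_norm_of fun g hg z hz => ⟨conj_mem_of_norm (hH hg) hz.1, by
      have h2 : z ∈ Subgroup.centralizer (Q : Set G) := hz.2
      show g * z * g⁻¹ ∈ Subgroup.centralizer (Q : Set G)
      rw [Subgroup.mem_centralizer_iff] at h2 ⊢
      intro y hy
      have h3 := h2 _ (conj_mem_of_norm (hH (inv_mem hg)) hy)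
      calc y * (g * z * g⁻¹) = g * (g⁻¹ * y * g⁻¹⁻¹ * z) * g⁻¹ := by group
        _ = _ := by rw [h3]; group⟩)
    (by
      obtain ⟨⟨x, hx⟩, hx1⟩ := exists_ne (1 : Subgroup.center Q)
      intro h
      have h2 : (x : G) ∈ Q ⊓ Subgroup.centralizer (Q : Set G) := ⟨x.2, by
        show (x : G) ∈ Subgroup.centralizer (Q : Set G)
        rw [Subgroup.mem_centralizer_iff]
        intro y hy
        exact congrArg Subtype.val (Subgroup.mem_center_iff.1 hx ⟨y, hy⟩)⟩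
      rw [h, Subgroup.mem_bot] at h2
      exact hx1 (Subtype.ext (Subtype.ext h2)))
    (fun x hx y hy => Subgroup.mem_centralizer_iff.1 hy.2 x hx.1)
  obtain ⟨x, hx, hx1⟩ := E.bot_or_exists_ne_one.resolve_left hL.ne_bot
  obtain ⟨k, hk⟩ := hQ ⟨x, (hE hx).1⟩
  have h2 : orderOf x = r := by
    have := Fact.mk hL.prime
    exact orderOf_eq_prime (hL.pow x hx) hx1
  have h3 : r ∣ p ^ k := h2 ▸ orderOf_dvd_of_pow_eq_one (congrArg Subtype.val hk)
  have h4 : r = p := (Nat.prime_dvd_prime_iff_eq hL.prime Fact.out).1 (hL.prime.dvd_of_dvd_pow h3)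
  exact ⟨E, h4 ▸ hL⟩

variable {D : ChevalleyDatum} {l : ℕ} {M : CoxeterMatrix (Fin l)} {r : ℕ} [hr : Fact r.Prime]

/-- `HasExt` in the characteristic `r` -/
def HasExtP (hp : IsType D l M) (r : ℕ) [Fact r.Prime] (K : Type) [Group K] : Prop :=
  ∃ (q : ℕ) (m : MData hp r q K) (A : Subgroup (MulAut (YY D r))), Ext m A

theorem ps_of_hasExtP (big : Big) (hT : BoxTor) (hN : BoxNonTor) {hp : IsType D l M} (hD : Typ D) {G : Type} [Group G]
    [Finite G] {S H E : Subgroup G} {s : ℕ} (hL : Loc S H E s) {K : Type} [Group K] (f : S ≃* K) (h : HasExtP hp r K)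
    (hP : ∀ E', Loc S H E' r → PS 9 H) : PS 9 H := by
  have hs := hL.toSetup
  obtain ⟨q, m, A, hE⟩ := h
  obtain ⟨L, h1, h2, -⟩ := (hE.congr f).exists_lift hs.normal hs.cent
  by_cases hQ : ∀ Q : Subgroup G, Q ≤ S → IsPGroup r Q → H ≤ Subgroup.normalizer (Q : Set G) → Q = ⊥
  · by_cases hA : ∀ A₀ : Subgroup (YY D r), Toral r A₀ → L.Inv H A₀ → A₀ = ⊥
    · exact hN big D l M hp hD r G S H E s hL q _ A (hE.congr f) L h1 h2 hQ hA
    · push Not at hA
      obtain ⟨A₀, a1, a2, a3⟩ := hA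
      exact hT big D l M hp hD r G S H hs L A₀ a3 a1 a2
  · push Not at hQ
    obtain ⟨Q, a1, a2, a3, a4⟩ := hQ
    obtain ⟨E', hE'⟩ := loc_of_pgroup hs a1 a2 a4 a3
    exact hP E' hE'

theorem hasExtP_untw (hp : IsType D l M) (hD : D ∈ [chevF4, chevE6, chevE7, chevE8]) (F : Type) [Field F] [Fintype F]
    [CharP F r] {d : ℕ} {B : Fin l → Fin l → ℤ} (hB : InvC D l d B) (hB' : H129.TorusChar.InvC D l d B)
    (hd : d = 1 ∨ (D = chevE6 ∧ d = 3) ∨ (D = chevE7 ∧ d = 2)) (γ : MulAut (YY D r))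
    (hc : γ * phi D (KK r) r 1 = phi D (KK r) r 1 * γ) (hw : WFr hp r γ) (hw' : WFr hp r γ⁻¹)
    (hs : (D = chevF4 → r ≠ 2) → SFr hp r γ)
    (hg : ∀ (f : F →+* KK r) (g : MulAut ↥(D.group F)), D.IsGraphAut g →
      g = 1 ∨ ∀ a, emb hp.inList f (g a) = γ (emb hp.inList f a)) : HasExtP hp r ↥(D.group F) := by
  have hd0 : d ≠ 0 := by rcases hd with h | ⟨-, h⟩ | ⟨-, h⟩ <;> omega
  have hd1 : d = 1 ∨ d.Prime := by
    rcases hd with h | ⟨-, h⟩ | ⟨-, h⟩
    · exact Or.inl h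
    · exact Or.inr (h ▸ Nat.prime_three)
    · exact Or.inr (h ▸ Nat.prime_two)
  obtain ⟨m, hdd, f, n, hσ, hι⟩ := mdata_untw2 (r := r) hp F hB' hd0 hd1
  let A := Subgroup.closure {phi D (KK r) r 1, γ}
  have hphi : ∀ j, phi D (KK r) r j ∈ A := fun j => by
    have h1 := phi_pow (D := D) (k := KK r) r 1 j
    rw [one_mul] at h1
    rw [← h1]
    exact pow_mem (Subgroup.subset_closure (by simp)) j
  have hγ : γ ∈ A := Subgroup.subset_closure (by simp)
  refine ⟨_, m, A, ⟨hσ ▸ hphi n, ?_, ?_, ?_, ?_, ?_, ?_⟩⟩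
  · have h1 : A ≤ Subgroup.centralizer (A : Set (MulAut (YY D r))) := by
      rw [Subgroup.closure_le, Subgroup.centralizer_closure]
      rintro x (rfl | rfl) y (rfl | rfl)
      · rfl
      · exact hc
      · exact hc.symm
      · rfl
    exact fun β hβ β' hβ' => h1 hβ' β hβ
  · have h1 : A ≤ WF hp r := by
      rw [Subgroup.closure_le]
      rintro x (rfl | rfl)
      · exact ⟨sfr_wfr (sfr_phi hp 1), sfr_wfr (sfr_inv (sfr_phi hp 1))⟩
      · exact ⟨hw, hw'⟩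
    exact fun β hβ => (h1 hβ).1
  · intro h
    have h1 : A ≤ SF hp r := by
      rw [Subgroup.closure_le]
      rintro x (rfl | rfl)
      · exact sfr_phi hp 1
      · exact hs h
    exact fun β hβ => h1 hβ
  · intro α
    obtain ⟨x, δ, g, φ, h1, h2, h3, h4⟩ := H79.Steinberg.exists_fac hp.inList α
    obtain ⟨τ, rfl⟩ := H296.ESixGF.eq_fld hp h3
    obtain ⟨j, hj⟩ := exists_pow_eq r τ
    obtain ⟨t, -, ht⟩ := H296.Core.diag_ext hp f hB hd0
      (fun c _ => IsAlgClosed.exists_pow_nat_eq (f c) (Nat.pos_of_ne_zero hd0)) h1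
    have h5 : ∀ a, emb hp.inList f (CpAut.RgdUntw.fld D τ a) = phi D (KK r) r j (emb hp.inList f a) := fun a =>
      (FamExt.fld_emb hp f (fun a => by rw [frb_apply, hj, map_pow]) a).symm
    rw [hι]
    rcases hg f g h2 with h6 | h6
    · refine ⟨emb hp.inList f x * t, _, hphi j, fun a => ?_⟩
      rw [h4, map_mul, map_mul, map_inv, ht, h6, MulAut.one_apply, h5]
      group
    · refine ⟨emb hp.inList f x * t, _, mul_mem hγ (hphi j), fun a => ?_⟩
      rw [h4, map_mul, map_mul, map_inv, ht, h6, h5, MulAut.mul_apply]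
      group
  · rw [hι]
    exact fun y hy => eq_one_of_comm hp (locFin r) r f (center_YY hD) hy
  · rw [hdd]
    rcases hd with h | ⟨h, h'⟩ | ⟨h, h'⟩
    · exact Or.inl (by rw [h, Nat.gcd_one_left])
    · subst h'
      rcases (Nat.dvd_prime Nat.prime_three).1 (Nat.gcd_dvd_left 3 (Fintype.card F - 1)) with h1 | h1
      · exact Or.inl h1
      · exact Or.inr (Or.inl ⟨h, h1⟩)
    · subst h'
      rcases (Nat.dvd_prime Nat.prime_two).1 (Nat.gcd_dvd_left 2 (Fintype.card F - 1)) with h1 | h1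
      · exact Or.inl h1
      · exact Or.inr (Or.inr ⟨h, h1⟩)

theorem hasExtP_of_nograph (hp : IsType D l M) (hD : D ∈ [chevF4, chevE6, chevE7, chevE8]) (F : Type) [Field F]
    [Fintype F] [CharP F r] {d : ℕ} {B : Fin l → Fin l → ℤ} (hB : InvC D l d B) (hB' : H129.TorusChar.InvC D l d B)
    (hd : d = 1 ∨ (D = chevE6 ∧ d = 3) ∨ (D = chevE7 ∧ d = 2))
    (hg : ∀ g : MulAut ↥(D.group F), D.IsGraphAut g → g = 1) : HasExtP hp r ↥(D.group F) :=
  hasExtP_untw (r := r) hp hD F hB hB' hd 1 (by rw [one_mul, mul_one]) (sfr_wfr (sfr_one hp))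
    (by rw [inv_one]; exact sfr_wfr (sfr_one hp)) (fun _ => sfr_one hp) fun _ g h => Or.inl (hg g h)

open Cfsg.Agent.H296.FFour in
theorem extP_F4 (F : Type) [Field F] [Fintype F] [CharP F r] : HasExtP hpF4 r ↥(chevF4.group F) := by
  by_cases h2 : r = 2
  · subst h2
    have : ExpChar F 2 := ExpChar.prime Nat.prime_two
    have : PerfectRing F 2 := PerfectRing.ofFiniteOfIsReduced 2 F
    have h1 : ∀ a < chevF4.nroots, ∃ s, Act hpF4.inList (al (KK 2)) a s := fun a ha => ⟨_, act_al ha⟩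
    have h3 : ∀ s < chevF4.nroots, ∃ a, Act hpF4.inList (al (KK 2)) a s := fun s hs => ⟨br s, by
      have h4 := act_al (tab s hs).1
      rwa [(tab s hs).2.1] at h4⟩
    refine hasExtP_untw (r := 2) hpF4 (by simp) F FamInst.inv_F4 FamInst.inv_F4 (Or.inl rfl) (al (KK 2)) (al_mul_fld _)
      (wfr_of_act hpF4 h1 h3) (wfr_of_act hpF4 (fun a ha => (h3 a ha).imp fun _ h => h.inv)
        fun a ha => (h1 a ha).imp fun _ h => h.inv) (fun h => absurd rfl (h rfl)) fun f g hg => ?_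
    by_cases hg1 : g = 1
    · exact Or.inl hg1
    · rw [eq_al hg hg1]
      exact Or.inr fun a => ((gam_F4 f).nat a).symm
  · exact hasExtP_of_nograph (r := r) hpF4 (by simp) F FamInst.inv_F4 FamInst.inv_F4 (Or.inl rfl) fun g => graph_F4 h2

theorem extP_E7 (F : Type) [Field F] [Fintype F] [CharP F r] : HasExtP hpE7 r ↥(chevE7.group F) :=
  hasExtP_of_nograph (r := r) hpE7 (by simp) F inv_E7 inv_E7 (Or.inr (Or.inr ⟨rfl, rfl⟩))
    fun g => eq_one_of_symm hpE7.inList fun _ => H79.DiagSymm.eq_one_E7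

theorem extP_E8 (F : Type) [Field F] [Fintype F] [CharP F r] : HasExtP hpE8 r ↥(chevE8.group F) :=
  hasExtP_of_nograph (r := r) hpE8 (by simp) F inv_E8 inv_E8 (Or.inl rfl)
    fun g => eq_one_of_symm hpE8.inList fun _ => H79.DiagSymm.eq_one_E8

open Cfsg.Agent.DS.Ex.Six in
theorem extP_E6 (F : Type) [Field F] [Fintype F] [CharP F r] : HasExtP hpE6 r ↥(chevE6.group F) := by
  obtain ⟨f⟩ := RowsUntw.exists_emb r F
  obtain ⟨n, hn0, hn⟩ := exists_card (F := F) r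
  obtain ⟨m, h1, h2, -, h4⟩ := H28.GenF.mdata_std' (r := r) hpE6 F H129.TorusChar.invC_E6 three_ne_zero
    (Or.inr Nat.prime_three) f hn0 hn
  refine ⟨_, m, AA r, ?_, AA_comm r, fun β hβ => AA_wfr r hβ, fun _ β hβ => AA_sfr r hβ, ?_, ?_, ?_⟩
  · rw [h2]
    exact phi_mem r n
  · rw [h1]
    exact ext_untw r f
  · rw [h1]
    exact fun y hy => FamUntw.eq_one_of_comm hpE6 (locFin r) r f (center_six _) hy
  · rw [h4]
    rcases gcd_three (Fintype.card F - 1) with h | h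
    · exact Or.inl h
    · exact Or.inr (Or.inl ⟨rfl, h⟩)

open Cfsg.Agent.DS.Ex.Six in
theorem extP_2E6 (K : Type) [Field K] [Fintype K] [CharP K r] {q : ℕ} (hq : IsPrimePow q)
    (hK : Fintype.card K = q ^ 2) : HasExtP hpE6 r ↥(twistedE6 K q) := by
  obtain ⟨f⟩ := RowsUntw.exists_emb r K
  obtain ⟨n, hn0, hn⟩ := exists_eq_pow (r := r) hq hK
  obtain ⟨φ, hφ, hqq⟩ := TwE6Basic.exists_frob hq hK
  obtain ⟨m, h1, h2, h4⟩ := mdata_tw r hq hK f hn0 hn
  refine ⟨_, m, AA r, ?_, AA_comm r, fun β hβ => AA_wfr r hβ, fun _ β hβ => AA_sfr r hβ, ?_, ?_, ?_⟩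
  · rw [h2]
    exact mul_mem (gr_mem r) (phi_mem r n)
  · rw [h1]
    intro α
    have hW : Finite CoxeterMatrix.F₄.Group := RGDChev.finite_W hpF4 CoxeterMatrix.F₄.toCoxeterSystem
    have hΦ : ∀ a, frb (KK r) r n (f a) = f (φ a) := by
      intro a
      rw [frb_apply, hφ, map_pow, hn]
    obtain ⟨a, τ, y, -, -, hy⟩ := FamTw.Six.exists_lift hφ hqq CoxeterMatrix.F₄.toCoxeterSystem r f hK hq.one_lt
      (fun a => IsAlgClosed.exists_pow_nat_eq (f a) (by norm_num)) hΦ α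
    obtain ⟨j, hj⟩ := exists_pow_eq r τ
    exact ⟨y, _, phi_mem r j, fun x => by rw [hy, H522.FamTw.Six.em_st f r hj]⟩
  · rw [h1]
    exact fun y hy => H522.FamTw.Six.eq_one_of_comm hφ hqq f y hy
  · rw [h4]
    rcases gcd_three (q + 1) with h | h
    · exact Or.inl h
    · exact Or.inr (Or.inl ⟨rfl, h⟩)

theorem boxF4_of2 (hT : BoxTor) (hN : BoxNonTor) : BoxF4 := by
  rintro big G _ _ S H E s hL ⟨F, _, _, ⟨f⟩⟩
  obtain ⟨p, _⟩ := CharP.exists F
  have : Fact p.Prime := ⟨CharP.char_is_prime F p⟩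
  exact ps_of_hasExtP big hT hN (Or.inl rfl) hL f (extP_F4 (r := p) F) fun E' h => par_F4 h f

theorem boxE6_of2 (hT : BoxTor) (hN : BoxNonTor) : BoxE6 := by
  rintro big G _ _ S H E s hL ⟨F, _, _, ⟨f⟩⟩
  obtain ⟨p, _⟩ := CharP.exists F
  have : Fact p.Prime := ⟨CharP.char_is_prime F p⟩
  exact ps_of_hasExtP big hT hN (Or.inr (Or.inl rfl)) hL f (extP_E6 (r := p) F) fun E' h => par_E6 h f

theorem boxE7_of2 (hT : BoxTor) (hN : BoxNonTor) : BoxE7 := by
  rintro big G _ _ S H E s hL ⟨F, _, _, ⟨f⟩⟩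
  obtain ⟨p, _⟩ := CharP.exists F
  have : Fact p.Prime := ⟨CharP.char_is_prime F p⟩
  exact ps_of_hasExtP big hT hN (Or.inr (Or.inr (Or.inl rfl))) hL f (extP_E7 (r := p) F) fun E' h => par_E7 h f

theorem boxE8_of2 (hT : BoxTor) (hN : BoxNonTor) : BoxE8 := by
  rintro big G _ _ S H E s hL ⟨F, _, _, ⟨f⟩⟩
  obtain ⟨p, _⟩ := CharP.exists F
  have : Fact p.Prime := ⟨CharP.char_is_prime F p⟩
  exact ps_of_hasExtP big hT hN (Or.inr (Or.inr (Or.inr rfl))) hL f (extP_E8 (r := p) F) fun E' h => par_E8 h f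

theorem box2E6_of2 (hT : BoxTor) (hN : BoxNonTor) : Box2E6 := by
  rintro big G _ _ S H E s hL ⟨K, _, _, q, hq, hK, ⟨f⟩⟩
  obtain ⟨p, _⟩ := CharP.exists K
  have : Fact p.Prime := ⟨CharP.char_is_prime K p⟩
  exact ps_of_hasExtP big hT hN (Or.inr (Or.inl rfl)) hL f (extP_2E6 (r := p) K hq hK) fun E' h => par_2E6 hq hK h f

end Cfsg.Agent.DS.Par
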