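import Cfsg.Agent.DS.Ex.ParLevi
import Cfsg.Agent.DS.Defs
import Cfsg.Agent.KFacts.RgdVJ
import Cfsg.Agent.KFacts.RgdSyl

/-!
# DS, parabolic case: the theorem for groups with a root group datum (helper55)

* `Mx Γ H` : `H` is maximal in `Γ`, `Inn Y ≤ Γ ≤ Aut Y`;
* `par_aut` : `PS (a + 3 + c) H` if `H` fixes a nontrivial `p`-subgroup;
* `par_loc` : the same for `Loc S H E p`, `S ≃* Y`.
-/

set_option autoImplicit false
set_option linter.unusedSectionVars false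

namespace Cfsg.Agent.DS.Par

open CoxeterSystem Cfsg.Agent.ChevalleyStructure.CoxeterGeom Cfsg.Agent.Tits.Roots Cfsg.Agent.Tits.Core
  Cfsg.Agent.Tits.Exchange Cfsg.Agent.Nodes.Reps Cfsg.Agent.Nodes.BNOf Cfsg.Agent.Nodes.StabComb
  Cfsg.Agent.Nodes.Bruhat Cfsg.Agent.Nodes.OppDec Cfsg.Agent.Nodes.LeviDec
  Cfsg.Agent.KFacts.RgdFilt Cfsg.Agent.H936 Cfsg.Agent.KFacts.RgdAut Cfsg.Agent.KFacts.RgdDiag
  Cfsg.Agent.KFacts.RgdRigid
open scoped commutatorElement Pointwise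

section aut

variable {Y : Type*} [Group Y]

/-- the automorphisms fixing `Q` -/
def St (Q : Subgroup Y) : Subgroup (MulAut Y) where
  carrier := {β | Fix β Q}
  mul_mem' ha hb := ha.mul hb
  one_mem' := fun _ => Iff.rfl
  inv_mem' ha := ha.inv

theorem conj_mem_St {Q : Subgroup Y} {y : Y} : MulAut.conj y ∈ St Q ↔ y ∈ Subgroup.normalizer (Q : Set Y) := by
  rw [Subgroup.mem_normalizer_iff]
  exact ⟨fun h x => (h x).symm, fun h x => (h x).symm⟩

theorem le_St_of {H : Subgroup (MulAut Y)} {Q : Subgroup Y} (h : ∀ β ∈ H, ∀ x ∈ Q, β x ∈ Q) : H ≤ St Q := by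
  intro β hβ x
  refine ⟨fun hx => ?_, h β hβ x⟩
  have := h β⁻¹ (inv_mem hβ) _ hx
  rwa [MulAut.inv_apply_self] at this

/-- `H` is maximal in `Γ`, which contains the inner automorphisms -/
structure Mx (Γ H : Subgroup (MulAut Y)) : Prop where
  le : H ≤ Γ
  inn : ∀ y, MulAut.conj y ∈ Γ
  max : ∀ K, H ≤ K → K ≤ Γ → K = H ∨ K = Γ

theorem Mx.conj_mem {Γ H : Subgroup (MulAut Y)} (m : Mx Γ H) {Q : Subgroup Y} (hQ : H ≤ St Q)
    (hn : Subgroup.normalizer (Q : Set Y) ≠ ⊤) {y : Y} (hy : y ∈ Subgroup.normalizer (Q : Set Y)) :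
    MulAut.conj y ∈ H := by
  rcases m.max (St Q ⊓ Γ) (le_inf hQ m.le) inf_le_right with h1 | h1
  · rw [← h1]
    exact ⟨conj_mem_St.2 hy, m.inn y⟩
  · exfalso
    apply hn
    rw [eq_top_iff]
    intro z _
    have h2 := m.inn z
    rw [← h1] at h2
    exact conj_mem_St.1 h2.1

theorem Mx.cj {Γ H : Subgroup (MulAut Y)} (m : Mx Γ H) {c : MulAut Y} (hc : c ∈ Γ) : Mx Γ (cj c H) where
  le := by
    rw [← cj_eq_of_mem hc]
    exact cj_mono _ m.le
  inn := m.inn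
  max K h1 h2 := by
    have h3 : H ≤ Nodes.Reps.cj c⁻¹ K := by
      have := cj_mono c⁻¹ h1
      rwa [cj_inv_cj] at this
    have h4 : Nodes.Reps.cj c⁻¹ K ≤ Γ := by
      rw [← cj_eq_of_mem (inv_mem hc)]
      exact cj_mono _ h2
    rcases m.max _ h3 h4 with h5 | h5
    · left
      rw [← h5, cj_cj_inv]
    · right
      rw [← cj_cj_inv c K, h5, cj_eq_of_mem hc]

theorem conj_conj (β : MulAut Y) (y : Y) : β * MulAut.conj y * β⁻¹ = MulAut.conj (β y) := by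
  ext x
  simp

end aut

variable {I W Y : Type*} [Fintype I] [DecidableEq I] [Group W] [Finite W] [Group Y] [Finite Y] {M : CoxeterMatrix I}
  {cs : CoxeterSystem M W} {A : I → I → ℤ} {h : IsCartan M A} {p : ℕ} {T : Subgroup Y} {n : I → Y}
  {X : (I → ℤ) → Subgroup Y}

theorem simple_mem_iff (h : IsCartan M A) {J : Set I} {i : I} : cs.simple i ∈ WJ cs J ↔ i ∈ J := by
  refine ⟨fun h3 => ?_, fun hi => simple_mem_WJ cs hi⟩
  by_contra hiJ
  have h4 := NotJ.act h3 (sr_mem_NotJ (cs := cs) (h := h) hiJ)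
  rw [rep_simple_sr] at h4
  exact h4.1.ne_zero (le_antisymm (neg_nonpos.2 (sr_nonneg i)) h4.2.1)

variable (R : RGD cs h p T n X)

include R

theorem rp_mem_PJ {J : Set I} {i : I} {k : Y} (hk : Rp cs R.nsys (cs.simple i) k) : k ∈ PJ cs h T X J ↔ i ∈ J := by
  rw [cell_mem_PJ_iff R (cell_of_rp hk), simple_mem_iff h]

theorem PJ_mono {J K : Set I} (hJK : J ⊆ K) : PJ cs h T X J ≤ PJ cs h T X K := by
  intro g hg
  obtain ⟨w, hw, hc⟩ := (mem_PJ_iff_cell R).1 hg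
  exact (mem_PJ_iff_cell R).2 ⟨w, WJ_mono cs hJK hw, hc⟩

theorem norm_PJ_ne {J : Set I} (hJ : J ≠ Set.univ) : Subgroup.normalizer (PJ cs h T X J : Set Y) ≠ ⊤ := by
  intro h1
  apply hJ
  rw [Set.eq_univ_iff_forall]
  intro i
  obtain ⟨m, hm, hm'⟩ := exists_m R i
  have h2 : X (sr i) ≤ PJ cs h T X J := (RGD.X_le_B (isRoot_sr cs h i) (sr_nonneg i)).trans B_le_PJ
  have h3 := X_act R hm' (by rw [h1]; trivial) (isRoot_sr cs h i) h2
  rw [rep_simple_sr] at h3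
  exact (rp_mem_PJ R hm').1 (sup_le h2 h3 hm)

theorem PJ_ne {J : Set I} (hJ : J ≠ Set.univ) : PJ cs h T X J ≠ ⊤ := by
  intro h1
  apply norm_PJ_ne R hJ
  rw [eq_top_iff, ← h1]
  exact Subgroup.le_normalizer

theorem diag_PJ (hG : GG cs h T X = ⊤) {γ : MulAut Y} (hγ : γ ∈ Frame cs h X) {σ : Equiv.Perm I}
    (D : Diag T X γ σ) (K : Set I) (x : Y) : γ x ∈ PJ cs h T X K ↔ x ∈ PJ cs h T X {i | σ i ∈ K} := by
  have hB : RGD.B cs h T X ≤ (PJ cs h T X K).comap γ.toMonoidHom := fun y hy => B_le_PJ ((fix_B R hG hγ.1 y).2 hy)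
  have h1 := inf_eq_PJ R hB
  rw [hG, inf_top_eq] at h1
  have h2 : {i | n i ∈ (PJ cs h T X K).comap γ.toMonoidHom} = {i | σ i ∈ K} := by
    ext i
    exact rp_mem_PJ R (D.rp (R := R) i)
  rw [h2] at h1
  rw [← h1]
  rfl

/-- **Frattini** -/
theorem exists_frame_PJ [Fact p.Prime] (hG : GG cs h T X = ⊤) {J : Set I} {β : MulAut Y}
    (hβ : β ∈ St (PJ cs h T X J)) : ∃ k ∈ PJ cs h T X J, MulAut.conj k * β ∈ Frame cs h X := by
  set U := RGD.Sup X (RGD.Pos cs h) with hU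
  have hUp : IsPGroup p ↥U := R.isPGroup_Upos
  have hidx : ¬ p ∣ U.index := by
    have h1 := KFacts.RgdSyl.not_dvd_relIndex R
    rwa [hG, Subgroup.relIndex_top_right] at h1
  let S : Sylow p Y := hUp.toSylow hidx
  have hS : (S : Subgroup Y) = U := rfl
  have hUP : U ≤ PJ cs h T X J := RGD.U_le_B.trans B_le_PJ
  have h1 : (S : Subgroup Y) ≤ PJ cs h T X J := hUP
  have h2 : ((β • S : Sylow p Y) : Subgroup Y) ≤ PJ cs h T X J := by
    rw [Sylow.pointwise_smul_def, hS]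
    rintro _ ⟨x, hx, rfl⟩
    exact (hβ x).2 (hUP hx)
  obtain ⟨k, hk⟩ := MulAction.exists_smul_eq (PJ cs h T X J) ((β • S).subtype h2) (S.subtype h1)
  rw [Sylow.smul_subtype] at hk
  have h3 : (k : Y) • (β • S) = S := Sylow.subtype_injective hk
  have h4 : Fix (MulAut.conj (k : Y) * β) U := by
    have h5 : (MulAut.conj (k : Y) * β) • S = S := by
      rw [mul_smul]
      exact h3
    have h6 : (((MulAut.conj (k : Y) * β) • S : Sylow p Y) : Subgroup Y) = S := by rw [h5]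
    rw [Sylow.pointwise_smul_def, hS] at h6
    rw [fix_iff]
    exact h6
  obtain ⟨u, hu, h6, -, h7, -, -⟩ := exists_frame R hG h4
  refine ⟨u * k, mul_mem (hUP hu) k.2, ?_⟩
  rw [map_mul, mul_assoc]
  exact ⟨h6, h7⟩

theorem mem_PJ' {J : Set I} {k : Y} (hk : k ∈ PJ cs h T X J) :
    ∃ t ∈ T, ∃ y ∈ VJ cs h X J ⊔ MM X J, k = t * y := by
  have h1 : PJ cs h T X J = T ⊔ (VJ cs h X J ⊔ MM X J) := by
    rw [PJ, LJ, MM_eq R, sup_assoc, sup_comm (MM X J)]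
  rw [h1] at hk
  refine exists_mul_of_norm (fun t ht => ?_) hk
  rw [mem_normalizer_iff_cj, cj_sup, mem_normalizer_iff_cj.1 (T_norm_MM R J ht),
    mem_normalizer_iff_cj.1 (LJ_le_normalizer_VJ R J (T_le_LJ ht))]

theorem conj_T_mem {t : Y} (ht : t ∈ T) : MulAut.conj t ∈ Frame cs h X :=
  ⟨conj_mem_St.2 (R.T_le_normalizer_U ht), conj_mem_St.2 (R.T_le_normalizer (fun _ hx => hx.1) ht)⟩

omit R in
/-- the numerical data of the type -/
structure Num (cs : CoxeterSystem M W) (h : IsCartan M A) (a : ℕ) : Prop where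
  six : ∀ i j k, M i j ≠ 6 ∨ k = i ∨ k = j
  lev : ∃ g : I → ℕ, (∀ σ : Equiv.Perm I, (∀ i j, M (σ i) (σ j) = M i j) → ∀ i, g (σ i) = g i) ∧
    ∀ i₀ x, IsRoot cs h x → ∑ i ∈ Finset.univ.filter (fun i => g i = g i₀), x i < 2 ^ a

theorem core [Fact p.Prime] (hG : GG cs h T X = ⊤) (hX : IntComm cs h X) (hI : ∀ i, Irr T (X (sr i)))
    (hL : ∀ i, PS 3 (LL X i)) {a c : ℕ} (hN : Num cs h a) (hF : derivedSeries (Frame cs h X) c = ⊥)
    {Γ H : Subgroup (MulAut Y)} (m : Mx Γ H) {J : Set I} (hJ : J ≠ Set.univ) (hV : H ≤ St (VJ cs h X J)) :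
    PS (a + 3 + c) H := by
  have hNV : Subgroup.normalizer (VJ cs h X J : Set Y) = PJ cs h T X J := by
    have := KFacts.RgdVJ.normalizer_VJ R J
    rwa [hG, inf_top_eq] at this
  have hP : ∀ y ∈ PJ cs h T X J, MulAut.conj y ∈ H := fun y hy =>
    m.conj_mem hV (by rw [hNV]; exact PJ_ne R hJ) (by rwa [hNV])
  have hHP : H ≤ St (PJ cs h T X J) := by
    intro β hβ
    have := Fix.normalizer (hV hβ)
    rwa [hNV] at this
  -- decomposition
  have hdec : ∀ β ∈ H, ∃ k ∈ PJ cs h T X J, ∃ γ ∈ Frame cs h X ⊓ H, β = MulAut.conj k * γ := by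
    intro β hβ
    obtain ⟨k, hk, h1⟩ := exists_frame_PJ R hG (hHP hβ)
    refine ⟨k⁻¹, inv_mem hk, MulAut.conj k * β, ⟨h1, mul_mem (hP k hk) hβ⟩, ?_⟩
    rw [map_inv, inv_mul_cancel_left]
  have hdiag : ∀ γ ∈ Frame cs h X ⊓ H, ∃ σ : Equiv.Perm I, Diag T X γ σ := fun γ hγ =>
    exists_diag R hG hγ.1.1 hγ.1.2
  have hσJ : ∀ γ ∈ Frame cs h X ⊓ H, ∀ σ : Equiv.Perm I, Diag T X γ σ → ∀ i, σ i ∈ J ↔ i ∈ J := by
    intro γ hγ σ D i
    have h1 := diag_PJ R hG hγ.1 D J (n i)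
    rw [hHP hγ.2 (n i), rp_mem_PJ R (rp_simple cs R.nsys i), rp_mem_PJ R (rp_simple cs R.nsys i)] at h1
    exact h1.symm
  -- one orbit
  obtain ⟨i₀, hi₀⟩ := (Set.ne_univ_iff_exists_notMem J).1 hJ
  let J' : Set I := {i | ¬ ∃ γ ∈ Frame cs h X ⊓ H, ∃ σ : Equiv.Perm I, Diag T X γ σ ∧ σ i₀ = i}
  have hJJ' : J ⊆ J' := by
    rintro i hi ⟨γ, hγ, σ, D, rfl⟩
    exact hi₀ ((hσJ γ hγ σ D i₀).1 hi)
  have hJ' : J' ≠ Set.univ := by
    rw [Set.ne_univ_iff_exists_notMem]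
    exact ⟨i₀, fun h1 => h1 ⟨1, one_mem _, 1, Diag.one, rfl⟩⟩
  have hHP' : H ≤ St (PJ cs h T X J') := by
    refine le_St_of fun β hβ x hx => ?_
    obtain ⟨k, hk, γ, hγ, rfl⟩ := hdec β hβ
    obtain ⟨σ, D⟩ := hdiag γ hγ
    have h1 : γ x ∈ PJ cs h T X J' := by
      rw [diag_PJ R hG hγ.1 D]
      refine PJ_mono R ?_ hx
      rintro i hi ⟨δ, hδ, τ, D', e⟩
      refine hi ⟨γ⁻¹ * δ, mul_mem (inv_mem hγ) hδ, σ⁻¹ * τ, D.inv.mul D', ?_⟩
      rw [Equiv.Perm.mul_apply, e]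
      exact σ.symm_apply_apply i
    have h2 := PJ_mono R hJJ' hk
    exact mul_mem (mul_mem h2 h1) (inv_mem h2)
  have hJ'J : J' ⊆ J := by
    intro i hi
    have h1 := m.conj_mem hHP' (norm_PJ_ne R hJ')
      (Subgroup.le_normalizer ((rp_mem_PJ R (rp_simple cs R.nsys i)).2 hi))
    have h2 := conj_mem_St.1 (hV h1)
    rwa [hNV, rp_mem_PJ R (rp_simple cs R.nsys i)] at h2
  obtain ⟨g, hg, hb⟩ := hN.lev
  have hV0 : dS (VJ cs h X J) a = ⊥ := by
    refine dS_VJ R hX hI (Finset.univ.filter fun i => g i = g i₀) (fun i hi => ?_) (hb i₀)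
    have h1 : i ∉ J' := fun h2 => hi (hJ'J h2)
    obtain ⟨γ, -, σ, D, rfl⟩ := not_not.1 h1
    rw [Finset.mem_filter]
    exact ⟨Finset.mem_univ _, hg σ (D.matrix R) i₀⟩
  have hM : PS 3 (MM X J) := by
    refine ps_MM R hX hI hL fun i hi j hj h6 => hi₀ ?_
    rcases hN.six i j i₀ with h7 | rfl | rfl
    · exact absurd h6 h7
    · exact hi
    · exact hj
  have hMP : MM X J ≤ LJ cs h T X J := by
    rw [← MM_eq R]
    exact le_sup_right
  have h0 : PS (a + 3) ↥(VJ cs h X J ⊔ MM X J) :=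
    ps_sup (hMP.trans (LJ_le_normalizer_VJ R J)) (ps_of_dS_bot hV0) hM
  set N₀ := VJ cs h X J ⊔ MM X J with hN₀
  have hfix : Frame cs h X ⊓ H ≤ St N₀ := by
    refine le_St_of fun γ hγ x hx => ?_
    obtain ⟨σ, D⟩ := hdiag γ hγ
    have h1 : N₀ ≤ N₀.comap γ.toMonoidHom := by
      refine sup_le (fun y hy => Subgroup.mem_sup_left ((hV hγ.2 y).2 hy)) (iSup_le fun j => sup_le ?_ ?_)
      · intro y hy
        exact Subgroup.mem_sup_right (LL_le_MM ((hσJ γ hγ σ D j).2 j.2) (pos_le_LL _ ((D.pos j y).2 hy)))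
      · intro y hy
        exact Subgroup.mem_sup_right (LL_le_MM ((hσJ γ hγ σ D j).2 j.2) (neg_le_LL _ ((D.neg j y).2 hy)))
    exact h1 hx
  have h1 : PS (a + 3 + c) ↥(N₀.map (MulAut.conj : Y →* MulAut Y) ⊔ (Frame cs h X ⊓ H)) := by
    refine ps_sup (mem_norm_of ?_) (ps_map _ h0) (ps_of_dS_bot ?_)
    · rintro γ hγ _ ⟨y, hy, rfl⟩
      exact ⟨γ y, (hfix hγ y).2 hy, (conj_conj γ y).symm⟩
    · rw [eq_bot_iff]
      refine (dS_mono inf_le_left c).trans ?_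
      rw [dS_eq, hF, Subgroup.map_bot]
  have h2 : N₀.map (MulAut.conj : Y →* MulAut Y) ⊔ (Frame cs h X ⊓ H) = H := by
    apply le_antisymm
    · refine sup_le ?_ inf_le_right
      rintro _ ⟨y, hy, rfl⟩
      exact hP y (sup_le VJ_le_PJ (hMP.trans LJ_le_PJ) hy)
    · intro β hβ
      obtain ⟨k, hk, γ, hγ, rfl⟩ := hdec β hβ
      obtain ⟨t, ht, y, hy, rfl⟩ := mem_PJ' R hk
      rw [map_mul]
      refine mul_mem (mul_mem (Subgroup.mem_sup_right ⟨conj_T_mem R ht, hP t (LJ_le_PJ (T_le_LJ ht))⟩)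
        (Subgroup.mem_sup_left ⟨y, hy, rfl⟩)) (Subgroup.mem_sup_right hγ)
  rwa [h2] at h1

/-- **The parabolic case**, inside `Aut Y`. -/
theorem par_aut [Fact p.Prime] (hG1 : RGD.Sup X {x | IsRoot cs h x} = ⊤) (hX : IntComm cs h X)
    (hI : ∀ i, Irr T (X (sr i))) (hL : ∀ i, PS 3 (LL X i)) {a c : ℕ} (hN : Num cs h a)
    (hF : derivedSeries (Frame cs h X) c = ⊥) {Γ H : Subgroup (MulAut Y)} (m : Mx Γ H) {E : Subgroup Y}
    (hE : IsPGroup p E) (hE1 : E ≠ ⊥) (hHE : H ≤ St E) : PS (a + 3 + c) H := by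
  have hG : GG cs h T X = ⊤ := KFacts.RgdRigid.GG_eq_top hG1
  have hBT := fun (K : Subgroup Y) (hK : IsPGroup p K) (hK1 : K ≠ ⊥) =>
    borel_tits_of_filt (IntComm.filt (R := R) hX) hG1 hK hK1
  set P₀ := H.comap (MulAut.conj : Y →* MulAut Y) with hP₀
  have key : ∀ Q : Subgroup Y, IsPGroup p Q → Q ≠ ⊥ → H ≤ St Q → Subgroup.normalizer (Q : Set Y) = P₀ := by
    intro Q hQ hQ1 hHQ
    obtain ⟨g, J, hJ, -, h2⟩ := hBT Q hQ hQ1
    refine le_antisymm (fun y hy => m.conj_mem hHQ (fun h3 => PJ_ne R hJ ?_) hy) fun y hy => conj_mem_St.1 (hHQ hy)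
    rw [h3, top_le_iff] at h2
    rw [← cj_inv_cj g (PJ cs h T X J), h2, cj_eq_of_mem (Subgroup.mem_top _)]
  obtain ⟨Q, ⟨hQ, hQP, hPQ⟩, hmax⟩ := WellFounded.has_min (wellFounded_gt (α := Subgroup Y))
    {Q : Subgroup Y | IsPGroup p Q ∧ Q ≤ P₀ ∧ P₀ ≤ Subgroup.normalizer (Q : Set Y)}
    ⟨⊥, IsPGroup.of_bot, bot_le, bot_normal _⟩
  have hle : ∀ Q' : Subgroup Y, IsPGroup p Q' → Q' ≤ P₀ → P₀ ≤ Subgroup.normalizer (Q' : Set Y) → Q' ≤ Q := by
    intro Q' h1 h2 h3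
    by_contra h4
    refine hmax (Q ⊔ Q') ⟨IsPGroup.to_sup_of_normal_right' hQ h1 (hQP.trans h3), sup_le hQP h2, fun y hy => ?_⟩
      (left_lt_sup.2 h4)
    rw [mem_normalizer_iff_cj, cj_sup, mem_normalizer_iff_cj.1 (hPQ hy), mem_normalizer_iff_cj.1 (h3 hy)]
  have hEQ : E ≤ Q := by
    have h1 := key E hE hE1 hHE
    exact hle E hE (h1 ▸ Subgroup.le_normalizer) h1.ge
  have hQ1 : Q ≠ ⊥ := fun h1 => hE1 (eq_bot_iff.2 (h1 ▸ hEQ))
  have hP₀H : ∀ β ∈ H, ∀ y ∈ P₀, β y ∈ P₀ := by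
    intro β hβ y hy
    change MulAut.conj (β y) ∈ H
    rw [← conj_conj]
    exact mul_mem (mul_mem hβ hy) (inv_mem hβ)
  have hHQ : H ≤ St Q := by
    refine le_St_of fun β hβ x hx => hle (Q.map β.toMonoidHom) (hQ.map _) ?_ ?_ ⟨x, hx, rfl⟩
    · rintro _ ⟨y, hy, rfl⟩
      exact hP₀H β hβ y (hQP hy)
    · refine mem_norm_of ?_
      rintro y hy _ ⟨z, hz, rfl⟩
      refine ⟨β⁻¹ y * z * (β⁻¹ y)⁻¹, conj_mem_of_norm (hPQ (hP₀H β⁻¹ (inv_mem hβ) y hy)) hz, ?_⟩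
      simp
  have hNQ := key Q hQ hQ1 hHQ
  obtain ⟨g, J, hJ, h1, h2⟩ := hBT Q hQ hQ1
  have hVp : IsPGroup p (cj g (VJ cs h X J)) :=
    (R.isPGroup_of_pos (S := NotJ cs h J) fun x hx => ⟨hx.1, hx.2.1⟩).map _
  have h3 : cj g (VJ cs h X J) ⊓ P₀ ≤ Q := by
    refine hle _ (hVp.to_le inf_le_left) inf_le_right (mem_norm_of fun y hy z hz => ⟨?_, ?_⟩)
    · have h4 : y ∈ cj g (PJ cs h T X J) := h2 (hNQ.ge hy)
      have h5 : z ∈ cj g (VJ cs h X J) := hz.1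
      rw [mem_cj] at h4 h5
      have h6 := conj_mem_of_norm (PJ_le_normalizer_VJ R J h4) h5
      change y * z * y⁻¹ ∈ cj g (VJ cs h X J)
      rw [mem_cj]
      have e : g⁻¹ * (y * z * y⁻¹) * g = g⁻¹ * y * g * (g⁻¹ * z * g) * (g⁻¹ * y * g)⁻¹ := by group
      rwa [e]
    · exact P₀.mul_mem (P₀.mul_mem hy hz.2) (P₀.inv_mem hy)
  have h4 : Q = cj g (VJ cs h X J) := by
    have hnil := hVp.isNilpotent
    have h5 := Group.normalizerCondition_of_isNilpotent (G := cj g (VJ cs h X J))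
    rw [normalizerCondition_iff_only_full_group_self_normalizing] at h5
    have h6 := h5 (Q.subgroupOf (cj g (VJ cs h X J))) (by
      refine le_antisymm (fun x hx => ?_) Subgroup.le_normalizer
      rw [← Subgroup.subgroupOf_normalizer_eq h1, Subgroup.mem_subgroupOf, hNQ] at hx
      exact h3 ⟨x.2, hx⟩)
    exact le_antisymm h1 (Subgroup.subgroupOf_eq_top.1 h6)
  have h5 : cj (MulAut.conj g)⁻¹ H ≤ St (VJ cs h X J) := by
    refine le_St_of fun β hβ x hx => ?_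
    rw [mem_cj, inv_inv] at hβ
    have h6 : g * x * g⁻¹ ∈ Q := by
      rw [h4]
      exact conj_mem_cj.2 hx
    have h7 := (hHQ hβ _).2 h6
    rw [h4, mem_cj] at h7
    simpa [mul_assoc] using h7
  have h6 := core R hG hX hI hL hN hF (m.cj (inv_mem (m.inn g))) hJ h5
  have h7 := ps_map (MulAut.conj (MulAut.conj g)).toMonoidHom h6
  change PS _ (cj (MulAut.conj g) (cj (MulAut.conj g)⁻¹ H)) at h7
  rwa [cj_cj_inv] at h7

omit R [Finite Y] in
/-- passage from an almost simple group to the automorphism group of the socle -/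
theorem exists_mx {G : Type} [Group G] {S H : Subgroup G} (hs : Setup S H) (e : S ≃* Y) :
    ∃ φ : G →* MulAut Y, Function.Injective φ ∧ Mx φ.range (H.map φ) ∧
      ∀ (g : G) (s s' : S), (s' : G) = g * s * g⁻¹ → φ g (e s) = e s' := by
  have := hs.normal
  let φ : G →* MulAut Y := (MulAut.congr e).toMonoidHom.comp (MulAut.conjNormal (H := S))
  have hφ : ∀ (g : G) (s s' : S), (s' : G) = g * s * g⁻¹ → φ g (e s) = e s' := by
    intro g s s' h1
    change e (MulAut.conjNormal g (e.symm (e s))) = e s'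
    rw [e.symm_apply_apply]
    congr 1
    exact Subtype.ext h1.symm
  refine ⟨φ, ?_, ⟨Subgroup.map_le_range _ _, fun y => ⟨e.symm y, ?_⟩, fun K h1 h2 => ?_⟩, hφ⟩
  · rw [injective_iff_map_eq_one]
    intro g hg
    rw [← Subgroup.mem_bot, ← hs.cent, Subgroup.mem_centralizer_iff]
    intro s hs'
    have h1 := hφ g ⟨s, hs'⟩ ⟨_, this.conj_mem s hs' g⟩ rfl
    rw [hg, MulAut.one_apply] at h1
    have h2 : s = g * s * g⁻¹ := congrArg Subtype.val (e.injective h1)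
    rw [eq_mul_inv_iff_mul_eq] at h2
    exact h2
  · ext x
    obtain ⟨s, rfl⟩ := e.surjective x
    rw [hφ _ s (e.symm y * s * (e.symm y)⁻¹) rfl]
    simp
  · have h3 : H ≤ K.comap φ := Subgroup.map_le_iff_le_comap.1 h1
    rcases h3.eq_or_lt with h4 | h4
    · left
      rw [h4, Subgroup.map_comap_eq_self h2]
    · right
      rw [← Subgroup.map_comap_eq_self h2, hs.coatom.2 _ h4, MonoidHom.range_eq_map]

/-- **The parabolic case.** -/
theorem par_loc [Fact p.Prime] (hG1 : RGD.Sup X {x | IsRoot cs h x} = ⊤) (hX : IntComm cs h X)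
    (hI : ∀ i, Irr T (X (sr i))) (hL : ∀ i, PS 3 (LL X i)) {a c : ℕ} (hN : Num cs h a)
    (hF : derivedSeries (Frame cs h X) c = ⊥) {G : Type} [Group G] {S H E : Subgroup G} (hs : Setup S H)
    (e : S ≃* Y) (hES : E ≤ S) (hE : IsPGroup p E) (hE1 : E ≠ ⊥) (hHE : H ≤ Subgroup.normalizer (E : Set G)) :
    PS (a + 3 + c) H := by
  obtain ⟨φ, hφ, m, hc⟩ := exists_mx hs e
  have h1 := par_aut R hG1 hX hI hL hN hF m (E := (E.subgroupOf S).map e.toMonoidHom)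
    ((hE.comap_of_injective S.subtype S.subtype_injective).map _) ?_ ?_
  · exact h1.of_equiv (H.equivMapOfInjective φ hφ).symm
  · intro h2
    apply hE1
    rw [Subgroup.map_eq_bot_iff_of_injective _ e.injective, Subgroup.subgroupOf_eq_bot] at h2
    exact h2.eq_bot_of_le hES
  · refine le_St_of ?_
    rintro _ ⟨g, hg, rfl⟩ _ ⟨s, hs', rfl⟩
    have h2 : g * s * g⁻¹ ∈ E := conj_mem_of_norm (hHE hg) hs'
    exact ⟨⟨_, hES h2⟩, h2, (hc g s _ rfl).symm⟩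

end Cfsg.Agent.DS.Par
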