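import Cfsg.Agent.DS.Ex.ParBase
import Cfsg.Agent.Mrg.Omega.Lie.End.ZeroLone
import Cfsg.Agent.KFacts.RgdField

/-!
# DS, parabolic case: Levi subgroups and unipotent radicals (helper55)

* `ps_MM` : `PS 3` for the group generated by the rank one groups of the nodes of `J`;
* `dS_VJ` : the derived length of the unipotent radical from a bound for a level function.
-/

set_option autoImplicit false
set_option linter.unusedSectionVars false

namespace Cfsg.Agent.DS.Par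

open CoxeterSystem Cfsg.Agent.ChevalleyStructure.CoxeterGeom Cfsg.Agent.Tits.Roots Cfsg.Agent.Tits.Core
  Cfsg.Agent.Tits.Exchange Cfsg.Agent.Nodes.Reps Cfsg.Agent.Nodes.BNOf Cfsg.Agent.Nodes.StabComb
  Cfsg.Agent.Nodes.Bruhat Cfsg.Agent.Nodes.OppDec Cfsg.Agent.Nodes.LeviDec Cfsg.Agent.Nodes.ZFam
  Cfsg.Agent.KFacts.RgdFilt Cfsg.Agent.H936
open Cfsg.Agent.OmegaEnd.Frat (Win le_Win Win_le comm_Win first_comp Win_le_V swap_two swap_three CommFour
  commFour_of_int)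
open Cfsg.Agent.ParSys.Fam (eq_one_of_mem_V)
open Cfsg.Agent.KFacts.RgdField (Coord)
open scoped commutatorElement

section one

variable {Y : Type*} [Group Y]

/-- `T` acts irreducibly on the abelian group `P` -/
structure Irr (T P : Subgroup Y) : Prop where
  comm : ∀ a ∈ P, ∀ b ∈ P, a * b = b * a
  irr : ∀ Q : Subgroup Y, T ≤ Subgroup.normalizer (Q : Set Y) → ∀ x ∈ P, x ≠ 1 → x ∈ Q → P ≤ Q

theorem irr_of_coord {F : Type*} [Field F] {T P : Subgroup Y} {x : F → Y} {χ : Y → F} (C : Coord T P x χ) :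
    Irr T P where
  comm a ha b hb := by
    obtain ⟨s, rfl⟩ := (C.mem a).1 ha
    obtain ⟨t, rfl⟩ := (C.mem b).1 hb
    rw [← C.add, ← C.add, add_comm]
  irr Q hQ y hy hy1 hyQ := by
    obtain ⟨a, rfl⟩ := (C.mem y).1 hy
    have ha : a ≠ 0 := by
      rintro rfl
      exact hy1 C.zero
    let S : AddSubgroup F :=
      { carrier := {s | x (s * a) ∈ Q}
        add_mem' := fun {s t} hs ht => by
          change x ((s + t) * a) ∈ Q
          rw [add_mul, C.add]
          exact mul_mem hs ht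
        zero_mem' := by
          change x (0 * a) ∈ Q
          rw [zero_mul, C.zero]
          exact one_mem _
        neg_mem' := fun {s} hs => by
          change x (-s * a) ∈ Q
          have h1 : x (-s * a) = (x (s * a))⁻¹ := by
            rw [eq_inv_iff_mul_eq_one, ← C.add, neg_mul, neg_add_cancel, C.zero]
          rw [h1]
          exact inv_mem hs }
    have h1 : (⊤ : AddSubgroup F) ≤ S := by
      rw [← C.span, AddSubgroup.closure_le]
      rintro _ ⟨t, ht, rfl⟩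
      change x (χ t * a) ∈ Q
      rw [← C.act t ht]
      exact conj_mem_of_norm (hQ ht) hyQ
    intro z hz
    obtain ⟨b, rfl⟩ := (C.mem z).1 hz
    have h2 : x (b / a * a) ∈ Q := h1 (AddSubgroup.mem_top _)
    rwa [div_mul_cancel₀ _ ha] at h2

theorem exists_mul_of_norm {A E : Subgroup Y} (hA : A ≤ Subgroup.normalizer (E : Set Y)) {x : Y} (hx : x ∈ A ⊔ E) :
    ∃ a ∈ A, ∃ e ∈ E, x = a * e := by
  have h1 : x ∈ ((A ⊔ E : Subgroup Y) : Set Y) := hx
  rw [Subgroup.coe_mul_of_left_le_normalizer_right _ _ hA, Set.mem_mul] at h1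
  obtain ⟨a, ha, e, he, h2⟩ := h1
  exact ⟨a, ha, e, he, h2.symm⟩

theorem comm_sup_le {A E : Subgroup Y} (hA : A ≤ Subgroup.normalizer (E : Set Y))
    (hc : ∀ a ∈ A, ∀ b ∈ A, a * b = b * a) : ⁅A ⊔ E, A ⊔ E⁆ ≤ E := by
  rw [Subgroup.commutator_le]
  intro x hx y hy
  obtain ⟨a, ha, e, he, rfl⟩ := exists_mul_of_norm hA hx
  obtain ⟨b, hb, f, hf, rfl⟩ := exists_mul_of_norm hA hy
  have h1 : ⁅a * e, b * f⁆ = (a * e * a⁻¹) * ((a * b) * (f * e⁻¹) * (a * b)⁻¹) * (a * b * a⁻¹ * f⁻¹ * b⁻¹) := by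
    rw [commutatorElement_def]; group
  have h2 : a * b * a⁻¹ = b := by rw [hc a ha b hb]; group
  rw [h1, h2]
  exact mul_mem (mul_mem (conj_mem_of_norm (hA ha) he)
    (conj_mem_of_norm (hA (mul_mem ha hb)) (mul_mem hf (inv_mem he)))) (conj_mem_of_norm (hA hb) (inv_mem hf))

theorem comm_cen_left {c u w : Y} (h1 : Commute c u) (h2 : Commute c w) : ⁅c * u, w⁆ = ⁅u, w⁆ := by
  have h3 : Commute c (u * w * u⁻¹) := (h1.mul_right h2).mul_right h1.inv_right
  have e : ⁅c * u, w⁆ = c * (u * w * u⁻¹) * c⁻¹ * w⁻¹ := by rw [commutatorElement_def]; group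
  rw [e, h3.eq, commutatorElement_def]
  group

theorem comm_cen {c c' u v : Y} (h1 : Commute c u) (h2 : Commute c v) (h3 : Commute c c') (h4 : Commute c' u)
    (h5 : Commute c' v) : ⁅c * u, c' * v⁆ = ⁅u, v⁆ := by
  rw [comm_cen_left h1 (h3.mul_right h2), ← commutatorElement_inv, comm_cen_left h5 h4, commutatorElement_inv]

end one

variable {I W Y : Type*} [Fintype I] [DecidableEq I] [Group W] [Finite W] [Group Y] [Finite Y] {M : CoxeterMatrix I}
  {cs : CoxeterSystem M W} {A : I → I → ℤ} {h : IsCartan M A} {p : ℕ} {T : Subgroup Y} {n : I → Y}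
  {X : (I → ℤ) → Subgroup Y}

/-- the rank one group of a node -/
def LL (X : (I → ℤ) → Subgroup Y) (i : I) : Subgroup Y := X (sr i) ⊔ X (-sr i)

/-- the group generated by the rank one groups of the nodes of `J` -/
def MM (X : (I → ℤ) → Subgroup Y) (J : Set I) : Subgroup Y := ⨆ j : J, LL X j.1

theorem LL_le_MM {J : Set I} {j : I} (hj : j ∈ J) : LL X j ≤ MM X J := le_iSup (fun j : J => LL X j.1) ⟨j, hj⟩

theorem pos_le_LL (i : I) : X (sr i) ≤ LL X i := le_sup_left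

theorem neg_le_LL (i : I) : X (-sr i) ≤ LL X i := le_sup_right

variable (R : RGD cs h p T n X)

include R

theorem exists_m (i : I) : ∃ m ∈ LL X i, Rp cs R.nsys (cs.simple i) m := by
  obtain ⟨t, ht, a, ha, v, hv, b, hb, e⟩ := KFacts.RgdRigid.exists_n_eq R i
  refine ⟨a * v * b, mul_mem (mul_mem (pos_le_LL i ha) (neg_le_LL i hv)) (pos_le_LL i hb), ?_⟩
  have h1 := (rp_of_mem (cs := cs) (hN := R.nsys) (inv_mem ht)).mul (rp_simple cs R.nsys i)
  have e2 : t⁻¹ * n i = a * v * b := by rw [e]; group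
  rwa [one_mul, e2] at h1

theorem T_norm_LL (i : I) : T ≤ Subgroup.normalizer (LL X i : Set Y) := by
  intro t ht
  rw [mem_normalizer_iff_cj, LL, cj_sup, R.tor _ (isRoot_sr cs h i) t ht, R.tor _ (isRoot_sr cs h i).neg t ht]

theorem T_norm_MM (J : Set I) : T ≤ Subgroup.normalizer (MM X J : Set Y) := by
  intro t ht
  rw [mem_normalizer_iff_cj, MM, cj_iSup]
  congr 1
  funext j
  exact mem_normalizer_iff_cj.1 (T_norm_LL R j.1 ht)

theorem X_act {w : W} {m : Y} (hm : Rp cs R.nsys w m) {E : Subgroup Y} (hE : m ∈ Subgroup.normalizer (E : Set Y))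
    {x : I → ℤ} (hx : IsRoot cs h x) (hle : X x ≤ E) : X (rep cs h w x) ≤ E := by
  rw [← R.conj_rp hm hx, ← mem_normalizer_iff_cj.1 hE]
  exact cj_mono _ hle

theorem MM_eq (J : Set I) : RGD.Sup X (RootsJ cs h J) = MM X J := by
  apply le_antisymm
  · refine RGD.Sup_le fun x hx => ?_
    obtain ⟨w, hw, j, hj, rfl⟩ := exists_of_mem_RootsJ hx
    obtain ⟨ω, hω, rfl⟩ := exists_word_of_mem_WJ cs hw
    clear hx hw
    induction ω with
    | nil =>
      rw [wordProd_nil, map_one, Module.End.one_apply]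
      exact (pos_le_LL j).trans (LL_le_MM hj)
    | cons i ω ih =>
      obtain ⟨m, hm, hm'⟩ := exists_m R i
      rw [wordProd_cons, rep_mul_apply]
      exact X_act R hm' (Subgroup.le_normalizer (LL_le_MM (hω i (by simp)) hm)) ⟨_, _, rfl⟩
        (ih fun k hk => hω k (by simp [hk]))
  · refine iSup_le fun j => sup_le ?_ ?_
    · exact RGD.le_Sup (PosJ_subset J (sr_mem_PosJ j.2))
    · exact RGD.le_Sup (RootsJ.neg (PosJ_subset J (sr_mem_PosJ j.2)))

/-- all root groups are abelian -/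
theorem X_comm (hI : ∀ i, Irr T (X (sr i))) {x : I → ℤ} (hx : IsRoot cs h x) : ∀ a ∈ X x, ∀ b ∈ X x, a * b = b * a := by
  obtain ⟨w, i, rfl⟩ := hx
  obtain ⟨g, hg⟩ := exists_rp cs R.nsys w
  rw [← R.conj_rp hg (isRoot_sr cs h i)]
  intro a ha b hb
  rw [mem_cj] at ha hb
  have h1 := (hI i).comm _ ha _ hb
  calc a * b = g * ((g⁻¹ * a * g) * (g⁻¹ * b * g)) * g⁻¹ := by group
    _ = g * ((g⁻¹ * b * g) * (g⁻¹ * a * g)) * g⁻¹ := by rw [h1]
    _ = b * a := by group

/-! ### rank two -/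

theorem comm_adj {i j : I} (hij : i ≠ j) {k : ℤ} (hk : 1 ≤ k) (hk' : k + 1 ≤ M i j) {x y : Y}
    (hx : x ∈ X (cyc cs h i j k)) (hy : y ∈ X (cyc cs h i j (k + 1))) : Commute x y := by
  have h2 := comm_Win R hij hk (by omega) hk' hx hy
  have h5 : Win cs h X i j (k + 1) (k + 1 - 1) ≤ ⊥ := Win_le fun r h4 h5 => by omega
  exact commutatorElement_eq_one_iff_commute.1 (Subgroup.mem_bot.1 (h5 h2))

theorem comm_two_pos {i j : I} (hij : i ≠ j) (h2 : M i j = 2) {x y : Y} (hx : x ∈ X (sr i)) (hy : y ∈ X (sr j)) :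
    Commute x y := by
  have hM : (M i j : ℤ) = 1 + 1 := by rw [h2]; rfl
  refine comm_adj R hij (k := 1) le_rfl hM.ge (by rwa [cyc_one]) ?_
  rwa [← hM, cyc_m cs h hij]

theorem comm_two {i j : I} (hij : i ≠ j) (h2 : M i j = 2) {x y : Y} (hx : x ∈ LL X i) (hy : y ∈ LL X j) :
    Commute x y := by
  have h1 : LL X i ≤ Subgroup.centralizer (LL X j : Set Y) := by
    have key : ∀ P : Subgroup Y, (∀ a ∈ P, ∀ b ∈ X (sr j), Commute a b) → (∀ a ∈ P, ∀ b ∈ X (-sr j), Commute a b) →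
        P ≤ Subgroup.centralizer (LL X j : Set Y) := by
      intro P h3 h4
      rw [← Subgroup.le_centralizer_iff]
      refine sup_le (fun b hb => ?_) (fun b hb => ?_)
      · rw [Subgroup.mem_centralizer_iff]
        exact fun a ha => (h3 a ha b hb).eq
      · rw [Subgroup.mem_centralizer_iff]
        exact fun a ha => (h4 a ha b hb).eq
    refine sup_le (key _ ?_ ?_) (key _ ?_ ?_)
    · exact fun a ha b hb => comm_two_pos R hij h2 ha hb
    · exact fun a ha b hb => KFacts.RgdDiag.commute_pos_neg R hij ha hb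
    · exact fun a ha b hb => (KFacts.RgdDiag.commute_pos_neg R hij.symm hb ha).symm
    · exact fun a ha b hb => comm_two_pos (KFacts.RgdOpp.opp R) hij h2 ha hb
  exact (Subgroup.mem_centralizer_iff.1 (h1 hx) y hy).symm

theorem three_le {i j : I} (hij : i ≠ j) (h3 : M i j = 3) : X (cyc cs h i j 2) ≤ ⁅X (sr i), X (sr j)⁆ := by
  have hM : (M i j : ℤ) = 3 := by exact_mod_cast h3
  intro w hw
  obtain ⟨u, hu, hu1⟩ := exists_ne_one R i
  obtain ⟨v, hv, c, hc, e⟩ := first_comp R hij h3.ge hu hu1 hw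
  have h1 : ⁅u, v⁆ ∈ X (cyc cs h i j 2) := by
    have h2 := comm_Win R hij (le_refl 1) (by omega) (le_refl _) (x := u) (y := v) (by rwa [cyc_one])
      (by rwa [cyc_m cs h hij])
    refine (Win_le fun r h4 h5 => ?_ : Win cs h X i j (1 + 1) (M i j - 1) ≤ _) h2
    have : r = 2 := by omega
    rw [this]
  have hc' : c ∈ X (sr j) := by
    refine (Win_le fun r h4 h5 => ?_ : Win cs h X i j 3 (M i j) ≤ _) hc
    have : r = M i j := by omega
    rw [this, cyc_m cs h hij]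
  have h6 : w * v⁻¹ = v⁻¹ * w := by
    refine (comm_adj R hij (k := 2) (by omega) (by omega) hw ?_).eq
    have : (2 : ℤ) + 1 = M i j := by omega
    rw [this, cyc_m cs h hij]
    exact inv_mem hv
  have h7 : c * v⁻¹ = ⁅u, v⁆ * w⁻¹ := by
    rw [e, mul_assoc c w, h6]; group
  have h8 : c * v⁻¹ = 1 := by
    refine eq_one_of_mem_V R j (mul_mem hc' (inv_mem hv)) ?_
    have h9 : X (cyc cs h i j 2) ≤ RGD.Sup X (RGD.PosNe cs h j) :=
      (le_Win (le_refl 2) (le_refl 2)).trans (Win_le_V hij (by omega) (by omega))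
    rw [h7]
    exact h9 (mul_mem h1 (inv_mem hw))
  have h9 : w = ⁅u, v⁆ := by
    rw [h7, mul_inv_eq_one] at h8
    exact h8.symm
  rw [h9]
  exact Subgroup.commutator_mem_commutator hu hv

theorem three_LL {i j : I} (hij : i ≠ j) (h3 : M i j = 3) {N : Subgroup Y} (hi : LL X i ≤ N) (hj : LL X j ≤ N) :
    LL X j ≤ ⁅N, N⁆ := by
  have hN : N ≤ Subgroup.normalizer ((⁅N, N⁆ : Subgroup Y) : Set Y) := fun g hg =>
    norm_comm (Subgroup.le_normalizer hg) (Subgroup.le_normalizer hg)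
  have h1 : X (cyc cs h i j 2) ≤ ⁅N, N⁆ :=
    (three_le R hij h3).trans (Subgroup.commutator_mono ((pos_le_LL i).trans hi) ((pos_le_LL j).trans hj))
  obtain ⟨mi, hmi, hmi'⟩ := exists_m R i
  obtain ⟨mj, hmj, hmj'⟩ := exists_m R j
  have h2 := X_act R hmi' (hN (hi hmi)) (isRoot_cyc cs h i j 2) h1
  rw [left_cyc cs h hij, add_sub_cancel_right, cyc_m cs h hij] at h2
  have h4 := X_act R hmj' (hN (hj hmj)) (isRoot_sr cs h j) h2
  rw [rep_simple_sr] at h4
  exact sup_le h2 h4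

theorem three_perf {i j : I} (hij : i ≠ j) (h3 : M i j = 3) :
    LL X i ⊔ LL X j ≤ ⁅LL X i ⊔ LL X j, LL X i ⊔ LL X j⁆ :=
  sup_le (three_LL R hij.symm (by rw [M.symmetric]; exact h3) le_sup_right le_sup_left)
    (three_LL R hij h3 le_sup_left le_sup_right)

theorem four_mem {i j : I} (hij : i ≠ j) (h4 : M i j = 4) {w : Y} (hw : w ∈ X (cyc cs h i j 2)) :
    ∃ y ∈ X (cyc cs h i j 3), y * w ∈ ⁅X (sr i), X (sr j)⁆ := by
  have hM : (M i j : ℤ) = 4 := by exact_mod_cast h4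
  obtain ⟨u, hu, hu1⟩ := exists_ne_one R i
  obtain ⟨v, hv, c, hc, e⟩ := first_comp R hij (by omega) hu hu1 hw
  have h1 : ⁅u, v⁆ ∈ Win cs h X i j 2 3 := by
    have h2 := comm_Win R hij (le_refl 1) (by omega) (le_refl _) (x := u) (y := v) (by rwa [cyc_one])
      (by rwa [cyc_m cs h hij])
    rw [hM] at h2
    exact h2
  have h2 : w * v⁻¹ * w⁻¹ ∈ Win cs h X i j 3 (M i j) := by
    have h5 := comm_Win R hij (k := 2) (l := M i j) (by omega) (by omega) (le_refl _) hw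
      (y := v⁻¹) (by rw [cyc_m cs h hij]; exact inv_mem hv)
    have e5 : w * v⁻¹ * w⁻¹ = ⁅w, v⁻¹⁆ * v⁻¹ := by rw [commutatorElement_def]; group
    rw [e5]
    refine mul_mem ?_ ?_
    · refine (Win_le fun r h6 h7 => ?_ : Win cs h X i j (2 + 1) (M i j - 1) ≤ _) h5
      exact le_Win (by omega) (by omega)
    · have h6 : X (cyc cs h i j (M i j)) ≤ Win cs h X i j 3 (M i j) := le_Win (by omega) (le_refl _)
      rw [cyc_m cs h hij] at h6
      exact h6 (inv_mem hv)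
  have h5 : ⁅u, v⁆ * w⁻¹ ∈ Win cs h X i j 3 (M i j) := by
    have e5 : ⁅u, v⁆ * w⁻¹ = c * (w * v⁻¹ * w⁻¹) := by rw [e]; group
    rw [e5]
    exact mul_mem hc h2
  have h6 : ⁅u, v⁆ * w⁻¹ ∈ Win cs h X i j 2 3 :=
    mul_mem h1 (inv_mem (le_Win (le_refl 2) (by omega) hw))
  have h7 : X (cyc cs h i j (M i j)) ≤ Subgroup.normalizer (X (cyc cs h i j 3) : Set Y) := by
    refine mem_norm_of fun y hy x hx => ?_
    have h8 : Commute x y := by
      refine comm_adj R hij (k := 3) (by omega) (by omega) hx ?_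
      have : (3 : ℤ) + 1 = M i j := by omega
      rwa [this]
    rw [← h8.eq, mul_inv_cancel_right]
    exact hx
  have h8 : Win cs h X i j 3 (M i j) ≤ X (cyc cs h i j 3) ⊔ X (cyc cs h i j (M i j)) := by
    refine Win_le fun r h9 h10 => ?_
    rcases (by omega : r = 3 ∨ r = M i j) with rfl | rfl
    · exact le_sup_left
    · exact le_sup_right
  have h9 : ⁅u, v⁆ * w⁻¹ ∈ ((X (cyc cs h i j 3) ⊔ X (cyc cs h i j (M i j)) : Subgroup Y) : Set Y) := h8 h5
  rw [Subgroup.coe_mul_of_right_le_normalizer_left _ _ h7, Set.mem_mul] at h9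
  obtain ⟨y, hy, z, hz, e9⟩ := h9
  have h10 : z = 1 := by
    rw [cyc_m cs h hij] at hz
    refine eq_one_of_mem_V R j hz (Win_le_V hij (a := 2) (b := 3) (by omega) (by omega) ?_)
    have e10 : z = y⁻¹ * (⁅u, v⁆ * w⁻¹) := by rw [← e9]; group
    rw [e10]
    exact mul_mem (inv_mem (le_Win (by omega) (le_refl 3) hy)) h6
  rw [h10, mul_one] at e9
  refine ⟨y, hy, ?_⟩
  have e11 : y * w = ⁅u, v⁆ := by rw [e9]; group
  rw [e11]
  exact Subgroup.commutator_mem_commutator hu hv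

theorem cover_four {i j : I} (hij : i ≠ j) (h4 : M i j = 4) {E : Subgroup Y}
    (hE : LL X i ⊔ LL X j ≤ Subgroup.normalizer (E : Set Y)) (hc : ⁅X (sr i), X (sr j)⁆ ≤ E) :
    LL X i ⊔ LL X j ≤ X (cyc cs h i j 2) ⊔ E ∧ LL X i ⊔ LL X j ≤ X (cyc cs h i j 3) ⊔ E := by
  have hM : (M i j : ℤ) = 4 := by exact_mod_cast h4
  have h1 : X (cyc cs h i j 2) ≤ X (cyc cs h i j 3) ⊔ E := by
    intro w hw
    obtain ⟨y, hy, h2⟩ := four_mem R hij h4 hw
    have := mul_mem (inv_mem (Subgroup.mem_sup_left hy : y ∈ X (cyc cs h i j 3) ⊔ E)) (Subgroup.mem_sup_right (hc h2))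
    rwa [inv_mul_cancel_left] at this
  have h2 : X (cyc cs h i j 3) ≤ X (cyc cs h i j 2) ⊔ E := by
    intro w hw
    rw [← swap_two (cs := cs) (h := h) hij h4] at hw
    obtain ⟨y, hy, h2⟩ := four_mem R hij.symm (by rw [M.symmetric]; exact h4) hw
    rw [swap_three (cs := cs) (h := h) hij h4] at hy
    rw [Subgroup.commutator_comm] at h2
    have := mul_mem (inv_mem (Subgroup.mem_sup_left hy : y ∈ X (cyc cs h i j 2) ⊔ E)) (Subgroup.mem_sup_right (hc h2))
    rwa [inv_mul_cancel_left] at this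
  have h3 : X (cyc cs h i j 3) ⊔ E = X (cyc cs h i j 2) ⊔ E :=
    le_antisymm (sup_le h2 le_sup_right) (sup_le h1 le_sup_right)
  rw [h3, and_self]
  obtain ⟨mi, hmi, hmi'⟩ := exists_m R i
  obtain ⟨mj, hmj, hmj'⟩ := exists_m R j
  have hi : mi ∈ Subgroup.normalizer ((X (cyc cs h i j 2) ⊔ E : Subgroup Y) : Set Y) := by
    rw [← h3, mem_normalizer_iff_cj, cj_sup, mem_normalizer_iff_cj.1 (hE (Subgroup.mem_sup_left hmi)),
      R.conj_rp hmi' (isRoot_cyc cs h i j 3), left_cyc cs h hij, hM]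
    rfl
  have hj : mj ∈ Subgroup.normalizer ((X (cyc cs h i j 2) ⊔ E : Subgroup Y) : Set Y) := by
    rw [mem_normalizer_iff_cj, cj_sup, mem_normalizer_iff_cj.1 (hE (Subgroup.mem_sup_right hmj)),
      R.conj_rp hmj' (isRoot_cyc cs h i j 2), right_cyc cs h hij, hM]
    rfl
  have a4 := X_act R hmi' hi (isRoot_cyc cs h i j 2) le_sup_left
  rw [left_cyc cs h hij, add_sub_cancel_right, cyc_m cs h hij] at a4
  have a1 := X_act R hmj' hj (isRoot_cyc cs h i j 3) h2
  rw [right_cyc cs h hij, hM, show (4 : ℤ) - 3 = 1 from rfl, cyc_one] at a1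
  have a0 := X_act R hmj' hj (isRoot_sr cs h j) a4
  have a5 := X_act R hmi' hi (isRoot_sr cs h i) a1
  rw [rep_simple_sr] at a0 a5
  exact sup_le (sup_le a1 a5) (sup_le a4 a0)

theorem four_perf' (hI : ∀ i, Irr T (X (sr i))) {i j : I} (hij : i ≠ j) (h4 : M i j = 4)
    (hc : ∀ a ∈ X (sr i), ∀ b ∈ X (cyc cs h i j 3), a * b * a⁻¹ = b) :
    dS (LL X i ⊔ LL X j) 1 ≤ dS (LL X i ⊔ LL X j) 2 := by
  have hM : (M i j : ℤ) = 4 := by exact_mod_cast h4
  set N := LL X i ⊔ LL X j with hN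
  have hNd : ∀ k, N ≤ Subgroup.normalizer (dS N k : Set Y) := fun k g hg => norm_dS (Subgroup.le_normalizer hg) k
  have hXi : X (sr i) ≤ N := (pos_le_LL i).trans le_sup_left
  have hXj : X (sr j) ≤ N := (pos_le_LL j).trans le_sup_right
  obtain ⟨mi, hmi, hmi'⟩ := exists_m R i
  obtain ⟨mj, hmj, hmj'⟩ := exists_m R j
  have hmiN : mi ∈ N := Subgroup.mem_sup_left hmi
  have hmjN : mj ∈ N := Subgroup.mem_sup_right hmj
  have h2N : X (cyc cs h i j 2) ≤ N := by
    have := X_act R hmi' (Subgroup.le_normalizer hmiN) (isRoot_cyc cs h i j (M i j)) (by rwa [cyc_m cs h hij])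
    rwa [left_cyc cs h hij, add_sub_cancel_left] at this
  have h3N : X (cyc cs h i j 3) ≤ N := by
    have := X_act R hmj' (Subgroup.le_normalizer hmjN) (isRoot_cyc cs h i j 1) (by rwa [cyc_one])
    rwa [right_cyc cs h hij, hM] at this
  have hD : ⁅X (sr i), X (sr j)⁆ ≤ dS N 1 := Subgroup.commutator_mono hXi hXj
  obtain ⟨c2, c3⟩ := cover_four R hij h4 (hNd 1) hD
  by_cases hb : ∀ a ∈ X (cyc cs h i j 2), ∀ b ∈ X (sr j), Commute a b
  · have h5 : ⁅X (sr i), X (sr j)⁆ ≤ dS N 2 := by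
      rw [Subgroup.commutator_le]
      intro u hu v hv
      obtain ⟨y, hy, e, he, h6⟩ := exists_mul_of_norm (h3N.trans (hNd 1)) (c3 (hXi hu))
      obtain ⟨y', hy', e', he', h7⟩ := exists_mul_of_norm (h2N.trans (hNd 1)) (c2 (hXj hv))
      have h8 : y⁻¹ * u = e := by rw [h6]; group
      have h9 : y'⁻¹ * v = e' := by rw [h7]; group
      have k1 : Commute y u := by
        have := hc u hu y hy
        rw [mul_inv_eq_iff_eq_mul] at this
        exact this.symm
      have k2 : Commute y v := by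
        refine comm_adj R hij (k := 3) (by omega) (by omega) hy ?_
        have : (3 : ℤ) + 1 = M i j := by omega
        rwa [this, cyc_m cs h hij]
      have k3 : Commute y' y := comm_adj R hij (k := 2) (by omega) (by omega) hy' hy
      have k4 : Commute u y' := comm_adj R hij (k := 1) (by omega) (by omega) (by rwa [cyc_one]) hy'
      rw [← comm_cen k1.inv_left k2.inv_left k3.symm.inv_inv k4.symm.inv_left (hb y' hy' v hv).inv_left, h8, h9]
      exact Subgroup.commutator_mem_commutator he he'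
    obtain ⟨d2, -⟩ := cover_four R hij h4 (hNd 2) h5
    exact (Subgroup.commutator_mono d2 d2).trans
      (comm_sup_le (h2N.trans (hNd 2)) (X_comm R hI (isRoot_cyc cs h i j 2)))
  · push Not at hb
    obtain ⟨a, ha, b, hb, hab⟩ := hb
    have h5 : ⁅a, b⁆ ∈ X (cyc cs h i j 3) := by
      have h6 := comm_Win R hij (k := 2) (l := M i j) (by omega) (by omega) le_rfl ha (y := b)
        (by rwa [cyc_m cs h hij])
      refine (Win_le fun r h7 h8 => ?_ : Win cs h X i j (2 + 1) (M i j - 1) ≤ _) h6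
      have : r = 3 := by omega
      rw [this]
    have h6 : ⁅a, b⁆ ∈ dS N 1 := Subgroup.commutator_mem_commutator (h2N ha) (hXj hb)
    have h7 : mj * ⁅a, b⁆ * mj⁻¹ ∈ X (sr i) := by
      have := R.conj_mem hmj' (isRoot_cyc cs h i j 3) h5
      rwa [right_cyc cs h hij, hM, show (4 : ℤ) - 3 = 1 from rfl, cyc_one] at this
    have hT : T ≤ Subgroup.normalizer (dS N 1 : Set Y) := by
      intro t ht
      refine norm_dS ?_ 1
      rw [mem_normalizer_iff_cj, hN, cj_sup, mem_normalizer_iff_cj.1 (T_norm_LL R i ht),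
        mem_normalizer_iff_cj.1 (T_norm_LL R j ht)]
    have h8 : X (sr i) ≤ dS N 1 := by
      refine (hI i).irr _ hT _ h7 (fun h9 => hab ?_) (conj_mem_of_norm (hNd 1 hmjN) h6)
      rw [← commutatorElement_eq_one_iff_commute]
      exact mul_eq_left.1 (mul_inv_eq_one.1 h9)
    have h9 : X (cyc cs h i j 3) ≤ dS N 1 := by
      have := X_act R hmj' (hNd 1 hmjN) (isRoot_cyc cs h i j 1) (by rwa [cyc_one])
      rwa [right_cyc cs h hij, hM] at this
    have h10 : N ≤ dS N 1 := c3.trans (sup_le h9 le_rfl)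
    exact Subgroup.commutator_mono h10 h10

theorem four_perf (hX : IntComm cs h X) (hI : ∀ i, Irr T (X (sr i))) {i j : I} (hij : i ≠ j) (h4 : M i j = 4) :
    dS (LL X i ⊔ LL X j) 1 ≤ dS (LL X i ⊔ LL X j) 2 := by
  rcases commFour_of_int hX hij h4 with h1 | h1
  · exact four_perf' R hI hij h4 h1
  · rw [sup_comm]
    refine four_perf' R hI hij.symm (by rw [M.symmetric]; exact h4) ?_
    rwa [swap_three (cs := cs) (h := h) hij h4]

/-- **Levi subgroups** -/
theorem ps_MM (hX : IntComm cs h X) (hI : ∀ i, Irr T (X (sr i))) (hL : ∀ i, PS 3 (LL X i)) {J : Set I}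
    (h6 : ∀ i ∈ J, ∀ j ∈ J, M i j ≠ 6) : PS 3 (MM X J) := by
  refine ps_iSup (fun j : J => LL X j.1) ?_ fun j => hL j.1
  intro i j hij x hx y hy
  have hij' : i.1 ≠ j.1 := fun e => hij (Subtype.ext e)
  have hle : LL X i.1 ⊔ LL X j.1 ≤ MM X J := sup_le (LL_le_MM i.2) (LL_le_MM j.2)
  have hxy : ⁅x, y⁆ ∈ dS (LL X i.1 ⊔ LL X j.1) 1 :=
    Subgroup.commutator_mem_commutator (Subgroup.mem_sup_left hx) (Subgroup.mem_sup_right hy)
  rcases h.rel i.1 j.1 hij' with ⟨h0, -⟩ | ⟨h0, -⟩ | ⟨h0, -⟩ | ⟨h0, -⟩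
  · rw [commutatorElement_eq_one_iff_commute.2 (comm_two R hij' h0 hx hy)]
    exact one_mem _
  · exact le_dS_of_perfect (three_perf R hij' h0) hle _ (dS_le _ 1 hxy)
  · exact le_dS_of_perfect (four_perf R hX hI hij' h0) ((dS_le _ 1).trans hle) _ hxy
  · exact absurd h0 (h6 _ i.2 _ j.2)

/-! ### levels -/

omit R in
/-- the root groups of level at least `m` -/
def Lev (cs : CoxeterSystem M W) (h : IsCartan M A) (X : (I → ℤ) → Subgroup Y) (f : (I → ℤ) →+ ℤ) (m : ℤ) :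
    Subgroup Y := RGD.Sup X {x | IsRoot cs h x ∧ 0 ≤ x ∧ m ≤ f x}

theorem comm_lev (hX : IntComm cs h X) (hI : ∀ i, Irr T (X (sr i))) {f : (I → ℤ) →+ ℤ} (hf : ∀ x, 0 ≤ x → 0 ≤ f x)
    {x y : I → ℤ} (hx : IsRoot cs h x) (hx0 : 0 ≤ x) (hy : IsRoot cs h y) (hy0 : 0 ≤ y) {a b : Y} (ha : a ∈ X x)
    (hb : b ∈ X y) : ⁅a, b⁆ ∈ Lev cs h X f (f x + f y) := by
  by_cases hxy : x = y
  · subst hxy
    rw [commutatorElement_eq_one_iff_mul_comm.2 (X_comm R hI hx a ha b hb)]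
    exact one_mem _
  have hxy' : x ≠ -y := by
    intro e
    rw [e] at hx0
    exact hy.not_pos_neg hy0 (neg_nonneg.1 hx0)
  refine KFacts.RgdBorelTits.FS_le (fun z hz => ?_) (hX x y hx hy hxy hxy' a ha b hb)
  obtain ⟨hz, i, j, hi, hj, rfl⟩ := hz
  refine RGD.le_Sup (S := {z | IsRoot cs h z ∧ 0 ≤ z ∧ f x + f y ≤ f z})
    ⟨hz, add_nonneg (smul_nonneg hi.le hx0) (smul_nonneg hj.le hy0), ?_⟩
  rw [map_add, map_zsmul, map_zsmul, smul_eq_mul, smul_eq_mul]
  have h1 := hf x hx0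
  have h2 := hf y hy0
  nlinarith

omit R in
theorem Lev_anti {f : (I → ℤ) →+ ℤ} {a b : ℤ} (hab : a ≤ b) : Lev cs h X f b ≤ Lev cs h X f a :=
  RGD.Sup_mono fun _ hx => ⟨hx.1, hx.2.1, hab.trans hx.2.2⟩

theorem norm_lev (hX : IntComm cs h X) (hI : ∀ i, Irr T (X (sr i))) {f : (I → ℤ) →+ ℤ} (hf : ∀ x, 0 ≤ x → 0 ≤ f x)
    {x : I → ℤ} (hx : IsRoot cs h x) (hx0 : 0 ≤ x) (m : ℤ) :
    X x ≤ Subgroup.normalizer (Lev cs h X f m : Set Y) := by
  refine mem_norm_of fun a ha z hz => ?_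
  have h1 : Lev cs h X f m ≤ (Lev cs h X f m).comap (MulAut.conj a).toMonoidHom := by
    refine RGD.Sup_le fun y hy b hb => ?_
    change a * b * a⁻¹ ∈ Lev cs h X f m
    have e : a * b * a⁻¹ = ⁅a, b⁆ * b := by rw [commutatorElement_def]; group
    rw [e]
    refine mul_mem (Lev_anti ?_ (comm_lev R hX hI hf hx hx0 hy.1 hy.2.1 ha hb))
      (RGD.le_Sup (S := {z | IsRoot cs h z ∧ 0 ≤ z ∧ m ≤ f z}) hy hb)
    have h2 := hf x hx0
    have h3 := hy.2.2
    omega
  exact h1 hz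

theorem comm_Lev (hX : IntComm cs h X) (hI : ∀ i, Irr T (X (sr i))) {f : (I → ℤ) →+ ℤ} (hf : ∀ x, 0 ≤ x → 0 ≤ f x)
    (a b : ℤ) : ⁅Lev cs h X f a, Lev cs h X f b⁆ ≤ Lev cs h X f (a + b) := by
  refine comm_le_of_gen _ _ (fun x => norm_lev R hX hI hf x.2.1 x.2.2.1 _)
    (fun x => norm_lev R hX hI hf x.2.1 x.2.2.1 _) fun x y u hu v hv => ?_
  exact Lev_anti (add_le_add x.2.2.2 y.2.2.2) (comm_lev R hX hI hf x.2.1 x.2.2.1 y.2.1 y.2.2.1 hu hv)

theorem dS_Lev (hX : IntComm cs h X) (hI : ∀ i, Irr T (X (sr i))) {f : (I → ℤ) →+ ℤ} (hf : ∀ x, 0 ≤ x → 0 ≤ f x)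
    (k : ℕ) : dS (Lev cs h X f 1) k ≤ Lev cs h X f (2 ^ k) := by
  induction k with
  | zero => exact le_rfl
  | succ k ih =>
    refine (Subgroup.commutator_mono ih ih).trans ((comm_Lev R hX hI hf _ _).trans (le_of_eq ?_))
    rw [pow_succ, mul_two]

/-- **Unipotent radicals** -/
theorem dS_VJ (hX : IntComm cs h X) (hI : ∀ i, Irr T (X (sr i))) (O : Finset I) {J : Set I} (hJ : ∀ i, i ∉ J → i ∈ O)
    {a : ℕ} (hb : ∀ x, IsRoot cs h x → ∑ i ∈ O, x i < 2 ^ a) : dS (VJ cs h X J) a = ⊥ := by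
  let f : (I → ℤ) →+ ℤ :=
    { toFun := fun x => ∑ i ∈ O, x i
      map_zero' := by simp
      map_add' := fun x y => by simp [Finset.sum_add_distrib] }
  have hf : ∀ x, 0 ≤ x → 0 ≤ f x := fun x hx => Finset.sum_nonneg fun i _ => hx i
  have h1 : VJ cs h X J ≤ Lev cs h X f 1 := by
    refine RGD.Sup_mono ?_
    rintro x ⟨hx, hx0, k, hk, hk0⟩
    exact ⟨hx, hx0, le_trans hk0 (Finset.single_le_sum (f := fun i => x i) (fun i _ => hx0 i) (hJ k hk))⟩
  rw [eq_bot_iff]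
  refine (dS_mono h1 a).trans ((dS_Lev R hX hI hf a).trans (RGD.Sup_le fun x hx => ?_))
  exact absurd hx.2.2 (not_le.2 (hb x hx.1))

end Cfsg.Agent.DS.Par
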