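import Cfsg.Agent.DS.Ex.BN
import Cfsg.Agent.H85.RelStr

/-!
# The derived series of a finite group with relative root data (helper60)

`D : Rel R S G ι`, `T` commutative, an element of the relative Weyl group maps `S⁺` to `S⁻`.

* `sbn` : the data `BN.SBN`;
* `ps` : `PS (d + 1) G` if `⟨X a : a ∈ S⁺⟩` has derived length at most `d`, `4 ≤ d`;
* `commutator_le` : `G' ≤ K` if `K` is normalized by `G` and contains `⟨X a : a ∈ S⁺⟩ ⊓ G`.
-/

set_option autoImplicit false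
set_option linter.unusedSectionVars false

namespace Cfsg.Agent.DS.Ex.RelPS

open CoxeterSystem Cfsg.Agent.ChevalleyStructure.CoxeterGeom Cfsg.Agent.Tits.Roots Cfsg.Agent.Tits.Core
  Cfsg.Agent.Nodes.Reps Cfsg.Agent.Nodes.BNOf Cfsg.Agent.Nodes.Bruhat Cfsg.Agent.Nodes.OppDec
  Cfsg.Agent.Nodes.NormalForm Cfsg.Agent.BpExc.Zc Cfsg.Agent.BpExc.RelBN Cfsg.Agent.BpExc.SubBN
  Cfsg.Agent.BpExc.TitsRed Cfsg.Agent.H85.RelStr Cfsg.Agent.H936 Cfsg.Agent.DS.Cl Cfsg.Agent.DS.Ex.BN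
open scoped commutatorElement

variable {I W Y : Type*} [Fintype I] [DecidableEq I] [Group W] [Group Y] {M : CoxeterMatrix I}
  {cs : CoxeterSystem M W} {A : I → I → ℤ} {h : IsCartan M A} {p : ℕ} {T : Subgroup Y} {n : I → Y}
  {X : (I → ℤ) → Subgroup Y}
  {R : RGD cs h p T n X} {S : Set (I → ℤ)} {G : Subgroup Y} {ι : Type*} (D : Rel R S G ι) [Finite W]

theorem neg_cl {i : ι} {a : I → ℤ} (ha : a ∈ clN S (D.f i)) : -a ∈ cl S (D.f i) :=
  ⟨D.neg a ha.1, neg_nonneg.2 ha.2.1, by rw [map_neg, ha.2.2, neg_zero]⟩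

theorem neg_clN {i : ι} {a : I → ℤ} (ha : a ∈ cl S (D.f i)) : -a ∈ clN S (D.f i) :=
  ⟨D.neg a ha.1, neg_nonpos.2 ha.2.1, by rw [map_neg, ha.2.2, neg_zero]⟩

theorem LL_eq (i : ι) : LL (BpExc.FixGood.Xs D) (D.kk i) =
    (RGD.Sup X (cl S (D.f i))).subgroupOf G ⊔ (RGD.Sup X (clN S (D.f i))).subgroupOf G := by
  unfold LL
  rw [BpExc.FixGood.Xs_kk]
  congr 1
  apply le_antisymm
  · rintro _ ⟨x, hx, rfl⟩
    exact conj_mem_Sup R (D.rp i) (S := cl S (D.f i)) (S' := clN S (D.f i)) (fun a ha => D.root a ha.1)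
      (fun a ha => D.w_cl i ha) hx
  · intro y hy
    refine ⟨(D.kk i)⁻¹ * y * D.kk i, ?_, ?_⟩
    · refine conj_mem_Sup' R (D.rp i) (S := clN S (D.f i)) (S' := cl S (D.f i)) (fun a ha => D.root a ha.1)
        (fun a ha => ?_) hy
      have h1 := neg_cl D (D.w_cl i (neg_cl D ha))
      rwa [map_neg, neg_neg, ← D.w_inv] at h1
    · show D.kk i * ((D.kk i)⁻¹ * y * D.kk i) * (D.kk i)⁻¹ = y
      group

theorem hc_of_iso {i : ι} (hi : Iso D.bn (D.kk i)) :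
    ∀ i' ∈ ({i} : Set ι), ∀ j ∉ ({i} : Set ι), D.w i' * D.w j = D.w j * D.w i' := by
  rintro i' rfl j hj
  have h1 := hi (D.kk j) ⟨j, rfl⟩ (fun e => hj (BpExc.FixGood.kk_injective D e))
  have h2 := R.eq_one_of_mem_B ((((D.rp j).mul (D.rp i')).mul (D.rp j).inv).mul (D.rp i').inv) (D.bn_B_le h1)
  rw [mul_inv_eq_one, mul_inv_eq_iff_eq_mul] at h2
  exact h2.symm

theorem cl_sub_SJ {J : Set ι} {i : ι} (hi : i ∈ J) : cl S (D.f i) ⊆ SJ D J := fun a ha =>
  ⟨ha.1, 1, one_mem _, i, hi, by rw [map_one, Module.End.one_apply]; exact ha⟩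

theorem LL_le_SJ (i : ι) {y : ↥G} (hy : y ∈ LL (BpExc.FixGood.Xs D) (D.kk i)) :
    (y : Y) ∈ RGD.Sup X (SJ D {i}) := by
  rw [LL_eq] at hy
  have h1 : (RGD.Sup X (cl S (D.f i))).subgroupOf G ⊔ (RGD.Sup X (clN S (D.f i))).subgroupOf G ≤
      (RGD.Sup X (SJ D {i})).subgroupOf G := by
    have h2 : cl S (D.f i) ⊆ SJ D {i} := cl_sub_SJ D (J := {i}) (Set.mem_singleton i)
    have h3 : clN S (D.f i) ⊆ SJ D {i} := fun a ha => by
      have h4 := SJ_neg D (h2 (neg_cl D ha))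
      rwa [neg_neg] at h4
    exact sup_le (Subgroup.comap_mono (RGD.Sup_mono h2)) (Subgroup.comap_mono (RGD.Sup_mono h3))
  exact h1 hy

theorem f_eq_zero {i : ι} {a : I → ℤ} (ha : a ∈ SJ D {i}) : D.f i a = 0 := by
  obtain ⟨-, w, hw, i', rfl, h1⟩ := ha
  have h2 : ∀ x, D.f i' (rep cs h w x) = D.f i' x := by
    unfold H85.RelStr.WJ at hw
    clear h1
    induction hw using Subgroup.closure_induction with
    | mem x hx =>
      obtain ⟨j, rfl, rfl⟩ := hx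
      exact D.wf _
    | one => intro x; rw [map_one, Module.End.one_apply]
    | mul x y _ _ h1 h2 => intro z; rw [rep_mul_apply, h1, h2]
    | inv x _ h1 =>
      intro z
      have h2 := h1 (rep cs h x⁻¹ z)
      rw [rep_apply_inv] at h2
      exact h2.symm
  rw [← h2]
  exact h1.2.2

variable [Finite ↥G] [Fact p.Prime] (hZ : CommZ cs h X) (hS : ZClosed cs h S)
  (hT : ∀ a ∈ T, ∀ b ∈ T, a * b = b * a)
  (hopp : ∃ v ∈ WR D, ∃ g ∈ G, Rp cs R.nsys v g ∧ ∀ a ∈ Sp S, rep cs h v a ≤ 0)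

include hZ hS hT hopp

/-- **The split (B, N)-pair.** -/
theorem sbn : SBN D.bn p ((RGD.Sup X (Sp S)).subgroupOf G) (T.subgroupOf G) (BpExc.FixGood.Xs D) where
  toDat := by
    obtain ⟨v, -, g, hg, h1, h2⟩ := hopp
    exact BpExc.FixGood.dat D hZ hS (Group.isSolvable_of_comm fun a b => Subtype.ext (hT a a.2 b b.2))
      ⟨v, g, h1, hg, h2⟩
  pU := (R.isPGroup_of_pos (S := Sp S) fun a ha => ⟨D.root a ha.1, ha.2⟩).comap_subtype
  H_le := le_sup_right
  B_eq := by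
    intro b hb
    obtain ⟨u, hu, huG, t, ht, htG, e⟩ := D.mem_bn_B.1 hb
    exact ⟨⟨u, huG⟩, hu, ⟨t, htG⟩, ht, Subtype.ext e⟩
  Hc := fun a ha b hb => Subtype.ext (hT a ha b hb)
  HX := by
    rintro _ ⟨i, rfl⟩ t ht x hx
    change x ∈ BpExc.FixGood.Xs D (D.kk i) at hx
    change _ ∈ BpExc.FixGood.Xs D (D.kk i)
    rw [BpExc.FixGood.Xs_kk] at hx ⊢
    exact D.T_norm ht (fun a ha => D.root a ha.1) hx
  sH := by
    rintro _ ⟨i, rfl⟩ t ht
    have h1 := (Subgroup.mem_normalizer_iff.1 (inv_mem (D.rp i).mem_normalizer) (t : Y)).1 ht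
    rw [inv_inv] at h1
    exact h1
  sq := by
    rintro _ ⟨i, rfl⟩
    exact D.sq i
  free := by
    rintro _ ⟨i, rfl⟩ x hx hB
    change x ∈ BpExc.FixGood.Xs D (D.kk i) at hx
    rw [BpExc.FixGood.Xs_kk] at hx
    by_contra h1
    exact D.not_le i hx (fun e => h1 (Subtype.ext e)) (D.bn_B_le hB)
  dec := by
    rintro _ ⟨i, rfl⟩ hi u hu
    have hc := hc_of_iso D hi
    obtain ⟨v0, hv0, -, -, -, hneg⟩ := hopp
    obtain ⟨v, hv, x, hx, hxG, e⟩ := D.dec i u hu u.2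
    have hvG : v ∈ G := by
      have : v = (u : Y) * x⁻¹ := by rw [e]; group
      rw [this]
      exact G.mul_mem u.2 (G.inv_mem hxG)
    refine ⟨⟨v, hvG⟩, RGD.Sup_mono (D.cp_sub i) hv, ⟨x, hxG⟩, ?_, Subtype.ext e, ?_⟩
    · change _ ∈ BpExc.FixGood.Xs D (D.kk i)
      rw [BpExc.FixGood.Xs_kk]
      exact hx
    · rw [Subgroup.mem_centralizer_iff]
      intro y hy
      refine Subtype.ext (commute_Sup D hc hZ hS (LL_le_SJ D i hy) ?_)
      refine RGD.Sup_mono (S := cp S (D.f i)) (S' := SJ D {i}ᶜ) (fun a ha => ?_) hv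
      rcases cover D hc ⟨v0, hv0, hneg⟩ ha.1 with h1 | h1
      · exact absurd (f_eq_zero D h1) ha.2.2.ne'
      · exact h1
  cen := by
    rintro _ ⟨i, rfl⟩ hi _ ⟨j, rfl⟩ hij x hx
    have hc := hc_of_iso D hi
    change x ∈ BpExc.FixGood.Xs D (D.kk j) at hx
    rw [BpExc.FixGood.Xs_kk] at hx
    rw [Subgroup.mem_centralizer_iff]
    intro y hy
    refine Subtype.ext (commute_Sup D hc hZ hS (LL_le_SJ D i hy) ?_)
    exact RGD.Sup_mono (cl_sub_SJ D (J := {i}ᶜ) (fun e => hij (by rw [show j = i from e]))) hx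
  nor := by
    rintro _ ⟨i, rfl⟩ hi _ ⟨j, rfl⟩ hij y hy
    have hji : j ∉ ({i} : Set ι) := fun e => hij (by rw [show j = i from e])
    have hc := hc_of_iso D hi i rfl j hji
    have hij' : i ≠ j := fun e => hji e.symm
    change y ∈ LL (BpExc.FixGood.Xs D) (D.kk i) at hy
    change D.kk j * y * (D.kk j)⁻¹ ∈ LL (BpExc.FixGood.Xs D) (D.kk i)
    rw [LL_eq] at hy ⊢
    have h1 : (RGD.Sup X (cl S (D.f i))).subgroupOf G ⊔ (RGD.Sup X (clN S (D.f i))).subgroupOf G ≤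
        ((RGD.Sup X (cl S (D.f i))).subgroupOf G ⊔ (RGD.Sup X (clN S (D.f i))).subgroupOf G).comap
          (MulAut.conj (D.kk j)).toMonoidHom := by
      refine sup_le (fun x hx => Subgroup.mem_sup_left ?_) fun x hx => Subgroup.mem_sup_right ?_
      · exact conj_mem_Sup R (D.rp j) (S := cl S (D.f i)) (S' := cl S (D.f i)) (fun a ha => D.root a ha.1)
          (fun a ha => BpExc.FixGood.map_wall D hij' hc ha) hx
      · refine conj_mem_Sup R (D.rp j) (S := clN S (D.f i)) (S' := clN S (D.f i)) (fun a ha => D.root a ha.1)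
          (fun a ha => ?_) hx
        have h2 := neg_clN D (BpExc.FixGood.map_wall D hij' hc (neg_cl D ha))
        rwa [map_neg, neg_neg] at h2
    exact h1 hy

/-- **The derived series of `G`.** -/
theorem ps {d : ℕ} (hd : 4 ≤ d) (hU : dS (RGD.Sup X (Sp S)) d = ⊥) : PS (d + 1) G := by
  refine (sbn D hZ hS hT hopp).ps hd ?_
  rw [← Subgroup.map_eq_bot_iff_of_injective _ G.subtype_injective, dS_map, eq_bot_iff, ← hU]
  refine dS_mono ?_ d
  rintro _ ⟨x, hx, rfl⟩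
  exact hx

/-- **The commutator subgroup of `G`.** -/
theorem commutator_le {K : Subgroup Y} (hK : ∀ g ∈ G, ∀ x ∈ K, g * x * g⁻¹ ∈ K)
    (hU : ∀ u ∈ RGD.Sup X (Sp S), u ∈ G → u ∈ K) : dS G 1 ≤ K := by
  have hn : (K.subgroupOf G).Normal := ⟨fun x hx g => hK g g.2 x hx⟩
  have h1 := (sbn D hZ hS hT hopp).commutator_le (K.subgroupOf G) (fun u hu => hU u hu u.2)
  have h2 := Subgroup.map_mono (f := G.subtype) h1
  rw [dS_map, ← MonoidHom.range_eq_map, Subgroup.range_subtype] at h2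
  refine h2.trans ?_
  rintro _ ⟨x, hx, rfl⟩
  exact hx

end Cfsg.Agent.DS.Ex.RelPS
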