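import Cfsg.Agent.DS.Ex.Defs
import Cfsg.Agent.DS.Cl.Grp
import Cfsg.Agent.BpExc.FixRel

/-!
# S5881, toral case: the combinatorial interface (helper60)

`Pres S g` : the lattice automorphism `g` preserves `S` and the positive roots of `S`.
`LA cs h S V` : `V` is a group of lattice automorphisms preserving the roots, `S` and the positive roots of `S`.
`InW cs h V` : the elements of `V` are induced by `W`.
Boxes: `BoxCE`, `BoxCS` (types `E₆, E₇, E₈`), `BoxCF` (type `F₄`), `BoxCW` (the Weyl groups).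
-/

set_option autoImplicit false
set_option linter.unusedSectionVars false

namespace Cfsg.Agent.DS.Ex

open CoxeterSystem Cfsg Cfsg.Lie Cfsg.Lie.ChevalleyDatum
open Cfsg.Agent.ChevalleyStructure Cfsg.Agent.ChevalleyStructure.CoxeterGeom
  Cfsg.Agent.ChevalleyStructure.CoxeterGeomTypes
open Cfsg.Agent.Tits.Roots Cfsg.Agent.Tits.Core Cfsg.Agent.Nodes.Coroot Cfsg.Agent.Nodes.RGDChev
open Cfsg.Agent.BpExc.Zc Cfsg.Agent.BpExc.RelBN Cfsg.Agent.H936 Cfsg.Agent.DS.Cl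

section Gen

variable {I W : Type*} [Fintype I] [DecidableEq I] [Group W] {M : CoxeterMatrix I}
  (cs : CoxeterSystem M W) {A : I → I → ℤ} (h : IsCartan M A)

/-- `g` preserves `S` and the positive roots of `S` -/
def Pres (S : Set (I → ℤ)) (g : (I → ℤ) ≃+ (I → ℤ)) : Prop :=
  (∀ a, g a ∈ S ↔ a ∈ S) ∧ ∀ a ∈ S, 0 ≤ a → 0 ≤ g a

/-- a group of lattice automorphisms preserving the roots, `S` and the positive roots of `S` -/
def LA (S : Set (I → ℤ)) (V : Subgroup (Equiv.Perm (I → ℤ))) : Prop :=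
  ∀ v ∈ V, ∃ g : (I → ℤ) ≃+ (I → ℤ), (∀ a, v a = g a) ∧ (∀ a, IsRoot cs h (g a) ↔ IsRoot cs h a) ∧ Pres S g

/-- the elements of `V` are induced by `W` -/
def InW (V : Subgroup (Equiv.Perm (I → ℤ))) : Prop := ∀ v ∈ V, ∃ w : W, ∀ a, v a = rep cs h w a

/-- the roots of `S` and the roots orthogonal to `S` -/
def Star (S : Set (I → ℤ)) : Set (I → ℤ) := S ∪ {b | IsRoot cs h b ∧ ∀ a ∈ S, cpr cs h b a = 0}

end Gen

/-- the simply laced types -/
def TypE (D : ChevalleyDatum) : Prop := D = chevE6 ∨ D = chevE7 ∨ D = chevE8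

/-- [CE] `E₆, E₇, E₈`: no root is orthogonal to `S` -/
def BoxCE : Prop := ∀ (D : ChevalleyDatum) (l : ℕ) (M : CoxeterMatrix (Fin l)) (hp : IsType D l M), TypE D →
  ∀ S : Set (Fin l → ℤ), ZClosed M.toCoxeterSystem hp.isCartan S → (∀ a ∈ S, -a ∈ S) →
    (∀ b, IsRoot M.toCoxeterSystem hp.isCartan b → ∃ a ∈ S, cpr M.toCoxeterSystem hp.isCartan b a ≠ 0) →
    ∀ V : Subgroup (Equiv.Perm (Fin l → ℤ)), LA M.toCoxeterSystem hp.isCartan S V →
      InW M.toCoxeterSystem hp.isCartan (dS V 1) →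
      ∃ d : ℕ, 4 ≤ d ∧ d ≤ 5 ∧ (∃ f : (Fin l → ℤ) →+ ℤ, ∀ a ∈ Sp S, 0 < f a ∧ f a < 2 ^ d) ∧ PS (7 - d) (dS V 1)

/-- [CS] `E₆, E₇, E₈`: the set `Star S` -/
def BoxCS : Prop := ∀ (D : ChevalleyDatum) (l : ℕ) (M : CoxeterMatrix (Fin l)) (hp : IsType D l M), TypE D →
  ∀ S : Set (Fin l → ℤ), ZClosed M.toCoxeterSystem hp.isCartan S → (∀ a ∈ S, -a ∈ S) →
    ZClosed M.toCoxeterSystem hp.isCartan (Star M.toCoxeterSystem hp.isCartan S) ∧
    (∀ a ∈ Star M.toCoxeterSystem hp.isCartan S, -a ∈ Star M.toCoxeterSystem hp.isCartan S) ∧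
    (∀ b, IsRoot M.toCoxeterSystem hp.isCartan b → ∃ a ∈ Star M.toCoxeterSystem hp.isCartan S,
      cpr M.toCoxeterSystem hp.isCartan b a ≠ 0) ∧
    (∀ g : (Fin l → ℤ) ≃+ (Fin l → ℤ), (∀ a, IsRoot M.toCoxeterSystem hp.isCartan (g a) ↔
      IsRoot M.toCoxeterSystem hp.isCartan a) → (∀ a, g a ∈ S ↔ a ∈ S) →
      ∀ a, g a ∈ Star M.toCoxeterSystem hp.isCartan S ↔ a ∈ Star M.toCoxeterSystem hp.isCartan S) ∧
    ∀ a ∈ S, ∀ b ∈ Star M.toCoxeterSystem hp.isCartan S, b ∉ S → ∀ z, ¬ ZB M.toCoxeterSystem hp.isCartan b a z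

/-- [CF] `F₄`: the stabilizer of a non-empty set of positive roots -/
def BoxCF : Prop := ∀ (l : ℕ) (M : CoxeterMatrix (Fin l)) (hp : IsType chevF4 l M),
  (∀ a, IsRoot M.toCoxeterSystem hp.isCartan a → ht a < 16) ∧
  ∀ S : Set (Fin l → ℤ), (∀ a ∈ S, IsRoot M.toCoxeterSystem hp.isCartan a) → (Sp S).Nonempty →
    ∀ V : Subgroup (Equiv.Perm (Fin l → ℤ)), LA M.toCoxeterSystem hp.isCartan S V →
      InW M.toCoxeterSystem hp.isCartan V → PS 3 V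

/-- [CW] the Weyl groups -/
def BoxCW : Prop := ∀ (D : ChevalleyDatum) (l : ℕ) (M : CoxeterMatrix (Fin l)) (hp : IsType D l M), Typ D →
  ∀ V : Subgroup (Equiv.Perm (Fin l → ℤ)), InW M.toCoxeterSystem hp.isCartan V → PS 8 V ∧ (l ≠ 8 → PS 7 V)

end Cfsg.Agent.DS.Ex
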