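import Cfsg.Agent.DS.Ex.TorFrame
import Cfsg.Agent.DS.Ex.RelPS
import Cfsg.Agent.H71.Dl.Height

/-!
# S5881, toral case: the fixed points of `σ` in `M(S) T` (helper60)

`σ` a Frobenius automorphism with `FR σ g`, `Pres S g`.

* `level` : the relative root data of `DD ⊓ C(σ)`;
* `fix_main` : `PS (d + 1) (DD ⊓ C(σ))` if `0 < f < 2 ^ d` on the positive roots of `S`, `4 ≤ d`;
  the commutator subgroup lies in every normalized group containing the `p`-elements;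
  there is a non-trivial `p`-element of `M(S)` fixed by `σ`.
-/

set_option autoImplicit false
set_option linter.unusedSectionVars false

namespace Cfsg.Agent.DS.Ex.Tor

open CoxeterSystem Cfsg Cfsg.Lie Cfsg.Lie.ChevalleyDatum
open Cfsg.Agent.ChevalleyStructure Cfsg.Agent.ChevalleyStructure.Elts Cfsg.Agent.ChevalleyStructure.CoxeterGeom
  Cfsg.Agent.ChevalleyStructure.CoxeterGeomTypes
open Cfsg.Agent.Tits.Roots Cfsg.Agent.Tits.Core Cfsg.Agent.Nodes Cfsg.Agent.Nodes.Reps Cfsg.Agent.Nodes.BNOf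
  Cfsg.Agent.Nodes.RGDChev Cfsg.Agent.Nodes.Bruhat Cfsg.Agent.Nodes.NormalForm
open Cfsg.Agent.KFacts.RgdField Cfsg.Agent.KFacts.RgdChevCoord
open Cfsg.Agent.BpExc Cfsg.Agent.BpExc.TorCent Cfsg.Agent.BpExc.TorChev Cfsg.Agent.BpExc.Tow
  Cfsg.Agent.BpExc.TowChev Cfsg.Agent.BpExc.Fr Cfsg.Agent.BpExc.LangFr Cfsg.Agent.BpExc.Zc Cfsg.Agent.BpExc.RelBN
  Cfsg.Agent.BpExc.SubBN Cfsg.Agent.GpExc.Field
open Cfsg.Agent.H469.Exc Cfsg.Agent.DS.Nt Cfsg.Agent.DS.Cl Cfsg.Agent.H936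
open scoped commutatorElement

variable {D : ChevalleyDatum} {l : ℕ} {M : CoxeterMatrix (Fin l)} {hp : IsType D l M} {p : ℕ} [Fact p.Prime]
  {S : Set (Fin l → ℤ)}

theorem dS_MS (hS : ZClosed M.toCoxeterSystem hp.isCartan S) {d : ℕ} {f : (Fin l → ℤ) →+ ℤ}
    (hf : ∀ a ∈ Sp S, 0 < f a ∧ f a < 2 ^ d) : dS (MS D p (Sp S)) d = ⊥ := by
  have h1 := H71.Dl.derived_le (X := XX D l (KK p)) (fun k => {a | a ∈ Sp S ∧ 2 ^ k ≤ f a})
    (fun k a ha => ⟨ha.1, le_trans (pow_le_pow_right₀ one_le_two (Nat.le_succ k)) ha.2⟩) (by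
      intro k x hx y hy a ha b hb
      by_cases hxy : x = y
      · subst hxy
        rw [commutatorElement_eq_one_iff_mul_comm.2 (X_comm (hp := hp) (hS.root x hx.1.1) ha hb)]
        exact one_mem _
      · have h2 := commZ hp p x y (hS.root x hx.1.1) (hS.root y hy.1.1) hxy (fun e => by
          have h3 := (hf x hx.1).1
          have h4 := (hf y hy.1).1
          rw [e, map_neg] at h3
          omega) a ha b hb
        refine RGD.Sup_mono (S := {z | ZB M.toCoxeterSystem hp.isCartan x y z})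
          (S' := {a | a ∈ Sp S ∧ 2 ^ (k + 1) ≤ f a}) (fun z hz => ⟨hS.nn.btw x hx.1 y hy.1 z hz, ?_⟩) h2
        obtain ⟨u, v, hu, hv, e⟩ := ZB.map hz f
        have h3 := hx.2
        have h4 := hy.2
        have h5 : (0 : ℤ) < 2 ^ k := by positivity
        rw [e, pow_succ]
        nlinarith)
    (U := MS D p (Sp S)) (RGD.Sup_mono (S := Sp S) (S' := {a | a ∈ Sp S ∧ 2 ^ 0 ≤ f a})
      fun a ha => ⟨ha, by rw [pow_zero]; exact (hf a ha).1⟩) d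
  rw [Cl.map_derivedSeries_eq] at h1
  rw [eq_bot_iff]
  refine h1.trans (iSup_le fun a => ?_)
  exact absurd a.2.2 (not_le.2 (hf a a.2.1).2)

variable {e : ℕ} {σ : MulAut (YY D p)} {g : (Fin l → ℤ) ≃+ (Fin l → ℤ)}

/-- **The frame at a finite level.** -/
theorem level (hS : CS hp S) (he : 0 < e) (hσ : IsFrob p e σ) (F : FR hp p σ g) (P : Pres S g)
    [Finite ↥(fixedSubgroup σ)] : ∃ E : Lev (KK p), FixRel.Fr ((tw hp p).rgd E) S σ g ∧
      (∀ a ∈ S, ∃ y ∈ Xj hp E a, y ≠ 1 ∧ ∀ m, (⇑g)^[m] a = a → (σ ^ m) y = y) ∧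
      FixRel.Gf (Tj hp E) (Xj hp E) S σ = DD D p S ⊓ fixedSubgroup σ := by
  have := finW hp
  have hk := locFin p
  have H := tw hp p
  have hTL := TLe hp p
  have hXL := XLe hp p
  have hfin : Finite ↥(DD D p S ⊓ fixedSubgroup σ) :=
    Finite.of_injective (Subgroup.inclusion (inf_le_right : DD D p S ⊓ fixedSubgroup σ ≤ fixedSubgroup σ))
      (Subgroup.inclusion_injective _)
  obtain ⟨E1, hE1⟩ := HX.fr_level hp M.toCoxeterSystem hk hσ F
  obtain ⟨E2, hE2⟩ := HX.exists_fixed_level hp M.toCoxeterSystem hk he hσ F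
  obtain ⟨E3, hE3⟩ := EndInst.exists_level_GS hp M.toCoxeterSystem hk p S (Q := DD D p S ⊓ fixedSubgroup σ) inf_le_left
  obtain ⟨E4, a1, a2⟩ := dir_lev hk E1 E2
  obtain ⟨E, b1, b2⟩ := dir_lev hk E4 E3
  have FE := hE1 E (a1.trans b1)
  refine ⟨E, ?_, fun a ha => hE2 E (a2.trans b1) a (hS.root a ha), ?_⟩
  · exact
    { tor := fun s hs => (FE.tor s).2 hs
      root := fun a ha => (FE.root a).2 ha
      map := fun a ha u hu => (FE.map a ha u).2 hu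
      rp := fun w kk hkk => by
        have hkk' : RP hp p w kk := H.rp_up hkk
        obtain ⟨w', hw'⟩ := rp_of_norm (hp := hp) (d := σ kk) fun s => by
          obtain ⟨s', rfl⟩ := σ.surjective s
          rw [← map_mul, ← map_inv, ← map_mul, F.tor, F.tor]
          exact hkk'.conj_iff s'
        obtain ⟨k0, h0, h0'⟩ := H.exists_rp w'
        have h1 : k0⁻¹ * σ kk ∈ TT D (KK p) := by
          rw [← hTL]
          exact h0'.unique hw'
        have h2 : k0⁻¹ * σ kk ∈ (emb hp.inList E.1.subtype).range := by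
          rw [← GGj_eq hp M.toCoxeterSystem]
          refine mul_mem (inv_mem ?_) (NChev.fr_GG FE ?_)
          · exact (mem_GG (H.rgd E)).2 ⟨w', cell_of_rp (h0 E)⟩
          · exact (mem_GG (H.rgd E)).2 ⟨w, cell_of_rp hkk⟩
        have h3 : k0⁻¹ * σ kk ∈ Tj hp E := (HX.mem_Tj hp M.toCoxeterSystem hk p).2 ⟨h1, h2⟩
        have e : σ kk = k0 * (k0⁻¹ * σ kk) := by group
        exact ⟨w', by rw [e]; exact (h0 E).mul_mem_right h3⟩
      mem := fun a ha => (P.1 a).2 ha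
      pos := P.2 }
  · apply le_antisymm
    · rintro y ⟨hy, hyτ⟩
      exact ⟨EndInst.GS_le hp hk _ E hy, hyτ⟩
    · rintro y hy
      exact ⟨hE3 E b2 hy, hy.2⟩

theorem Sup_level_le (E : Lev (KK p)) (S' : Set (Fin l → ℤ)) : RGD.Sup (Xj hp E) S' ≤ MS D p S' := by
  rw [MS, ← XLe hp p]
  exact Sup_le_SupL E S'

/-- **The fixed points in `M(S) T`.** -/
theorem fix_main (hS : CS hp S) (he : 0 < e) (hσ : IsFrob p e σ) (F : FR hp p σ g) (P : Pres S g)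
    [Finite ↥(fixedSubgroup σ)] :
    (∀ (d : ℕ) (f : (Fin l → ℤ) →+ ℤ), 4 ≤ d → (∀ a ∈ Sp S, 0 < f a ∧ f a < 2 ^ d) →
      PS (d + 1) ↥(DD D p S ⊓ fixedSubgroup σ)) ∧
    (∀ K : Subgroup (YY D p), (∀ y ∈ DD D p S ⊓ fixedSubgroup σ, ∀ x ∈ K, y * x * y⁻¹ ∈ K) →
      (∀ u ∈ MS D p S, σ u = u → (∃ j : ℕ, u ^ p ^ j = 1) → u ∈ K) → dS (DD D p S ⊓ fixedSubgroup σ) 1 ≤ K) ∧
    (S.Nonempty → ∃ u ∈ MS D p S, u ≠ 1 ∧ σ u = u ∧ ∃ j : ℕ, u ^ p ^ j = 1) := by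
  have := finW hp
  obtain ⟨E, h1, h2, h3⟩ := level hS he hσ F P
  have hZ := EndInst.commZ hp M.toCoxeterSystem E
  obtain ⟨lam, hlam, hpos⟩ := h1.exists_lam hS.cl
  have hfix := FixEnd.fx h1 hZ hS.cl hS.neg hlam hpos h2
  have hopp := FixRel.exists_opp h1 hZ hS.cl hS.neg hlam hpos hfix
  set Dr := FixRel.rel h1 hZ hS.cl hS.neg hlam hpos hfix with hDr
  have hfin : Finite ↥(FixRel.Gf (Tj hp E) (Xj hp E) S σ) :=
    Finite.of_injective (Subgroup.inclusion (inf_le_right : FixRel.Gf (Tj hp E) (Xj hp E) S σ ≤ fixedSubgroup σ))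
      (Subgroup.inclusion_injective _)
  have hTE : Tj hp E ≤ TT D (KK p) := by rw [← TLe hp p]; exact le_TL E
  have hT : ∀ a ∈ Tj hp E, ∀ b ∈ Tj hp E, a * b = b * a := fun a ha b hb => TT_comm hp a (hTE ha) b (hTE hb)
  have hU : IsPGroup p ↥(RGD.Sup (Xj hp E) (Sp S)) :=
    ((tw hp p).rgd E).isPGroup_of_pos fun a ha => ⟨hS.root a ha.1, ha.2⟩
  have hel : ∀ u ∈ RGD.Sup (Xj hp E) (Sp S), u ∈ MS D p S ∧ ∃ j : ℕ, u ^ p ^ j = 1 := by
    intro u hu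
    obtain ⟨j, hj⟩ := hU ⟨u, hu⟩
    exact ⟨RGD.Sup_mono (S := Sp S) (S' := S) (fun a ha => ha.1) (Sup_level_le E _ hu), j, congrArg Subtype.val hj⟩
  rw [← h3]
  refine ⟨fun d f hd hf => RelPS.ps Dr hZ hS.cl hT hopp hd ?_, fun K hK hu => RelPS.commutator_le Dr hZ hS.cl hT hopp hK
    fun u h4 h5 => hu u (hel u h4).1 h5.2 (hel u h4).2, ?_⟩
  · rw [eq_bot_iff, ← dS_MS (hp := hp) (p := p) hS.cl hf]
    exact dS_mono (Sup_level_le E _) d
  · rintro ⟨a, ha⟩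
    obtain ⟨b, hb⟩ : (Sp S).Nonempty := by
      rcases (hS.root a ha).pos_or_neg with h4 | h4
      · exact ⟨a, ha, h4⟩
      · exact ⟨-a, hS.neg a ha, neg_nonneg.2 h4⟩
    obtain ⟨f, hfI, hf0, ⟨a1, ha1, hfa1⟩, -, hfpar⟩ := exists_expose (P := Sp S)
      (hS.cl.finite.subset fun a ha => ha.1) hlam (neg_mem hlam) hpos ⟨b, hb, by
        rw [AddMonoidHom.neg_apply]
        exact neg_neg_of_pos (hpos b hb)⟩
    have hw : FixRel.Wall S g lam (cl S f) := ⟨⟨a1, ha1.1, ha1.2, hfa1⟩, f, hfI, hf0, rfl,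
      fun a ha b hb g hg => hfpar a ⟨ha.1, ha.2.1⟩ b ⟨hb.1, hb.2.1⟩ ha.2.2 hb.2.2 g hg⟩
    obtain ⟨x, hx, hxG, hx1⟩ := Dr.ne ⟨_, hw⟩
    have h4 := hel x (RGD.Sup_mono (S := cl S (Dr.f ⟨_, hw⟩)) (S' := Sp S) (fun a ha => ⟨ha.1, ha.2.1⟩) hx)
    exact ⟨x, h4.1, hx1, hxG.2, h4.2⟩

end Cfsg.Agent.DS.Ex.Tor
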