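import Cfsg.Agent.DS.Ex.TorDefs
import Cfsg.Agent.DS.Gen.Split

/-!
# S5881, toral case: the lifts (helper60)

* `Lift.GH L H` : the lifts of the elements of `H`; `Lift.ps_of_GH`, `Lift.σ_mem_GH`, `Lift.conj_mem_GH`;
* `Lift.fix_of_conj_mem` : `conj y ∈ Γ` implies `σ y = y`; `Lift.conj_inj`;
* `Lift.conj L z` : the conjugate lift; `Lift.mem_GH_conj`;
* `Lift.mem_of_norm` : **maximality**: `M` invariant under `GH L H`, with a non-trivial `p`-element fixed by `σ`, not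
  containing `ι S`: the elements of `S` normalizing `M` lie in `H`.
-/

set_option autoImplicit false
set_option linter.unusedSectionVars false

namespace Cfsg.Agent.DS.Ex

open CoxeterSystem Cfsg Cfsg.Lie Cfsg.Lie.ChevalleyDatum
open Cfsg.Agent.Nodes.RGDChev Cfsg.Agent.BpExc.Fr Cfsg.Agent.BpExc.LangFr
open Cfsg.Agent.H469.Exc Cfsg.Agent.H936 Cfsg.Agent.DS.Cl

variable {D : ChevalleyDatum} {l : ℕ} {M : CoxeterMatrix (Fin l)} {hp : IsType D l M} {p : ℕ} [Fact p.Prime]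
  {G : Type} [Group G] {S : Subgroup G}

theorem conj_form {Y : Type*} [Group Y] (z : Y) (φ : MulAut Y) :
    MulAut.conj z * φ * (MulAut.conj z)⁻¹ = MulAut.conj (z * (φ z)⁻¹) * φ := by
  apply MulEquiv.ext
  intro x
  show z * φ (z⁻¹ * x * z) * z⁻¹ = z * (φ z)⁻¹ * φ x * (z * (φ z)⁻¹)⁻¹
  rw [map_mul, map_mul, map_inv]
  group

theorem conj_conj {Y : Type*} [Group Y] (φ : MulAut Y) (y : Y) :
    φ * MulAut.conj y * φ⁻¹ = MulAut.conj (φ y) := by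
  apply MulEquiv.ext
  intro x
  show φ (y * φ⁻¹ x * y⁻¹) = φ y * x * (φ y)⁻¹
  rw [map_mul, map_mul, map_inv, MulAut.apply_inv_self]

namespace Lift

variable (L : Lift hp p S)

/-- the lifts of the elements of `H` -/
noncomputable def GH (H : Subgroup G) : Subgroup (MulAut (YY D p)) := (H.comap L.π).map L.Γ.subtype

theorem mem_GH {H : Subgroup G} {φ : MulAut (YY D p)} : φ ∈ L.GH H ↔ ∃ h : φ ∈ L.Γ, L.π ⟨φ, h⟩ ∈ H := by
  constructor
  · rintro ⟨ψ, h, rfl⟩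
    exact ⟨ψ.2, h⟩
  · rintro ⟨h, h'⟩
    exact ⟨⟨φ, h⟩, h', rfl⟩

theorem GH_le (H : Subgroup G) : L.GH H ≤ L.Γ := Subgroup.map_subtype_le _

theorem ps_of_GH {H : Subgroup G} {k : ℕ} (h : PS k (L.GH H)) : PS k H := by
  have h1 := ps_map L.π (ps_of_map_inj L.Γ.subtype_injective h)
  rwa [Subgroup.map_comap_eq_self_of_surjective L.surj] at h1

theorem inv_iff {H : Subgroup G} {A : Subgroup (YY D p)} : L.Inv H A ↔ ∀ φ ∈ L.GH H, ∀ a ∈ A, φ a ∈ A := by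
  constructor
  · rintro h _ ⟨ψ, hψ, rfl⟩
    exact h ψ hψ
  · intro h φ hφ
    exact h φ ⟨φ, hφ, rfl⟩

include L in
theorem conj_inj : Function.Injective (MulAut.conj : YY D p →* MulAut (YY D p)) := by
  rw [injective_iff_map_eq_one]
  intro y hy
  refine L.cent y fun x => ?_
  have h1 : y * L.ι x * y⁻¹ = L.ι x := MulEquiv.congr_fun hy (L.ι x)
  rwa [mul_inv_eq_iff_eq_mul] at h1

theorem fix_of_conj_mem {y : YY D p} (hy : MulAut.conj y ∈ L.Γ) : L.σ y = y := by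
  have h1 := L.comm_σ _ hy
  rw [mul_conj_eq] at h1
  exact (L.conj_inj (mul_right_cancel h1)).symm

theorem σ_apply {φ : MulAut (YY D p)} (hφ : φ ∈ L.Γ) (y : YY D p) : L.σ (φ y) = φ (L.σ y) :=
  (MulEquiv.congr_fun (L.comm_σ φ hφ) y).symm

theorem π_eq (hS : S.Normal) (hC : Subgroup.centralizer (S : Set G) = ⊥) (φ : L.Γ) {g : G}
    (h : ∀ x x' : S, (x' : G) = g * x * g⁻¹ → (φ : MulAut (YY D p)) (L.ι x) = L.ι x') : L.π φ = g :=
  eq_of_act hS hC L.inj (L.act φ) h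

theorem σ_mem_GH (hS : S.Normal) (hC : Subgroup.centralizer (S : Set G) = ⊥) (H : Subgroup G) : L.σ ∈ L.GH H := by
  refine L.mem_GH.2 ⟨L.mem_σ, ?_⟩
  rw [L.π_eq hS hC ⟨L.σ, L.mem_σ⟩ (g := 1)]
  · exact one_mem _
  · intro x x' hx
    rw [one_mul, inv_one, mul_one] at hx
    rw [Subtype.ext hx]
    exact L.fix x

theorem conj_mem_GH (hS : S.Normal) (hC : Subgroup.centralizer (S : Set G) = ⊥) {H : Subgroup G} {x : S}
    (hx : (x : G) ∈ H) : MulAut.conj (L.ι x) ∈ L.GH H := by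
  have h1 : ∀ y y' : S, (y' : G) = x * y * (x : G)⁻¹ → L.ι x * L.ι y * (L.ι x)⁻¹ = L.ι y' := by
    intro y y' h
    rw [← map_inv, ← map_mul, ← map_mul]
    congr 1
    exact Subtype.ext h.symm
  refine L.mem_GH.2 ⟨L.full _ x h1, ?_⟩
  rw [L.π_eq hS hC ⟨_, L.full _ x h1⟩ h1]
  exact hx

/-- conjugation by `z⁻¹` -/
noncomputable def cf (z : YY D p) : MulAut (YY D p) →* MulAut (YY D p) :=
  (MulAut.conj (MulAut.conj z)⁻¹).toMonoidHom

theorem cf_apply (z : YY D p) (φ : MulAut (YY D p)) : cf z φ = (MulAut.conj z)⁻¹ * φ * MulAut.conj z := by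
  show (MulAut.conj z)⁻¹ * φ * (MulAut.conj z)⁻¹⁻¹ = _
  rw [inv_inv]

theorem eq_cf (z : YY D p) (φ : MulAut (YY D p)) : φ = MulAut.conj (z * (cf z φ z)⁻¹) * cf z φ := by
  rw [← conj_form, cf_apply]
  group

theorem cf_app (z : YY D p) (φ : MulAut (YY D p)) (x : YY D p) : φ (z * x * z⁻¹) = z * cf z φ x * z⁻¹ := by
  rw [cf_apply]
  show _ = z * (z⁻¹ * φ (z * x * z⁻¹) * z) * z⁻¹
  group

theorem cf_conj (z : YY D p) (φ : MulAut (YY D p)) : cf z (MulAut.conj z * φ * (MulAut.conj z)⁻¹) = φ := by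
  rw [cf_apply]
  group

/-- **the conjugate lift** -/
noncomputable def conj (z : YY D p) : Lift hp p S where
  σ := MulAut.conj z * L.σ * (MulAut.conj z)⁻¹
  e := L.e
  ι := (MulAut.conj z).toMonoidHom.comp L.ι
  Γ := L.Γ.comap (cf z)
  π := L.π.comp ((cf z).subgroupComap L.Γ)
  dd := L.dd
  he := L.he
  frob := by
    rw [conj_form]
    exact L.frob.conj_mul _
  fr := by
    obtain ⟨y, g, h⟩ := L.fr
    refine ⟨y * (z * (L.σ z)⁻¹)⁻¹, g, ?_⟩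
    rwa [conj_form, ← mul_assoc, ← map_mul, inv_mul_cancel_right]
  fin := by
    have := L.fin
    refine Finite.of_injective (fun u : fixedSubgroup (MulAut.conj z * L.σ * (MulAut.conj z)⁻¹) =>
      (⟨z⁻¹ * u * z, ?_⟩ : fixedSubgroup L.σ)) ?_
    · have h1 : z * L.σ (z⁻¹ * u * z) * z⁻¹ = u := u.2
      show L.σ (z⁻¹ * u * z) = z⁻¹ * u * z
      calc L.σ (z⁻¹ * u * z) = z⁻¹ * (z * L.σ (z⁻¹ * u * z) * z⁻¹) * z := by group
        _ = _ := by rw [h1]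
    · intro u v h
      have h1 : z⁻¹ * (u : YY D p) * z = z⁻¹ * v * z := congrArg Subtype.val h
      exact Subtype.ext (mul_left_cancel (mul_right_cancel h1))
  inj := (MulAut.conj z).injective.comp L.inj
  fix x := by
    show z * L.σ (z⁻¹ * (z * L.ι x * z⁻¹) * z) * z⁻¹ = z * L.ι x * z⁻¹
    rw [show z⁻¹ * (z * L.ι x * z⁻¹) * z = L.ι x by group, L.fix]
  pel u hu := by
    rintro ⟨j, hj⟩
    have h1 : z * L.σ (z⁻¹ * u * z) * z⁻¹ = u := hu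
    obtain ⟨x, hx⟩ := L.pel (z⁻¹ * u * z) (by
      calc L.σ (z⁻¹ * u * z) = z⁻¹ * (z * L.σ (z⁻¹ * u * z) * z⁻¹) * z := by group
        _ = _ := by rw [h1]) ⟨j, by
      rw [show z⁻¹ * u * z = z⁻¹ * u * z⁻¹⁻¹ by rw [inv_inv], conj_pow, hj]
      group⟩
    refine ⟨x, ?_⟩
    show z * L.ι x * z⁻¹ = u
    rw [hx]
    group
  norm y hy x := by
    have h1 : z * L.σ (z⁻¹ * y * z) * z⁻¹ = y := hy
    obtain ⟨x', hx⟩ := L.norm (z⁻¹ * y * z) (by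
      calc L.σ (z⁻¹ * y * z) = z⁻¹ * (z * L.σ (z⁻¹ * y * z) * z⁻¹) * z := by group
        _ = _ := by rw [h1]) x
    refine ⟨x', ?_⟩
    show z * L.ι x' * z⁻¹ = y * (z * L.ι x * z⁻¹) * y⁻¹
    rw [hx]
    group
  pow_dd y hy := by
    have h1 : z * L.σ (z⁻¹ * y * z) * z⁻¹ = y := hy
    obtain ⟨x, hx⟩ := L.pow_dd (z⁻¹ * y * z) (by
      calc L.σ (z⁻¹ * y * z) = z⁻¹ * (z * L.σ (z⁻¹ * y * z) * z⁻¹) * z := by group
        _ = _ := by rw [h1])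
    refine ⟨x, ?_⟩
    show z * L.ι x * z⁻¹ = y ^ L.dd
    rw [hx, show z⁻¹ * y * z = z⁻¹ * y * z⁻¹⁻¹ by rw [inv_inv], conj_pow]
    group
  hdd := L.hdd
  cent y hy := by
    have h1 := L.cent (z⁻¹ * y * z) fun x => by
      have h2 : y * (z * L.ι x * z⁻¹) = z * L.ι x * z⁻¹ * y := hy x
      calc z⁻¹ * y * z * L.ι x = z⁻¹ * (y * (z * L.ι x * z⁻¹)) * z := by group
        _ = _ := by rw [h2]; group
    calc y = z * (z⁻¹ * y * z) * z⁻¹ := by group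
      _ = 1 := by rw [h1]; group
  surj g := by
    obtain ⟨φ, rfl⟩ := L.surj g
    refine ⟨⟨MulAut.conj z * φ * (MulAut.conj z)⁻¹, ?_⟩, ?_⟩
    · rw [Subgroup.mem_comap, cf_conj]
      exact φ.2
    · show L.π _ = L.π φ
      congr 1
      exact Subtype.ext (cf_conj z φ)
  act φ x x' hx := by
    have h1 := L.act ((cf z).subgroupComap L.Γ φ) x x' hx
    show (φ : MulAut (YY D p)) (z * L.ι x * z⁻¹) = z * L.ι x' * z⁻¹
    rw [cf_app, ← h1]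
    rfl
  mem_σ := by
    rw [Subgroup.mem_comap, cf_conj]
    exact L.mem_σ
  comm_σ φ hφ := by
    have h1 := L.comm_σ _ hφ
    rw [cf_apply] at h1
    calc φ * (MulAut.conj z * L.σ * (MulAut.conj z)⁻¹)
        = MulAut.conj z * ((MulAut.conj z)⁻¹ * φ * MulAut.conj z * L.σ) * (MulAut.conj z)⁻¹ := by group
      _ = _ := by rw [h1]; group
  full y g hy := by
    rw [Subgroup.mem_comap, cf_apply, ← map_inv, ← map_mul, ← map_mul]
    refine L.full _ g fun x x' hx => ?_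
    have h1 : y * (z * L.ι x * z⁻¹) * y⁻¹ = z * L.ι x' * z⁻¹ := hy x x' hx
    calc z⁻¹ * y * z * L.ι x * (z⁻¹ * y * z)⁻¹ = z⁻¹ * (y * (z * L.ι x * z⁻¹) * y⁻¹) * z := by group
      _ = _ := by rw [h1]; group
  der φ hφ ψ hψ := by
    obtain ⟨y, hy⟩ := L.der _ hφ _ hψ
    refine ⟨z * y * z⁻¹, ?_⟩
    rw [map_mul, map_mul, map_inv, ← hy, cf_apply, cf_apply]
    group
  wfr φ hφ := by
    obtain ⟨y, hy⟩ := L.wfr _ hφ
    refine ⟨y * (z * (cf z φ z)⁻¹)⁻¹, ?_⟩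
    conv => rhs; rhs; rw [eq_cf z φ]
    rwa [← mul_assoc, ← map_mul, inv_mul_cancel_right]
  sfr hs φ hφ := by
    obtain ⟨y, hy⟩ := L.sfr hs _ hφ
    refine ⟨y * (z * (cf z φ z)⁻¹)⁻¹, ?_⟩
    conv => rhs; rhs; rw [eq_cf z φ]
    rwa [← mul_assoc, ← map_mul, inv_mul_cancel_right]

theorem conj_σ (z : YY D p) : (L.conj z).σ = MulAut.conj z * L.σ * (MulAut.conj z)⁻¹ := rfl

theorem conj_ι (z : YY D p) (x : S) : (L.conj z).ι x = z * L.ι x * z⁻¹ := rfl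

theorem mem_GH_conj (z : YY D p) {H : Subgroup G} {φ : MulAut (YY D p)} : φ ∈ (L.conj z).GH H ↔ cf z φ ∈ L.GH H := by
  rw [mem_GH, mem_GH]
  exact ⟨fun ⟨h1, h2⟩ => ⟨h1, h2⟩, fun ⟨h1, h2⟩ => ⟨h1, h2⟩⟩

theorem inv_conj (z : YY D p) {H : Subgroup G} {A : Subgroup (YY D p)} (h : L.Inv H A) :
    (L.conj z).Inv H (A.map (MulAut.conj z).toMonoidHom) := by
  rw [inv_iff] at h ⊢
  rintro φ hφ _ ⟨a, ha, rfl⟩
  exact ⟨cf z φ a, h _ ((L.mem_GH_conj z).1 hφ) a ha, (cf_app z φ a).symm⟩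

/-- the group generated by the `p`-elements of `M` fixed by `σ` -/
noncomputable def KP (M₀ : Subgroup (YY D p)) : Subgroup (YY D p) :=
  Subgroup.closure {u | u ∈ M₀ ∧ L.σ u = u ∧ ∃ j : ℕ, u ^ p ^ j = 1}

theorem KP_le (M₀ : Subgroup (YY D p)) : L.KP M₀ ≤ M₀ := (Subgroup.closure_le _).2 fun _ hu => hu.1

theorem KP_le_range (M₀ : Subgroup (YY D p)) : L.KP M₀ ≤ L.ι.range :=
  (Subgroup.closure_le _).2 fun u hu => L.pel u hu.2.1 hu.2.2

theorem map_KP {M₀ : Subgroup (YY D p)} {φ : MulAut (YY D p)} (h1 : ∀ y, L.σ (φ y) = φ (L.σ y))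
    (h2 : ∀ m ∈ M₀, φ m ∈ M₀) : ∀ u ∈ L.KP M₀, φ u ∈ L.KP M₀ := by
  have h3 : L.KP M₀ ≤ (L.KP M₀).comap φ.toMonoidHom := by
    refine (Subgroup.closure_le _).2 ?_
    rintro u ⟨hu, hσ, j, hj⟩
    refine Subgroup.subset_closure ⟨h2 u hu, ?_, j, ?_⟩
    · show L.σ (φ u) = φ u
      rw [h1, hσ]
    · show φ u ^ p ^ j = 1
      rw [← map_pow, hj, map_one]
  exact h3

theorem conj_KP {M₀ : Subgroup (YY D p)} {y : YY D p} (h1 : L.σ y = y) (h2 : ∀ m ∈ M₀, y * m * y⁻¹ ∈ M₀) :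
    ∀ u ∈ L.KP M₀, y * u * y⁻¹ ∈ L.KP M₀ := by
  refine L.map_KP (φ := MulAut.conj y) (fun x => ?_) h2
  show L.σ (y * x * y⁻¹) = y * L.σ x * y⁻¹
  rw [map_mul, map_mul, map_inv, h1]

/-- **Maximality.** -/
theorem mem_of_norm [Finite G] {H : Subgroup G} (hs : Setup S H) {M₀ : Subgroup (YY D p)}
    (hM : ∀ φ ∈ L.GH H, ∀ m ∈ M₀, φ m ∈ M₀) (hu : ∃ u ∈ M₀, u ≠ 1 ∧ L.σ u = u ∧ ∃ j : ℕ, u ^ p ^ j = 1)
    (hne : ¬ L.ι.range ≤ M₀) {x : S} (hx : ∀ m ∈ M₀, L.ι x * m * (L.ι x)⁻¹ ∈ M₀) : (x : G) ∈ H := by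
  set K : Subgroup G := ((L.KP M₀).comap L.ι).map S.subtype with hK
  have key : ∀ g : G, (∀ y : S, L.ι y ∈ L.KP M₀ → ∀ y' : S, (y' : G) = g * y * g⁻¹ → L.ι y' ∈ L.KP M₀) →
      g ∈ Subgroup.normalizer (K : Set G) := by
    intro g hg
    refine Subgroup.mem_normalizer_fintype ?_
    rintro _ ⟨y, hy, rfl⟩
    exact ⟨⟨g * y * g⁻¹, hs.normal.conj_mem _ y.2 g⟩, hg y hy _ rfl, rfl⟩
  have h1 : Subgroup.normalizer (K : Set G) = H := by
    refine Gen.normalizer_eq_of_setup hs (Subgroup.map_subtype_le _) ?_ ?_ ?_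
    · obtain ⟨u, hu, hu1, hσ, hj⟩ := hu
      have h2 : u ∈ L.KP M₀ := Subgroup.subset_closure ⟨hu, hσ, hj⟩
      obtain ⟨y, rfl⟩ := L.KP_le_range M₀ h2
      intro h3
      have h4 : (y : G) ∈ K := ⟨y, h2, rfl⟩
      rw [h3, Subgroup.mem_bot] at h4
      exact hu1 (by rw [show y = 1 from Subtype.ext h4, map_one])
    · intro h2
      apply hne
      rintro _ ⟨y, rfl⟩
      have h3 : (y : G) ∈ K := by rw [h2]; exact y.2
      obtain ⟨y', hy', e⟩ := h3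
      rw [← show y' = y from Subtype.ext e]
      exact L.KP_le M₀ hy'
    · intro g hg
      obtain ⟨φ, rfl⟩ := L.surj g
      refine key _ fun y hy y' e => ?_
      rw [← L.act φ y y' e]
      exact L.map_KP (L.σ_apply φ.2) (hM φ ⟨φ, hg, rfl⟩) _ hy
  rw [← h1]
  refine key _ fun y hy y' e => ?_
  have h2 : y' = x * y * x⁻¹ := Subtype.ext e
  rw [h2, map_mul, map_mul, map_inv]
  exact L.conj_KP (L.fix x) hx _ hy

end Lift

end Cfsg.Agent.DS.Ex
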